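import Cfsg.Agent.Lib.Involutions.Basic
import Mathlib.GroupTheory.SpecificGroups.Quaternion
import Mathlib.GroupTheory.Index

/-!
# Recognising dihedral and quaternion subgroups from generators and relations
-/

namespace Cfsg.Agent.Lib.Involutions

variable {G : Type*} [Group G]

theorem zpow_eq_iff_dvd_sub {x : G} (i j : ℤ) :
    x ^ i = x ^ j ↔ (orderOf x : ℤ) ∣ i - j := by
  rw [zpow_eq_zpow_iff_modEq, Int.modEq_iff_dvd]
  exact ⟨fun h => by simpa using h.neg_right, fun h => by simpa using h.neg_right⟩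

/-- `x ^ i` for `i : ZMod m`, when `x ^ m = 1`. -/
theorem zpow_cast_eq {x : G} {m : ℕ} (hx : orderOf x ∣ m) {i j : ℤ}
    (h : (i : ZMod m) = (j : ZMod m)) : x ^ i = x ^ j := by
  rw [zpow_eq_iff_dvd_sub]
  refine dvd_trans (Int.natCast_dvd_natCast.2 hx) ?_
  rw [← ZMod.intCast_zmod_eq_zero_iff_dvd]
  simp [h]

/-- If `y` inverts `x`, this is how `y` passes a power of `x`. -/
theorem zpow_mul_inverting {x y : G} (h : y * x * y⁻¹ = x⁻¹) (k : ℤ) :
    x ^ k * y = y * x ^ (-k) := by
  have h1 := inverts_zpow h (-k)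
  rw [neg_neg, mul_inv_eq_iff_eq_mul] at h1
  exact h1.symm

theorem card_le_of_mulHom_injective {A : Type*} [Group A] [Finite A] {H : Subgroup G} (F : A →* G)
    (hinj : Function.Injective F) (hle : ∀ u, F u ∈ H) (hcard : Nat.card H = Nat.card A) :
    Nonempty (H ≃* A) := by
  have : Finite H := Nat.finite_of_card_ne_zero (by rw [hcard]; exact Nat.card_pos.ne')
  refine ⟨(MulEquiv.ofBijective (F.codRestrict H hle) ?_).symm⟩
  exact (Nat.bijective_iff_injective_and_card _).2
    ⟨fun u v h => hinj (congrArg Subtype.val h), hcard.symm⟩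

/-- Recognition of a dihedral group. -/
theorem nonempty_mulEquiv_dihedral {H : Subgroup G} {m : ℕ} [NeZero m] {x y : G}
    (hcard : Nat.card H = 2 * m) (hxH : x ∈ H) (hyH : y ∈ H) (hx : orderOf x = m) (hy : y * y = 1)
    (hyx : y ∉ Subgroup.zpowers x) (hconj : y * x * y⁻¹ = x⁻¹) :
    Nonempty (H ≃* DihedralGroup m) := by
  let e : ZMod m → G := fun i => x ^ (i.cast : ℤ)
  have hcast : ∀ (i : ZMod m) (k : ℤ), (k : ZMod m) = i → e i = x ^ k := fun i k hk =>
    zpow_cast_eq hx.dvd (by rw [ZMod.intCast_zmod_cast, hk])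
  let f : DihedralGroup m → G := fun u => match u with
    | .r i => e i
    | .sr i => y * e i
  have hmul : ∀ u v, f (u * v) = f u * f v := by
    rintro (i | i) (j | j)
    · simp only [DihedralGroup.r_mul_r, f]
      rw [hcast (i + j) (i.cast + j.cast) (by simp), zpow_add]
    · simp only [DihedralGroup.r_mul_sr, f]
      rw [hcast (j - i) (-i.cast + j.cast) (by simp [sub_eq_neg_add]), zpow_add, ← mul_assoc,
        ← zpow_mul_inverting hconj, mul_assoc]
    · simp only [DihedralGroup.sr_mul_r, f]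
      rw [hcast (i + j) (i.cast + j.cast) (by simp), zpow_add, ← mul_assoc]
    · simp only [DihedralGroup.sr_mul_sr, f]
      rw [hcast (j - i) (-i.cast + j.cast) (by simp [sub_eq_neg_add]), zpow_add, mul_assoc y,
        ← mul_assoc (e i), zpow_mul_inverting hconj, ← mul_assoc, ← mul_assoc, hy, one_mul]
  refine card_le_of_mulHom_injective (MonoidHom.mk' f hmul) ?_ ?_
    (by rw [hcard, DihedralGroup.nat_card])
  · rw [injective_iff_map_eq_one]
    rintro (i | i) h
    · have h' : x ^ (i.cast : ℤ) = x ^ (0 : ℤ) := by rw [zpow_zero]; exact h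
      rw [zpow_eq_iff_dvd_sub, hx, sub_zero, ← ZMod.intCast_zmod_eq_zero_iff_dvd,
        ZMod.intCast_zmod_cast] at h'
      rw [h', DihedralGroup.r_zero]
    · exfalso
      have h' : y * x ^ (i.cast : ℤ) = 1 := h
      exact hyx (by rw [eq_inv_of_mul_eq_one_left h', ← zpow_neg]; exact Subgroup.zpow_mem_zpowers _ _)
  · rintro (i | i)
    · exact zpow_mem hxH _
    · exact mul_mem hyH (zpow_mem hxH _)

/-- The hom from a generalized quaternion group attached to generators satisfying its relations. -/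
theorem exists_quaternionHom {m : ℕ} [NeZero m] {x y : G} (hx : orderOf x = 2 * m)
    (hy : y * y = x ^ (m : ℤ)) (hyx : y ∉ Subgroup.zpowers x) (hconj : y * x * y⁻¹ = x⁻¹) :
    ∃ F : QuaternionGroup m →* G, Function.Injective F ∧ F (.a 1) = x ∧ F (.xa 0) = y := by
  have : NeZero (2 * m) := ⟨by have := NeZero.ne m; omega⟩
  let e : ZMod (2 * m) → G := fun i => x ^ (i.cast : ℤ)
  have hcast : ∀ (i : ZMod (2 * m)) (k : ℤ), (k : ZMod (2 * m)) = i → e i = x ^ k := fun i k hk =>
    zpow_cast_eq hx.dvd (by rw [ZMod.intCast_zmod_cast, hk])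
  let f : QuaternionGroup m → G := fun u => match u with
    | .a i => e i
    | .xa i => y * e i
  have hmul : ∀ u v, f (u * v) = f u * f v := by
    rintro (i | i) (j | j)
    · simp only [QuaternionGroup.a_mul_a, f]
      rw [hcast (i + j) (i.cast + j.cast) (by simp), zpow_add]
    · simp only [QuaternionGroup.a_mul_xa, f]
      rw [hcast (j - i) (-i.cast + j.cast) (by simp [sub_eq_neg_add]), zpow_add, ← mul_assoc,
        ← zpow_mul_inverting hconj, mul_assoc]
    · simp only [QuaternionGroup.xa_mul_a, f]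
      rw [hcast (i + j) (i.cast + j.cast) (by simp), zpow_add, ← mul_assoc]
    · simp only [QuaternionGroup.xa_mul_xa, f]
      rw [hcast ((m : ZMod (2 * m)) + j - i) ((m : ℤ) + (-i.cast + j.cast))
        (by simp [sub_eq_neg_add, add_left_comm]), zpow_add, zpow_add, mul_assoc y,
        ← mul_assoc (e i), zpow_mul_inverting hconj, ← mul_assoc, ← mul_assoc, ← mul_assoc, hy]
  refine ⟨MonoidHom.mk' f hmul, ?_, ?_, ?_⟩
  · rw [injective_iff_map_eq_one]
    rintro (i | i) h
    · have h' : x ^ (i.cast : ℤ) = x ^ (0 : ℤ) := by rw [zpow_zero]; exact h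
      rw [zpow_eq_iff_dvd_sub, hx, sub_zero, ← ZMod.intCast_zmod_eq_zero_iff_dvd,
        ZMod.intCast_zmod_cast] at h'
      rw [h', QuaternionGroup.a_zero]
    · exfalso
      have h' : y * x ^ (i.cast : ℤ) = 1 := h
      exact hyx (by rw [eq_inv_of_mul_eq_one_left h', ← zpow_neg]; exact Subgroup.zpow_mem_zpowers _ _)
  · show e 1 = x
    rw [hcast 1 1 (by simp), zpow_one]
  · show y * e 0 = y
    rw [hcast 0 0 (by simp), zpow_zero, mul_one]

theorem quaternion_a_mem {m : ℕ} [NeZero m] (i : ZMod (2 * m)) :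
    (QuaternionGroup.a i : QuaternionGroup m) ∈
      Subgroup.closure {QuaternionGroup.a 1, QuaternionGroup.xa 0} := by
  have : NeZero (2 * m) := ⟨by have := NeZero.ne m; omega⟩
  rw [← ZMod.natCast_zmod_val i, ← QuaternionGroup.a_one_pow]
  exact pow_mem (Subgroup.subset_closure (Set.mem_insert _ _)) _

theorem quaternionHom_range {m : ℕ} [NeZero m] (F : QuaternionGroup m →* G) :
    F.range = Subgroup.closure {F (.a 1), F (.xa 0)} := by
  have htop : Subgroup.closure {(QuaternionGroup.a 1 : QuaternionGroup m), .xa 0} = ⊤ := by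
    refine top_le_iff.1 fun u _ => ?_
    rcases u with i | i
    · exact quaternion_a_mem i
    · have h1 : (QuaternionGroup.xa i : QuaternionGroup m) = .xa 0 * .a i := by simp
      rw [h1]
      exact mul_mem (Subgroup.subset_closure (Set.mem_insert_of_mem _ rfl)) (quaternion_a_mem i)
  rw [MonoidHom.range_eq_map, ← htop, MonoidHom.map_closure, Set.image_insert_eq,
    Set.image_singleton]

/-- Recognition of a generalized quaternion group. -/
theorem nonempty_mulEquiv_quaternion {H : Subgroup G} {m : ℕ} [NeZero m] {x y : G}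
    (hcard : Nat.card H = 4 * m) (hxH : x ∈ H) (hyH : y ∈ H) (hx : orderOf x = 2 * m)
    (hy : y * y = x ^ (m : ℤ)) (hyx : y ∉ Subgroup.zpowers x) (hconj : y * x * y⁻¹ = x⁻¹) :
    Nonempty (H ≃* QuaternionGroup m) := by
  obtain ⟨F, hinj, hF1, hF0⟩ := exists_quaternionHom hx hy hyx hconj
  refine card_le_of_mulHom_injective F hinj (fun u => ?_)
    (by rw [hcard, Nat.card_eq_fintype_card, QuaternionGroup.card])
  have hu : F u ∈ F.range := ⟨u, rfl⟩
  rw [quaternionHom_range, hF1, hF0] at hu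
  exact (Subgroup.closure_le H).2 (Set.insert_subset hxH (Set.singleton_subset_iff.2 hyH)) hu

/-- `[N : T] = 2` from a coset decomposition `N = T ∪ T b`. -/
theorem relIndex_eq_two_of_cover {T N : Subgroup G} {b : G} (hbN : b ∈ N) (hbT : b ∉ T)
    (hb2 : b * b ∈ T) (hcov : ∀ g ∈ N, g ∈ T ∨ g * b ∈ T) : T.relIndex N = 2 := by
  rw [Subgroup.relIndex, Subgroup.index_eq_two_iff]
  refine ⟨⟨b, hbN⟩, fun ⟨g, hg⟩ => ?_⟩
  simp only [Subgroup.mem_subgroupOf, Subgroup.coe_mul, xor_iff_iff_not]
  exact ⟨fun h hgT => hbT ((Subgroup.mul_mem_cancel_left _ hgT).1 h),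
    fun h => (hcov g hg).resolve_left h⟩

end Cfsg.Agent.Lib.Involutions
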