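import Mathlib.GroupTheory.OrderOfElement
import Mathlib.GroupTheory.Sylow
import Mathlib.GroupTheory.SpecificGroups.Dihedral
import Mathlib.Algebra.Group.Conj
import Mathlib.Tactic.Group
import Mathlib.Tactic.Linarith

/-!
# Pairs of involutions

Elementary facts about two involutions and the dihedral subgroup they generate.
-/

namespace Cfsg.Agent.Lib.Involutions

variable {G : Type*} [Group G]

theorem invol_mul_self {x : G} (hx : orderOf x = 2) : x * x = 1 := by
  rw [← sq, ← hx, pow_orderOf_eq_one]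

theorem invol_inv {x : G} (hx : orderOf x = 2) : x⁻¹ = x :=
  inv_eq_of_mul_eq_one_right (invol_mul_self hx)

theorem invol_ne_one {x : G} (hx : orderOf x = 2) : x ≠ 1 := by
  rintro rfl
  simp at hx

theorem orderOf_eq_two_of_mul_self {x : G} (h : x * x = 1) (h1 : x ≠ 1) : orderOf x = 2 :=
  orderOf_eq_prime (by rw [sq, h]) h1

theorem orderOf_conj_eq (g x : G) : orderOf (g * x * g⁻¹) = orderOf x := by
  simpa using orderOf_injective (MulAut.conj g).toMonoidHom (MulAut.conj g).injective x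

/-- If `t` inverts `a` then it inverts all its powers. -/
theorem inverts_zpow {t a : G} (h : t * a * t⁻¹ = a⁻¹) (k : ℤ) :
    t * a ^ k * t⁻¹ = a ^ (-k) := by
  rw [← conj_zpow, h, inv_zpow, zpow_neg]

theorem inverts_pow {t a : G} (h : t * a * t⁻¹ = a⁻¹) (k : ℕ) :
    t * a ^ k * t⁻¹ = (a ^ k)⁻¹ := by
  rw [← conj_pow, h, inv_pow]

theorem conj_mul_left_invol {x y : G} (hx : orderOf x = 2) (hy : orderOf y = 2) :
    x * (x * y) * x⁻¹ = (x * y)⁻¹ := by
  rw [mul_inv_rev, invol_inv hx, invol_inv hy, ← mul_assoc, invol_mul_self hx, one_mul]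

theorem conj_mul_right_invol {x y : G} (hx : orderOf x = 2) (hy : orderOf y = 2) :
    y * (x * y) * y⁻¹ = (x * y)⁻¹ := by
  rw [mul_inv_rev, invol_inv hx, invol_inv hy, mul_assoc, mul_assoc, invol_mul_self hy, mul_one]

/-- `x (xy)^k = (xy)^(-k) x`. -/
theorem invol_mul_zpow {x y : G} (hx : orderOf x = 2) (hy : orderOf y = 2) (k : ℤ) :
    x * (x * y) ^ k = (x * y) ^ (-k) * x := by
  have h := inverts_zpow (conj_mul_left_invol hx hy) k
  rw [← h, inv_mul_cancel_right]

theorem invol_right_eq {x y : G} (_hx : orderOf x = 2) (hy : orderOf y = 2) :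
    y = (x * y) ^ (-1 : ℤ) * x := by
  rw [zpow_neg, zpow_one, mul_inv_rev, invol_inv hy, inv_mul_cancel_right]

/-- Normal form of the elements of the group generated by two involutions. -/
theorem mem_closure_pair_invol {x y : G} (hx : orderOf x = 2) (hy : orderOf y = 2) (d : G) :
    d ∈ Subgroup.closure ({x, y} : Set G) ↔
      ∃ k : ℤ, d = (x * y) ^ k ∨ d = (x * y) ^ k * x := by
  constructor
  · intro hd
    induction hd using Subgroup.closure_induction with
    | mem z hz =>
      rcases hz with rfl | hz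
      · exact ⟨0, Or.inr (by simp)⟩
      · rw [Set.mem_singleton_iff] at hz
        subst hz
        exact ⟨-1, Or.inr (invol_right_eq hx hy)⟩
    | one => exact ⟨0, Or.inl (by simp)⟩
    | mul a b _ _ ha hb =>
      obtain ⟨i, rfl | rfl⟩ := ha <;> obtain ⟨j, rfl | rfl⟩ := hb
      · exact ⟨i + j, Or.inl (zpow_add _ _ _).symm⟩
      · exact ⟨i + j, Or.inr (by rw [zpow_add, mul_assoc])⟩
      · exact ⟨i + -j, Or.inr (by rw [mul_assoc, invol_mul_zpow hx hy, zpow_add, mul_assoc])⟩
      · refine ⟨i + -j, Or.inl ?_⟩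
        calc (x * y) ^ i * x * ((x * y) ^ j * x)
            = (x * y) ^ i * ((x * (x * y) ^ j) * x) := by simp only [mul_assoc]
          _ = (x * y) ^ i * (x * y) ^ (-j) := by
                rw [invol_mul_zpow hx hy, mul_assoc ((x * y) ^ (-j)), invol_mul_self hx, mul_one]
          _ = (x * y) ^ (i + -j) := (zpow_add _ _ _).symm
    | inv a _ ha =>
      obtain ⟨i, rfl | rfl⟩ := ha
      · exact ⟨-i, Or.inl (zpow_neg _ _).symm⟩
      · refine ⟨i, Or.inr ?_⟩
        rw [mul_inv_rev, invol_inv hx, ← zpow_neg, invol_mul_zpow hx hy, neg_neg]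
  · have hxm : x ∈ Subgroup.closure ({x, y} : Set G) := Subgroup.subset_closure (Or.inl rfl)
    have hym : y ∈ Subgroup.closure ({x, y} : Set G) := Subgroup.subset_closure (Or.inr rfl)
    rintro ⟨k, rfl | rfl⟩
    · exact zpow_mem (mul_mem hxm hym) k
    · exact mul_mem (zpow_mem (mul_mem hxm hym) k) hxm

theorem zpow_mul_invol_sq {x y : G} (hx : orderOf x = 2) (hy : orderOf y = 2) (k : ℤ) :
    (x * y) ^ k * x * ((x * y) ^ k * x) = 1 := by
  calc (x * y) ^ k * x * ((x * y) ^ k * x)
      = (x * y) ^ k * ((x * (x * y) ^ k) * x) := by simp only [mul_assoc]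
    _ = 1 := by
        rw [invol_mul_zpow hx hy, mul_assoc ((x * y) ^ (-k)), invol_mul_self hx, mul_one,
          ← zpow_add, add_neg_cancel, zpow_zero]

/-- A conjugate of `x` inside `⟨x, y⟩` has the form `(xy)^(2k) x`. -/
theorem conj_invol_of_mem_closure {x y d : G} (hx : orderOf x = 2) (hy : orderOf y = 2)
    (hd : d ∈ Subgroup.closure ({x, y} : Set G)) :
    ∃ k : ℤ, d * x * d⁻¹ = (x * y) ^ (2 * k) * x := by
  obtain ⟨k, rfl | rfl⟩ := (mem_closure_pair_invol hx hy d).1 hd
  · refine ⟨k, ?_⟩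
    rw [← zpow_neg, mul_assoc, invol_mul_zpow hx hy, neg_neg, ← mul_assoc, ← zpow_add, two_mul]
  · refine ⟨k, ?_⟩
    rw [mul_inv_rev, invol_inv hx, ← zpow_neg,
      mul_assoc ((x * y) ^ k) x x, invol_mul_self hx, mul_one, invol_mul_zpow hx hy, neg_neg,
      ← mul_assoc, ← zpow_add, two_mul]

theorem zpow_mem_closure_pair {x y : G} (k : ℤ) :
    (x * y) ^ k ∈ Subgroup.closure ({x, y} : Set G) :=
  have hxm : x ∈ Subgroup.closure ({x, y} : Set G) := Subgroup.subset_closure (Or.inl rfl)
  have hym : y ∈ Subgroup.closure ({x, y} : Set G) := Subgroup.subset_closure (Or.inr rfl)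
  zpow_mem (mul_mem hxm hym) k

/-- Two involutions with product of order `2m+1` are conjugate by `(xy)^m`. -/
theorem conj_of_orderOf_mul_odd {x y : G} (hx : orderOf x = 2) (hy : orderOf y = 2) {m : ℕ}
    (hm : orderOf (x * y) = 2 * m + 1) :
    (x * y) ^ (m : ℤ) * x * ((x * y) ^ (m : ℤ))⁻¹ = y := by
  rw [← zpow_neg, mul_assoc, invol_mul_zpow hx hy, neg_neg, ← mul_assoc, ← zpow_add]
  conv_rhs => rw [invol_right_eq hx hy]
  congr 1
  rw [← mul_right_inj (x * y), ← zpow_one_add, ← zpow_one_add]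
  norm_num
  rw [show (1 : ℤ) + ((m : ℤ) + (m : ℤ)) = ((2 * m + 1 : ℕ) : ℤ) by push_cast; ring, zpow_natCast,
    ← hm, pow_orderOf_eq_one]

theorem exists_conj_of_odd {x y : G} (hx : orderOf x = 2) (hy : orderOf y = 2)
    (hodd : Odd (orderOf (x * y))) :
    ∃ d ∈ Subgroup.closure ({x, y} : Set G), d * x * d⁻¹ = y := by
  obtain ⟨m, hm⟩ := hodd
  exact ⟨_, zpow_mem_closure_pair _, conj_of_orderOf_mul_odd hx hy hm⟩

theorem isConj_of_odd {x y : G} (hx : orderOf x = 2) (hy : orderOf y = 2)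
    (hodd : Odd (orderOf (x * y))) : IsConj x y :=
  let ⟨d, _, hd⟩ := exists_conj_of_odd hx hy hodd
  isConj_iff.2 ⟨d, hd⟩

/-- If `xy` has even order, `x` and `y` are not conjugate in `⟨x, y⟩`. -/
theorem not_conj_in_closure_of_even {x y d : G} (hx : orderOf x = 2) (hy : orderOf y = 2)
    (heven : Even (orderOf (x * y))) (hd : d ∈ Subgroup.closure ({x, y} : Set G)) :
    d * x * d⁻¹ ≠ y := by
  intro h
  obtain ⟨k, hk⟩ := conj_invol_of_mem_closure hx hy hd
  rw [h] at hk
  conv_lhs at hk => rw [invol_right_eq hx hy]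
  have h2 : (x * y) ^ (2 * k + 1) = 1 := by
    rw [zpow_add, ← mul_right_cancel hk, ← zpow_add]
    norm_num
  rw [← orderOf_dvd_iff_zpow_eq_one] at h2
  obtain ⟨c, hc⟩ := heven
  rw [hc] at h2
  have h3 : (2 : ℤ) ∣ 2 * k + 1 := dvd_trans ⟨(c : ℤ), by push_cast; ring⟩ h2
  omega

/-- The involution in the centre of the group generated by two involutions with product of even
order. -/
theorem central_invol [Finite G] {x y : G} (hx : orderOf x = 2) (hy : orderOf y = 2)
    (heven : Even (orderOf (x * y))) :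
    orderOf ((x * y) ^ (orderOf (x * y) / 2)) = 2 ∧
      Commute ((x * y) ^ (orderOf (x * y) / 2)) x ∧
      Commute ((x * y) ^ (orderOf (x * y) / 2)) y := by
  set a := x * y with ha
  set w := a ^ (orderOf a / 2) with hw
  have hn : 0 < orderOf a := orderOf_pos a
  obtain ⟨m, hm⟩ := heven
  have hw2 : orderOf w = 2 := by
    rw [hw, orderOf_pow, show orderOf a / 2 = m by omega, hm,
      Nat.gcd_eq_right ⟨2, by ring⟩]
    rw [show m + m = 2 * m by ring, Nat.mul_div_cancel _ (by omega)]
  refine ⟨hw2, ?_, ?_⟩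
  · have h := inverts_pow (conj_mul_left_invol hx hy) (orderOf a / 2)
    rw [← ha, ← hw, invol_inv hw2, mul_inv_eq_iff_eq_mul] at h
    exact h.symm
  · have h := inverts_pow (conj_mul_right_invol hx hy) (orderOf a / 2)
    rw [← ha, ← hw, invol_inv hw2, mul_inv_eq_iff_eq_mul] at h
    exact h.symm

/-- Non-conjugate involutions commute with a common involution. -/
theorem exists_invol_commute [Finite G] {x y : G} (hx : orderOf x = 2) (hy : orderOf y = 2)
    (h : ¬ IsConj x y) :
    ∃ w : G, orderOf w = 2 ∧ Commute w x ∧ Commute w y :=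
  ⟨_, central_invol hx hy (Nat.not_odd_iff_even.1 fun ho => h (isConj_of_odd hx hy ho))⟩

/-- An involution inverting an element of order at least three gives two involutions. -/
theorem inverts_mul_invol {t x : G} (ht : orderOf t = 2) (hinv : t * x * t⁻¹ = x⁻¹)
    (hne : t * x ≠ 1) : orderOf (t * x) = 2 := by
  refine orderOf_eq_two_of_mul_self ?_ hne
  rw [invol_inv ht] at hinv
  calc t * x * (t * x) = (t * x * t) * x := by simp only [mul_assoc]
    _ = 1 := by rw [hinv, inv_mul_cancel]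

end Cfsg.Agent.Lib.Involutions
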