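import Cfsg.Agent.Lib.Involutions.Basic
import Mathlib.GroupTheory.Transfer
import Mathlib.GroupTheory.Index
import Mathlib.GroupTheory.GroupAction.ConjAct
import Mathlib.Algebra.BigOperators.Group.Finset.Basic
import Mathlib.Data.ZMod.Basic

/-!
# Counting involutions
-/

namespace Cfsg.Agent.Lib.Involutions

variable {G : Type*} [Group G]

/-- A finite group of even order has an odd number of involutions. -/
theorem odd_card_invol [Finite G] (heven : Even (Nat.card G)) :
    Odd (Nat.card {t : G // orderOf t = 2}) := by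
  classical
  have := Fintype.ofFinite G
  have h0 : ∑ g ∈ Finset.univ.filter (fun g : G => g * g ≠ 1), (1 : ZMod 2) = 0 := by
    refine Finset.sum_involution (fun g _ => g⁻¹) (fun _ _ => by decide) ?_ ?_ ?_
    · intro g hg _ hgi
      rw [Finset.mem_filter] at hg
      exact hg.2 (mul_eq_one_iff_eq_inv.2 hgi.symm)
    · intro g hg
      rw [Finset.mem_filter] at hg ⊢
      exact ⟨Finset.mem_univ _, fun h => hg.2 (by rwa [← mul_inv_rev, inv_eq_one] at h)⟩
    · intro g _
      exact inv_inv g
  rw [Finset.sum_const, nsmul_one, ZMod.natCast_eq_zero_iff_even] at h0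
  have hsplit := Finset.card_filter_add_card_filter_not (s := (Finset.univ : Finset G))
    (fun g : G => g * g ≠ 1)
  have h1 : (Finset.univ.filter (fun g : G => ¬ g * g ≠ 1)) =
      insert 1 (Finset.univ.filter (fun g : G => orderOf g = 2)) := by
    ext g
    simp only [ne_eq, not_not, Finset.mem_filter, Finset.mem_univ, true_and, Finset.mem_insert]
    constructor
    · intro h
      by_cases hg : g = 1
      · exact Or.inl hg
      · exact Or.inr (orderOf_eq_two_of_mul_self h hg)
    · rintro (rfl | h)
      · exact one_mul 1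
      · exact invol_mul_self h
  rw [h1, Finset.card_insert_of_notMem (by simp), Finset.card_univ,
    ← Nat.card_eq_fintype_card] at hsplit
  rw [Nat.card_eq_fintype_card, Fintype.card_subtype, ← Nat.not_even_iff_odd]
  intro he
  rw [← hsplit, Nat.even_add, iff_true_left h0, Nat.even_add_one] at heven
  exact heven he

/-- A finite `2`-group that is nontrivial has a subgroup of index `2`. -/
theorem exists_index_two_of_two_group [Finite G] (hG : IsPGroup 2 G) (h1 : 1 < Nat.card G) :
    ∃ H : Subgroup G, H.index = 2 := by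
  have : Fact (Nat.Prime 2) := ⟨Nat.prime_two⟩
  obtain ⟨k, hk⟩ := IsPGroup.iff_card.1 hG
  obtain ⟨j, rfl⟩ : ∃ j, k = j + 1 := Nat.exists_eq_succ_of_ne_zero (by rintro rfl; simp [hk] at h1)
  obtain ⟨H, hH⟩ := Sylow.exists_subgroup_card_pow_prime 2 (G := G) (n := j)
    ⟨2, by rw [hk, pow_succ]⟩
  refine ⟨H, ?_⟩
  have h := H.card_mul_index
  rw [hH, hk, pow_succ] at h
  exact Nat.eq_of_mul_eq_mul_left (by positivity) h

/-- A finite group of even order with a cyclic Sylow `2`-subgroup has a subgroup of index `2`. -/
theorem exists_index_two_of_cyclic_sylow [Finite G] (heven : Even (Nat.card G)) (T : Sylow 2 G)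
    (hT : IsCyclic (T : Subgroup G)) : ∃ H : Subgroup G, H.index = 2 := by
  have : Fact (Nat.Prime 2) := ⟨Nat.prime_two⟩
  have hmin : (Nat.card G).minFac = 2 := by
    rw [Nat.minFac_eq_two_iff]
    exact heven.two_dvd
  set f := MonoidHom.transferSylow T (hT.normalizer_le_centralizer hmin) with hf
  have hc : f.ker.IsComplement' (T : Subgroup G) :=
    MonoidHom.ker_transferSylow_isComplement' T _
  have h1 : 1 < Nat.card (G ⧸ f.ker) := by
    rw [← Subgroup.index_eq_card, hc.symm.index_eq_card]
    exact Nat.lt_of_lt_of_le one_lt_two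
      (Nat.le_of_dvd Nat.card_pos (T.dvd_card_of_dvd_card heven.two_dvd))
  have h2 : IsPGroup 2 (G ⧸ f.ker) := by
    rw [IsPGroup.iff_card]
    obtain ⟨n, hn⟩ := IsPGroup.iff_card.1 T.isPGroup'
    exact ⟨n, by rw [← Subgroup.index_eq_card, hc.symm.index_eq_card, hn]⟩
  obtain ⟨H, hH⟩ := exists_index_two_of_two_group h2 h1
  exact ⟨H.comap (QuotientGroup.mk' f.ker),
    by rw [Subgroup.index_comap_of_surjective _ (QuotientGroup.mk'_surjective _), hH]⟩

/-- The elements inverting a real element form a coset of its centralizer. -/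
theorem card_conj_eq_card_centralizer (x y : G) (h : IsConj x y) :
    Nat.card {g : G // g * x * g⁻¹ = y} = Nat.card (Subgroup.centralizer ({x} : Set G)) := by
  obtain ⟨c, hc⟩ := isConj_iff.1 h
  refine Nat.card_congr
    { toFun := fun g => ⟨c⁻¹ * g, Subgroup.mem_centralizer_singleton_iff.2 ?_⟩
      invFun := fun g => ⟨c * g, ?_⟩
      left_inv := fun g => by ext; simp
      right_inv := fun g => by ext; simp }
  · have h2 := g.2
    conv_rhs at h2 => rw [← hc]
    rw [mul_inv_eq_iff_eq_mul] at h2
    rw [mul_assoc, h2]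
    group
  · have h2 : (g : G) * x = x * g := Subgroup.mem_centralizer_singleton_iff.1 g.2
    rw [mul_inv_rev, mul_assoc c, h2, ← hc]
    group

/-- Pairs of involutions with product `x` inject into the inverting involutions. -/
theorem pair_inverts {u v : G} (hu : orderOf u = 2) (hv : orderOf v = 2) :
    u * (u * v) * u⁻¹ = (u * v)⁻¹ :=
  conj_mul_left_invol hu hv

end Cfsg.Agent.Lib.Involutions
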