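import Mathlib
import Cfsg.Agent.Lib.Involutions.Basic
import Cfsg.Agent.Lib.Involutions.Counting

/-!
# The Brauer–Fowler counting argument
-/

namespace Cfsg.Agent.Lib.Involutions

variable {G : Type*} [Group G]

/-- The extended centralizer of `x`: elements fixing or inverting `x` by conjugation. -/
def extCentralizer (x : G) : Subgroup G where
  carrier := {g | g * x * g⁻¹ = x ∨ g * x * g⁻¹ = x⁻¹}
  one_mem' := Or.inl (by simp)
  mul_mem' := by
    intro a b ha hb
    have e : a * b * x * (a * b)⁻¹ = a * (b * x * b⁻¹) * a⁻¹ := by group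
    have einv : a * x⁻¹ * a⁻¹ = (a * x * a⁻¹)⁻¹ := by group
    simp only [Set.mem_setOf_eq] at ha hb ⊢
    rcases hb with hb | hb <;> rcases ha with ha | ha <;> rw [e, hb] <;>
      simp [einv, ha]
  inv_mem' := by
    intro a ha
    simp only [Set.mem_setOf_eq] at ha ⊢
    rcases ha with ha | ha
    · left
      calc a⁻¹ * x * a⁻¹⁻¹ = a⁻¹ * (a * x * a⁻¹) * a⁻¹⁻¹ := by rw [ha]
        _ = x := by group
    · right
      calc a⁻¹ * x * a⁻¹⁻¹ = (a⁻¹ * (a * x * a⁻¹) * a⁻¹⁻¹)⁻¹ := by rw [ha]; group
        _ = x⁻¹ := by group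

theorem mem_extCentralizer {x g : G} :
    g ∈ extCentralizer x ↔ g * x * g⁻¹ = x ∨ g * x * g⁻¹ = x⁻¹ := Iff.rfl

theorem conj_eq_self_iff_mem_centralizer {x g : G} :
    g * x * g⁻¹ = x ↔ g ∈ Subgroup.centralizer ({x} : Set G) := by
  rw [Subgroup.mem_centralizer_singleton_iff, mul_inv_eq_iff_eq_mul]

theorem card_inverting {x u : G} (hu : u * x * u⁻¹ = x⁻¹) :
    Nat.card {g : G // g * x * g⁻¹ = x⁻¹} = Nat.card (Subgroup.centralizer ({x} : Set G)) :=
  card_conj_eq_card_centralizer x x⁻¹ (isConj_iff.2 ⟨u, hu⟩)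

theorem card_extCentralizer [Finite G] {x u : G} (hx : x ≠ x⁻¹) (hu : u * x * u⁻¹ = x⁻¹) :
    Nat.card (extCentralizer x) = 2 * Nat.card (Subgroup.centralizer ({x} : Set G)) := by
  have h : (extCentralizer x : Set G) =
      {g | g * x * g⁻¹ = x} ∪ {g | g * x * g⁻¹ = x⁻¹} := rfl
  have hd : Disjoint {g : G | g * x * g⁻¹ = x} {g | g * x * g⁻¹ = x⁻¹} :=
    Set.disjoint_left.2 fun g h1 h2 => hx (h1.symm.trans h2)
  have h1 : {g : G | g * x * g⁻¹ = x}.ncard = Nat.card (Subgroup.centralizer ({x} : Set G)) := by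
    rw [← Nat.card_coe_set_eq]
    exact Nat.card_congr (Equiv.subtypeEquivRight fun g => conj_eq_self_iff_mem_centralizer)
  have h2 : {g : G | g * x * g⁻¹ = x⁻¹}.ncard =
      Nat.card (Subgroup.centralizer ({x} : Set G)) := by
    rw [← Nat.card_coe_set_eq]
    exact card_inverting hu
  rw [← SetLike.coe_sort_coe, Nat.card_coe_set_eq, h, Set.ncard_union_eq hd, h1, h2, two_mul]

/-- Class equation for one class. -/
theorem card_class_mul (x : G) :
    Nat.card {y : G // IsConj x y} * Nat.card (Subgroup.centralizer ({x} : Set G)) = Nat.card G := by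
  classical
  rw [← Nat.card_prod]
  let e : {y : G // IsConj x y} × (Subgroup.centralizer ({x} : Set G)) → G :=
    fun p => Classical.choose (isConj_iff.1 p.1.2) * p.2.1
  refine Nat.card_eq_of_bijective e ⟨?_, ?_⟩
  · rintro ⟨⟨y, hy⟩, c⟩ ⟨⟨y', hy'⟩, c'⟩ h
    have key : ∀ (z : G) (hz : IsConj x z) (d : Subgroup.centralizer ({x} : Set G)),
        e (⟨z, hz⟩, d) * x * (e (⟨z, hz⟩, d))⁻¹ = z := by
      intro z hz d
      have hs := Classical.choose_spec (isConj_iff.1 hz)
      have hd := conj_eq_self_iff_mem_centralizer.2 d.2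
      calc _ = Classical.choose (isConj_iff.1 hz) * ((d : G) * x * (d : G)⁻¹) *
            (Classical.choose (isConj_iff.1 hz))⁻¹ := by simp only [e]; group
        _ = z := by rw [hd]; exact hs
    have hyy : y = y' := by rw [← key y hy c, ← key y' hy' c', h]
    subst hyy
    simp only [e, mul_right_inj] at h
    rw [Subtype.ext h]
  · intro g
    have hy : IsConj x (g * x * g⁻¹) := isConj_iff.2 ⟨g, rfl⟩
    set b := Classical.choose (isConj_iff.1 hy) with hb
    have hs : b * x * b⁻¹ = g * x * g⁻¹ := Classical.choose_spec (isConj_iff.1 hy)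
    refine ⟨(⟨_, hy⟩, ⟨b⁻¹ * g, conj_eq_self_iff_mem_centralizer.1 ?_⟩), by simp [e, ← hb]⟩
    calc b⁻¹ * g * x * (b⁻¹ * g)⁻¹ = b⁻¹ * (g * x * g⁻¹) * b := by group
      _ = x := by rw [← hs]; group

theorem isConj_orderOf {x y : G} (h : IsConj x y) : orderOf y = orderOf x := by
  obtain ⟨g, rfl⟩ := isConj_iff.1 h
  exact orderOf_conj_eq g x

theorem card_le_invol_mul_centralizer [Finite G] {t : G} (ht : orderOf t = 2) :
    Nat.card G ≤
      Nat.card {u : G // orderOf u = 2} * Nat.card (Subgroup.centralizer ({t} : Set G)) := by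
  rw [← card_class_mul t]
  refine Nat.mul_le_mul_right _ (Nat.card_le_card_of_injective
    (fun y => (⟨y.1, (isConj_orderOf y.2).trans ht⟩ : {u : G // orderOf u = 2})) ?_)
  intro a b h
  exact Subtype.ext (congrArg (fun s : {u : G // orderOf u = 2} => s.1) h)

theorem exists_invol_of_even [Finite G] (heven : Even (Nat.card G)) :
    ∃ t : G, orderOf t = 2 :=
  exists_prime_orderOf_dvd_card' 2 heven.two_dvd

theorem centralizer_ne_top_of_invol [Finite G] (hZ : Odd (Nat.card (Subgroup.center G))) {x : G}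
    (hx : orderOf x = 2) : Subgroup.centralizer ({x} : Set G) ≠ ⊤ := by
  intro h
  have hxz : x ∈ Subgroup.center G := by
    rw [Subgroup.mem_center_iff]
    intro g
    have hg : g ∈ Subgroup.centralizer ({x} : Set G) := h ▸ Subgroup.mem_top g
    exact Subgroup.mem_centralizer_singleton_iff.1 hg
  have h2 : 2 ∣ Nat.card (Subgroup.center G) := by
    rw [← hx, ← Subgroup.orderOf_mk x hxz]
    exact orderOf_dvd_natCard _
  exact (Nat.not_even_iff_odd.2 hZ) (even_iff_two_dvd.2 h2)

/-- The Brauer–Fowler theorem, in the form `2 |G:H| n^2 < |G| (|G| + n)`. -/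
theorem brauer_fowler [Finite G] (heven : Even (Nat.card G))
    (hZ : Odd (Nat.card (Subgroup.center G))) (hno : ∀ H : Subgroup G, H.index ≠ 2) :
    ∃ H : Subgroup G, H ≠ ⊤ ∧
      (∀ K : Subgroup G, K ≠ ⊤ → Nat.card K ≤ Nat.card H) ∧
      2 * H.index * (Nat.card {t : G // orderOf t = 2}) ^ 2
        < Nat.card G * (Nat.card G + Nat.card {t : G // orderOf t = 2}) := by
  classical
  have := Fintype.ofFinite G
  obtain ⟨t, ht⟩ := exists_invol_of_even heven
  have hne : Nonempty {K : Subgroup G // K ≠ ⊤} :=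
    ⟨⟨_, centralizer_ne_top_of_invol hZ ht⟩⟩
  obtain ⟨⟨H, hH⟩, hmax⟩ := Finite.exists_max (fun K : {K : Subgroup G // K ≠ ⊤} => Nat.card K.1)
  have hmax' : ∀ K : Subgroup G, K ≠ ⊤ → Nat.card K ≤ Nat.card H := fun K hK => hmax ⟨K, hK⟩
  refine ⟨H, hH, hmax', ?_⟩
  set d := H.index with hd
  have hdH : Nat.card H * d = Nat.card G := H.card_mul_index
  have hbound : ∀ K : Subgroup G, K ≠ ⊤ → Nat.card K * d ≤ Nat.card G := fun K hK =>
    (Nat.mul_le_mul_right d (hmax' K hK)).trans_eq hdH
  set I : Finset G := Finset.univ.filter fun u => orderOf u = 2 with hI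
  have hn : Nat.card {t : G // orderOf t = 2} = I.card := by
    rw [Nat.card_eq_fintype_card, Fintype.card_subtype]
  set n := I.card with hn'
  rw [hn]
  set P := I.offDiag with hP
  let f : G × G → G := fun p => p.1 * p.2
  set T := P.image f with hT
  have hPcard : P.card = n * n - n := Finset.offDiag_card I
  have memI : ∀ {u : G}, u ∈ I ↔ orderOf u = 2 := fun {u} => by simp [hI]
  have memP : ∀ {p : G × G}, p ∈ P → orderOf p.1 = 2 ∧ orderOf p.2 = 2 ∧ p.1 ≠ p.2 := by
    intro p hp
    rw [hP, Finset.mem_offDiag] at hp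
    exact ⟨memI.1 hp.1, memI.1 hp.2.1, hp.2.2⟩
  have hsum : P.card = ∑ x ∈ T, (P.filter fun p => f p = x).card :=
    Finset.card_eq_sum_card_image f P
  let c : G → ℕ := fun x => Nat.card (Subgroup.centralizer ({x} : Set G))
  -- each fibre is small
  have hfib : ∀ x ∈ T,
      (P.filter fun p => f p = x).card + (if orderOf x = 2 then 2 else 0) ≤ c x := by
    intro x hx
    obtain ⟨p, hp, rfl⟩ := Finset.mem_image.1 hx
    obtain ⟨hp1, hp2, hp12⟩ := memP hp
    set x := f p with hxdef
    have hu : p.1 * x * p.1⁻¹ = x⁻¹ := conj_mul_left_invol hp1 hp2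
    set S := Finset.univ.filter fun g : G => g * x * g⁻¹ = x⁻¹ with hS
    have hScard : S.card = c x := by
      rw [hS, ← Fintype.card_subtype, ← Nat.card_eq_fintype_card]
      exact card_inverting hu
    set F := (P.filter fun q => f q = x).image Prod.fst with hF
    have hFcard : F.card = (P.filter fun q => f q = x).card := by
      refine Finset.card_image_of_injOn ?_
      intro q hq q' hq' hqq
      simp only [Finset.coe_filter, Set.mem_setOf_eq] at hq hq'
      refine Prod.ext hqq ?_
      have h := hq.2.trans hq'.2.symm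
      simp only [f, hqq] at h
      exact mul_left_cancel h
    have hFS : F ⊆ S := by
      intro u hu'
      obtain ⟨q, hq, rfl⟩ := Finset.mem_image.1 hu'
      rw [Finset.mem_filter] at hq
      obtain ⟨hq1, hq2, -⟩ := memP hq.1
      rw [hS, Finset.mem_filter, ← hq.2]
      exact ⟨Finset.mem_univ _, conj_mul_left_invol hq1 hq2⟩
    rw [← hFcard, ← hScard]
    split_ifs with hx2
    · have hxinv : x⁻¹ = x := invol_inv hx2
      have h1 : (1 : G) ∈ S \ F := by
        rw [Finset.mem_sdiff, hS, Finset.mem_filter]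
        refine ⟨⟨Finset.mem_univ _, by simp [hxinv]⟩, ?_⟩
        intro h
        obtain ⟨q, hq, hq'⟩ := Finset.mem_image.1 h
        exact invol_ne_one (memP (Finset.mem_filter.1 hq).1).1 hq'
      have h2 : x ∈ S \ F := by
        rw [Finset.mem_sdiff, hS, Finset.mem_filter]
        refine ⟨⟨Finset.mem_univ _, by simp [hxinv, invol_mul_self hx2]⟩, ?_⟩
        intro h
        obtain ⟨q, hq, hq'⟩ := Finset.mem_image.1 h
        rw [Finset.mem_filter] at hq
        have : q.1 * q.2 = q.1 * 1 := by rw [mul_one]; exact hq.2.trans hq'.symm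
        exact invol_ne_one (memP hq.1).2.1 (mul_left_cancel this)
      have h2' : ({1, x} : Finset G) ⊆ S \ F := by
        intro y hy
        rw [Finset.mem_insert, Finset.mem_singleton] at hy
        rcases hy with rfl | rfl
        · exact h1
        · exact h2
      have hc := Finset.card_le_card h2'
      rw [Finset.card_pair (invol_ne_one hx2).symm] at hc
      have := Finset.card_sdiff_add_card_eq_card hFS
      omega
    · simpa using Finset.card_le_card hFS
  have hweight : ∀ x ∈ T, 2 * d * c x ≤ Nat.card G + (if orderOf x = 2 then Nat.card G else 0) := by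
    intro x hx
    obtain ⟨p, hp, rfl⟩ := Finset.mem_image.1 hx
    obtain ⟨hp1, hp2, hp12⟩ := memP hp
    set x := f p with hxdef
    have hx1 : x ≠ 1 := by
      intro h
      apply hp12
      have h' : p.1 * p.2 = p.1 * p.1 := by rw [invol_mul_self hp1]; exact h
      exact (mul_left_cancel h').symm
    split_ifs with hx2
    · have := hbound _ (centralizer_ne_top_of_invol hZ hx2)
      calc 2 * d * c x = 2 * (c x * d) := by ring
        _ ≤ 2 * Nat.card G := Nat.mul_le_mul_left 2 this
        _ = Nat.card G + Nat.card G := two_mul _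
    · have hxne : x ≠ x⁻¹ := fun h => hx2 (orderOf_eq_two_of_mul_self (eq_inv_iff_mul_eq_one.1 h) hx1)
      have hu : p.1 * x * p.1⁻¹ = x⁻¹ := conj_mul_left_invol hp1 hp2
      have hext := card_extCentralizer hxne hu
      have htop : extCentralizer x ≠ ⊤ := by
        intro h
        rw [h, Subgroup.card_top] at hext
        apply hno (Subgroup.centralizer ({x} : Set G))
        have := (Subgroup.centralizer ({x} : Set G)).card_mul_index
        rw [hext, mul_comm 2] at this
        exact mul_left_cancel₀ Nat.card_pos.ne' this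
      have := hbound _ htop
      rw [hext] at this
      calc 2 * d * c x = 2 * c x * d := by ring
        _ ≤ Nat.card G := this
        _ = _ := by simp
  have hTinv : (T.filter fun x => orderOf x = 2) ⊆ I := by
    intro x hx
    exact memI.2 (Finset.mem_filter.1 hx).2
  have hTcard : T.card + 1 ≤ Nat.card G := by
    have h1 : (1 : G) ∉ T := by
      intro h
      obtain ⟨p, hp, hp'⟩ := Finset.mem_image.1 h
      obtain ⟨hp1, hp2, hp12⟩ := memP hp
      apply hp12
      have h' : p.1 * p.2 = p.1 * p.1 := by rw [invol_mul_self hp1]; exact hp'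
      exact (mul_left_cancel h').symm
    have := Finset.card_le_univ (insert (1 : G) T)
    rw [Finset.card_insert_of_notMem h1] at this
    rwa [Nat.card_eq_fintype_card]
  have hsumA : ∀ a : ℕ, ∑ x ∈ T, (if orderOf x = 2 then a else 0)
      = (T.filter fun x => orderOf x = 2).card * a := by
    intro a
    rw [← Finset.sum_filter, Finset.sum_const, smul_eq_mul]
  set m := (T.filter fun x => orderOf x = 2).card with hm
  have hmn : m ≤ n := Finset.card_le_card hTinv
  have hA : P.card + m * 2 ≤ ∑ x ∈ T, c x := by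
    rw [hsum, ← hsumA, ← Finset.sum_add_distrib]
    exact Finset.sum_le_sum hfib
  have hB : 2 * d * ∑ x ∈ T, c x ≤ T.card * Nat.card G + m * Nat.card G := by
    rw [Finset.mul_sum, ← hsumA]
    calc _ ≤ ∑ x ∈ T, (Nat.card G + if orderOf x = 2 then Nat.card G else 0) :=
          Finset.sum_le_sum hweight
      _ = _ := by rw [Finset.sum_add_distrib, Finset.sum_const, smul_eq_mul]
  have hd0 : 0 < d := Nat.pos_of_ne_zero H.index_ne_zero_of_finite
  have hn0 : 0 < n := Finset.card_pos.2 ⟨t, memI.2 ht⟩
  have hdG : 2 * d ≤ Nat.card G + Nat.card G := by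
    have : 1 * d ≤ Nat.card H * d := Nat.mul_le_mul_right d Nat.card_pos
    omega
  have hP' : P.card + n = n * n := by
    have : n ≤ n * n := Nat.le_mul_self n
    omega
  have hG0 : 0 < Nat.card G := Nat.card_pos
  have hdle : d * n ≤ Nat.card G * n := by
    refine Nat.mul_le_mul_right n ?_
    have : 1 * d ≤ Nat.card H * d := Nat.mul_le_mul_right d Nat.card_pos
    omega
  have hdn : d * n * 2 ≤ d * m * 2 + (n - m) * Nat.card G := by
    have hd2 : 2 * d ≤ Nat.card G := by
      have hH2 : 1 < d := Subgroup.one_lt_index_of_ne_top hH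
      have : 2 * d ≤ Nat.card H * d := by
        refine Nat.mul_le_mul_right d ?_
        have hc : Nat.card (Subgroup.centralizer ({t} : Set G)) ≤ Nat.card H :=
          hmax' _ (centralizer_ne_top_of_invol hZ ht)
        have h2 : 2 ∣ Nat.card (Subgroup.centralizer ({t} : Set G)) := by
          have hmem : t ∈ Subgroup.centralizer ({t} : Set G) :=
            Subgroup.mem_centralizer_singleton_iff.2 rfl
          rw [← ht, ← Subgroup.orderOf_mk t hmem]
          exact orderOf_dvd_natCard _
        exact (Nat.le_of_dvd Nat.card_pos h2).trans hc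
      omega
    obtain ⟨k, hk⟩ := Nat.exists_eq_add_of_le hmn
    rw [hk, Nat.add_sub_cancel_left]
    nlinarith [Nat.mul_le_mul_right k hd2]
  have key : 2 * d * n ^ 2 < Nat.card G * (Nat.card G + n) := by
    obtain ⟨k, hk⟩ := Nat.exists_eq_add_of_le hmn
    rw [hk, Nat.add_sub_cancel_left] at hdn
    rw [hk] at hP' ⊢
    nlinarith [Nat.mul_le_mul_left (2 * d) hA, hB, Nat.mul_le_mul_right (Nat.card G) hTcard]
  exact key

end Cfsg.Agent.Lib.Involutions
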