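import Cfsg.Agent.Lib.Involutions.Basic
import Mathlib.GroupTheory.Nilpotent
import Mathlib.Data.Set.Card
import Mathlib.Data.Fintype.Powerset
import Mathlib.Data.Fintype.Lattice
import Mathlib.Order.Preorder.Finite

/-!
# The Baer–Suzuki theorem
-/

namespace Cfsg.Agent.Lib.Involutions

variable {G : Type*} [Group G]

/-- The conjugates of `X` contained in `H`. -/
def conjIn (X H : Subgroup G) : Set (Subgroup G) :=
  {Y | (∃ g : G, Y = X.map (MulAut.conj g).toMonoidHom) ∧ Y ≤ H}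

theorem conjIn_mono (X : Subgroup G) {H K : Subgroup G} (h : H ≤ K) : conjIn X H ⊆ conjIn X K :=
  fun _ hY => ⟨hY.1, hY.2.trans h⟩

theorem map_conj_mul (Y : Subgroup G) (a b : G) :
    (Y.map (MulAut.conj b).toMonoidHom).map (MulAut.conj a).toMonoidHom =
      Y.map (MulAut.conj (a * b)).toMonoidHom := by
  rw [Subgroup.map_map]
  congr 1
  ext x
  simp [mul_assoc]

theorem map_conj_one (Y : Subgroup G) : Y.map (MulAut.conj (1 : G)).toMonoidHom = Y := by
  ext x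
  simp [Subgroup.mem_map]

theorem mem_normalizer_iff_map_conj {H : Subgroup G} {g : G} :
    g ∈ Subgroup.normalizer (H : Set G) ↔ H.map (MulAut.conj g).toMonoidHom = H := by
  rw [Subgroup.mem_set_normalizer_iff, SetLike.ext_iff]
  simp only [SetLike.mem_coe, Subgroup.mem_map_equiv, MulAut.conj_symm_apply]
  constructor
  · intro h x
    rw [h (g⁻¹ * x * g)]
    group
  · intro h x
    have := h (g * x * g⁻¹)
    simp only [mul_assoc, inv_mul_cancel_left, inv_mul_cancel, mul_one] at this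
    rw [mul_assoc]
    exact this

theorem sylow_map_conj {p : ℕ} (P : Sylow p G) (g : G) :
    ((g • P : Sylow p G) : Subgroup G) = (P : Subgroup G).map (MulAut.conj g).toMonoidHom :=
  rfl

theorem ncard_conjIn_eq [Finite G] {p : ℕ} [Fact p.Prime] (X : Subgroup G) (P Q : Sylow p G) :
    (conjIn X (P : Subgroup G)).ncard = (conjIn X (Q : Subgroup G)).ncard := by
  obtain ⟨g, rfl⟩ := MulAction.exists_smul_eq G P Q
  refine Set.ncard_congr (fun Y _ => Y.map (MulAut.conj g).toMonoidHom) ?_ ?_ ?_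
  · rintro _ ⟨⟨h, rfl⟩, hle⟩
    refine ⟨⟨g * h, map_conj_mul X g h⟩, ?_⟩
    rw [sylow_map_conj]
    exact Subgroup.map_mono hle
  · intro Y Z _ _ h
    exact Subgroup.map_injective (MulAut.conj g).injective h
  · rintro _ ⟨⟨h, rfl⟩, hle⟩
    refine ⟨X.map (MulAut.conj (g⁻¹ * h)).toMonoidHom, ⟨⟨_, rfl⟩, ?_⟩, ?_⟩
    · rw [← map_conj_mul]
      have := Subgroup.map_mono (f := (MulAut.conj g⁻¹).toMonoidHom) hle
      rwa [sylow_map_conj, map_conj_mul _ g⁻¹ g, inv_mul_cancel, map_conj_one] at this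
    · rw [map_conj_mul, mul_inv_cancel_left]

/-- A subgroup `Y` permuting a set of subgroups normalizes their join. -/
theorem le_normalizer_sSup {Y : Subgroup G} {W : Set (Subgroup G)}
    (h : ∀ y ∈ Y, ∀ Z ∈ W, Z.map (MulAut.conj y).toMonoidHom ∈ W) :
    Y ≤ Subgroup.normalizer ((sSup W : Subgroup G) : Set G) := by
  have key : ∀ y ∈ Y, (sSup W).map (MulAut.conj y).toMonoidHom ≤ sSup W := fun y hy => by
    rw [Subgroup.map_le_iff_le_comap, sSup_le_iff]
    exact fun Z hZ => Subgroup.map_le_iff_le_comap.1 (le_sSup (h y hy Z hZ))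
  intro y hy
  rw [mem_normalizer_iff_map_conj]
  refine le_antisymm (key y hy) ?_
  have := Subgroup.map_mono (f := (MulAut.conj y).toMonoidHom) (key y⁻¹ (inv_mem hy))
  rwa [map_conj_mul, mul_inv_cancel, map_conj_one] at this

/-- In a finite `p`-group a proper subgroup is properly contained in its normalizer. -/
theorem exists_gt_le_normalizer [Finite G] {p : ℕ} [Fact p.Prime] {P M : Subgroup G}
    (hP : IsPGroup p P) (hMP : M < P) :
    ∃ M1 : Subgroup G, M < M1 ∧ M1 ≤ P ∧ M1 ≤ Subgroup.normalizer (M : Set G) := by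
  have := hP.isNilpotent
  have hlt : M.subgroupOf P < ⊤ := lt_top_iff_ne_top.2 fun h =>
    hMP.not_ge (Subgroup.subgroupOf_eq_top.1 h)
  obtain ⟨x, hxN, hxM⟩ := SetLike.exists_of_lt (Group.normalizerCondition_of_isNilpotent _ hlt)
  refine ⟨P ⊓ Subgroup.normalizer (M : Set G), ?_, inf_le_left, inf_le_right⟩
  refine lt_of_le_of_ne (le_inf hMP.le Subgroup.le_normalizer) fun h => hxM ?_
  rw [Subgroup.mem_subgroupOf, h, Subgroup.mem_inf]
  refine ⟨x.2, ?_⟩
  rw [Subgroup.mem_set_normalizer_iff] at hxN ⊢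
  intro y
  constructor
  · intro hy
    have hy' : y ∈ M := hy
    simpa [Subgroup.mem_subgroupOf] using (hxN ⟨y, hMP.le hy'⟩).1 (by simpa [Subgroup.mem_subgroupOf] using hy')
  · intro hy
    have hy' : (x : G) * y * (x : G)⁻¹ ∈ M := hy
    have hyP : y ∈ P := by
      have := mul_mem (mul_mem (inv_mem x.2) (hMP.le hy')) x.2
      simpa [mul_assoc] using this
    simpa [Subgroup.mem_subgroupOf] using (hxN ⟨y, hyP⟩).2 (by simpa [Subgroup.mem_subgroupOf] using hy')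

/-- Extend a proper intersection of two sets of conjugates by a normalizing conjugate. -/
theorem exists_conjIn_normalizing [Finite G] {p : ℕ} [Fact p.Prime] (X : Subgroup G)
    {P : Sylow p G} {Q : Subgroup G} (hne : ¬ conjIn X (P : Subgroup G) ⊆ conjIn X Q) :
    ∃ Y ∈ conjIn X (P : Subgroup G), Y ∉ conjIn X Q ∧
      Y ≤ Subgroup.normalizer
        ((sSup (conjIn X (P : Subgroup G) ∩ conjIn X Q) : Subgroup G) : Set G) := by
  classical
  set W := conjIn X (P : Subgroup G) ∩ conjIn X Q with hW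
  set D := sSup W with hD
  have hDP : D ≤ P := sSup_le fun Z hZ => hZ.1.2
  have hDQ : D ≤ Q := sSup_le fun Z hZ => hZ.2.2
  have hsub : ∀ Z ∈ W, Z ≤ D := fun Z hZ => le_sSup hZ
  -- maximal subgroup between `D` and `P` containing no further conjugate
  obtain ⟨M, ⟨hDM, hMP, hMW⟩, hMmax⟩ :
      ∃ M : Subgroup G, Maximal (fun M => D ≤ M ∧ M ≤ (P : Subgroup G) ∧ conjIn X M ⊆ W) M :=
    Set.Finite.exists_maximal
      (s := {M : Subgroup G | D ≤ M ∧ M ≤ (P : Subgroup G) ∧ conjIn X M ⊆ W}) (Set.toFinite _)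
      ⟨D, le_rfl, hDP, fun Y hY => ⟨⟨hY.1, hY.2.trans hDP⟩, ⟨hY.1, hY.2.trans hDQ⟩⟩⟩
  have hlt : M < (P : Subgroup G) := lt_of_le_of_ne hMP fun h => hne fun Y hY => (hMW (h ▸ hY)).2
  obtain ⟨M1, hMM1, hM1P, hM1N⟩ := exists_gt_le_normalizer P.2 hlt
  have hnot : ¬ conjIn X M1 ⊆ W := fun h =>
    hMM1.not_ge (hMmax ⟨hDM.trans hMM1.le, hM1P, h⟩ hMM1.le)
  obtain ⟨Y, hY, hYW⟩ := Set.not_subset.1 hnot
  refine ⟨Y, ⟨hY.1, hY.2.trans hM1P⟩, fun h => hYW ⟨⟨hY.1, hY.2.trans hM1P⟩, h⟩, ?_⟩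
  refine le_normalizer_sSup fun y hy Z hZ => hMW ⟨?_, ?_⟩
  · obtain ⟨g, rfl⟩ := hZ.1.1
    exact ⟨y * g, map_conj_mul X y g⟩
  · exact (Subgroup.map_mono ((hsub Z hZ).trans hDM)).trans
      (mem_normalizer_iff_map_conj.1 (hM1N (hY.2 hy))).le

/-- **Baer–Suzuki**: if `X` generates a `p`-group with each of its conjugates, it lies in a normal
`p`-subgroup. -/
theorem baer_suzuki [Finite G] {p : ℕ} [Fact p.Prime] (X : Subgroup G) (hX : IsPGroup p X)
    (h : ∀ g : G, IsPGroup p ↥(X ⊔ X.map (MulAut.conj g).toMonoidHom)) :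
    ∃ N : Subgroup G, N.Normal ∧ IsPGroup p N ∧ X ≤ N := by
  classical
  by_cases hall : ∀ P Q : Sylow p G, conjIn X (P : Subgroup G) = conjIn X (Q : Subgroup G)
  · obtain ⟨P, hXP⟩ := hX.exists_le_sylow
    refine ⟨(P : Subgroup G).normalCore, Subgroup.normalCore_normal _,
      P.2.to_le (Subgroup.normalCore_le _), fun x hx g => ?_⟩
    have hXmem : X ∈ conjIn X (P : Subgroup G) := ⟨⟨1, (map_conj_one X).symm⟩, hXP⟩
    rw [hall P (g⁻¹ • P)] at hXmem
    have h2 := hXmem.2 hx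
    rw [sylow_map_conj, Subgroup.mem_map_equiv] at h2
    simpa using h2
  exfalso
  push Not at hall
  have : Nonempty {pq : Sylow p G × Sylow p G //
      conjIn X (pq.1 : Subgroup G) ≠ conjIn X (pq.2 : Subgroup G)} :=
    let ⟨P, Q, hPQ⟩ := hall; ⟨⟨(P, Q), hPQ⟩⟩
  obtain ⟨⟨⟨P, Q⟩, hPQ⟩, hmax⟩ := Finite.exists_max
    (fun pq : {pq : Sylow p G × Sylow p G //
      conjIn X (pq.1 : Subgroup G) ≠ conjIn X (pq.2 : Subgroup G)} =>
      (conjIn X (pq.1.1 : Subgroup G) ∩ conjIn X (pq.1.2 : Subgroup G)).ncard)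
  simp only at hPQ hmax
  set A := conjIn X (P : Subgroup G) with hA
  set B := conjIn X (Q : Subgroup G) with hB
  have hAB : ¬ A ⊆ B := fun hsub =>
    hPQ (Set.eq_of_subset_of_ncard_le hsub (ncard_conjIn_eq X Q P).le)
  have hBA : ¬ B ⊆ A := fun hsub =>
    hPQ (Set.eq_of_subset_of_ncard_le hsub (ncard_conjIn_eq X P Q).le).symm
  obtain ⟨Y, hYA, hYB, hYN⟩ := exists_conjIn_normalizing X hAB
  obtain ⟨Z, hZB, hZA, hZN⟩ := exists_conjIn_normalizing X hBA
  rw [← hA, ← hB] at hYN hZN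
  rw [Set.inter_comm B A] at hZN
  obtain ⟨a, rfl⟩ := hYA.1
  obtain ⟨b, rfl⟩ := hZB.1
  have hYZ : IsPGroup p ↥(X.map (MulAut.conj a).toMonoidHom ⊔
      X.map (MulAut.conj b).toMonoidHom) := by
    have h2 := (h (a⁻¹ * b)).map (MulAut.conj a).toMonoidHom
    rwa [Subgroup.map_sup, map_conj_mul, mul_inv_cancel_left] at h2
  set D := sSup (A ∩ B) with hD
  have hDp : IsPGroup p D := P.2.to_le (sSup_le fun Z' hZ' => hZ'.1.2)
  have hR := IsPGroup.to_sup_of_normal_right' hYZ hDp (sup_le hYN hZN)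
  obtain ⟨U, hU⟩ := hR.exists_le_sylow
  set C := conjIn X (U : Subgroup G) with hC
  have hW : A ∩ B ⊆ C := fun T hT => ⟨hT.1.1, (le_sSup hT).trans (le_sup_right.trans hU)⟩
  have hYC : X.map (MulAut.conj a).toMonoidHom ∈ C :=
    ⟨⟨a, rfl⟩, (le_sup_left.trans le_sup_left).trans hU⟩
  have hZC : X.map (MulAut.conj b).toMonoidHom ∈ C :=
    ⟨⟨b, rfl⟩, (le_sup_right.trans le_sup_left).trans hU⟩
  have hAC : A = C := by
    by_contra hne
    refine absurd (hmax ⟨(P, U), hne⟩) (not_le.2 (Set.ncard_lt_ncard ?_))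
    exact ⟨fun T hT => ⟨hT.1, hW hT⟩, fun hs => hYB (hs ⟨hYA, hYC⟩).2⟩
  have hBC : B = C := by
    by_contra hne
    refine absurd (hmax ⟨(U, Q), fun e => hne e.symm⟩) (not_le.2 (Set.ncard_lt_ncard ?_))
    exact ⟨fun T hT => ⟨hW hT, hT.2⟩, fun hs => hZA (hs ⟨hZC, hZB⟩).1⟩
  exact hPQ (hAC.trans hBC.symm)

end Cfsg.Agent.Lib.Involutions
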