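import Cfsg.Prelude.Def_Involutions
import Cfsg.Agent.Lib.Involutions.Basic
import Cfsg.Agent.Lib.Involutions.BaerSuzuki
import Mathlib.GroupTheory.Perm.Cycle.Type
import Mathlib.Data.Set.Finite.Lattice
import Mathlib.Data.Set.Finite.Lemmas

/-!
# Strongly embedded subgroups: elementary facts
-/

namespace Cfsg.Agent.Lib.Involutions

open Cfsg

variable {G : Type*} [Group G]

theorem mem_conj_map_iff {H : Subgroup G} {g x : G} :
    x ∈ H.map (MulAut.conj g).toMonoidHom ↔ g⁻¹ * x * g ∈ H := by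
  rw [Subgroup.mem_map_equiv, MulAut.conj_symm_apply]

theorem conj_mem_map {H : Subgroup G} {g x : G} (hx : x ∈ H) :
    g * x * g⁻¹ ∈ H.map (MulAut.conj g).toMonoidHom :=
  ⟨x, hx, rfl⟩

/-- A subgroup of `K` that is a `p`-group is conjugate inside `K` into any Sylow subgroup of `G`
contained in `K`. -/
theorem exists_conj_le_of_sylow_le [Finite G] {p : ℕ} [Fact p.Prime] (P : Sylow p G)
    {K Y : Subgroup G} (hPK : (P : Subgroup G) ≤ K) (hY : IsPGroup p Y) (hYK : Y ≤ K) :
    ∃ c ∈ K, Y.map (MulAut.conj c).toMonoidHom ≤ P := by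
  obtain ⟨R, hR⟩ := (hY.of_equiv (Subgroup.subgroupOfEquivOfLe hYK).symm).exists_le_sylow
  obtain ⟨c, hc⟩ := MulAction.exists_smul_eq K R (P.subtype hPK)
  refine ⟨c, c.2, ?_⟩
  rintro _ ⟨y, hy, rfl⟩
  have h : c * ⟨y, hYK hy⟩ * c⁻¹ ∈ ((P.subtype hPK : Sylow p K) : Subgroup K) := by
    rw [← hc, sylow_map_conj]
    exact conj_mem_map (hR (show (⟨y, hYK hy⟩ : K) ∈ Y.subgroupOf K from hy))
  exact h

/-- In a subgroup, two Sylow subgroups are conjugate: version with a Sylow subgroup of `H`. -/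
theorem exists_conj_le_sylow_of_le [Finite G] {p : ℕ} [Fact p.Prime] {H : Subgroup G}
    (P : Sylow p H) {Y : Subgroup G} (hY : IsPGroup p Y) (hYH : Y ≤ H) :
    ∃ c ∈ H, Y.map (MulAut.conj c).toMonoidHom ≤ (P : Subgroup H).map H.subtype := by
  obtain ⟨R, hR⟩ := (hY.of_equiv (Subgroup.subgroupOfEquivOfLe hYH).symm).exists_le_sylow
  obtain ⟨c, hc⟩ := MulAction.exists_smul_eq H R P
  refine ⟨c, c.2, ?_⟩
  rintro _ ⟨y, hy, rfl⟩
  refine ⟨c * ⟨y, hYH hy⟩ * c⁻¹, ?_, rfl⟩
  rw [← hc, sylow_map_conj]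
  exact conj_mem_map (hR (show (⟨y, hYH hy⟩ : H) ∈ Y.subgroupOf H from hy))

theorem mem_of_conj_mem [Finite G] {H : Subgroup G} (hH : IsStronglyEmbedded H) {t g : G}
    (ht : orderOf t = 2) (htH : t ∈ H) (hg : g * t * g⁻¹ ∈ H) : g ∈ H := by
  by_contra hgH
  have hmem : g * t * g⁻¹ ∈ H ⊓ H.map (MulAut.conj g).toMonoidHom := ⟨hg, conj_mem_map htH⟩
  have h := Subgroup.orderOf_dvd_natCard _ hmem
  rw [orderOf_conj_eq, ht] at h
  exact Nat.not_even_iff_odd.2 (hH.2.2 g hgH) (even_iff_two_dvd.2 h)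

theorem centralizer_le_of_se [Finite G] {H : Subgroup G} (hH : IsStronglyEmbedded H) {t : G}
    (ht : orderOf t = 2) (htH : t ∈ H) : Subgroup.centralizer ({t} : Set G) ≤ H := fun g hg =>
  mem_of_conj_mem hH ht htH (by
    rw [Subgroup.mem_centralizer_singleton_iff.1 hg, mul_inv_cancel_right]; exact htH)

theorem isStronglyEmbedded_of_conj_mem [Finite G] {H : Subgroup G} (hH : H ≠ ⊤)
    (heven : Even (Nat.card H))
    (h : ∀ t ∈ H, orderOf t = 2 → ∀ g : G, g * t * g⁻¹ ∈ H → g ∈ H) : IsStronglyEmbedded H := by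
  refine ⟨hH, heven, fun g hg => ?_⟩
  rw [← Nat.not_even_iff_odd]
  intro he
  have : Fact (Nat.Prime 2) := ⟨Nat.prime_two⟩
  obtain ⟨x', hord⟩ := exists_prime_orderOf_dvd_card' 2 he.two_dvd
  rw [← Subgroup.orderOf_coe] at hord
  obtain ⟨x, hx'⟩ := x'
  obtain ⟨hxH, hx⟩ := Subgroup.mem_inf.1 hx'
  simp only at hord
  rw [mem_conj_map_iff] at hx
  refine hg (h _ hx ?_ g (by simpa [mul_assoc] using hxH))
  have := orderOf_conj_eq g⁻¹ x
  rw [inv_inv] at this
  rw [this, hord]

/-- If normalizers of all "good" subgroups of a Sylow subgroup of `H` lie in `H`, no good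
`p`-subgroup lies in `H` and in a different conjugate of `H`. -/
theorem no_good_of_normalizers_le [Finite G] {p : ℕ} [Fact p.Prime] {H : Subgroup G}
    (P : Sylow p H) (good : Subgroup G → Prop) (hmono : ∀ X Y : Subgroup G, X ≤ Y → good X → good Y)
    (hconj : ∀ (X : Subgroup G) (g : G), good X → good (X.map (MulAut.conj g).toMonoidHom))
    (hN : ∀ X : Subgroup G, X ≤ (P : Subgroup H).map H.subtype → good X →
      Subgroup.normalizer (X : Set G) ≤ H)
    {g : G} (hg : g ∉ H) {X : Subgroup G} (hX : IsPGroup p X) (hgood : good X) :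
    ¬ X ≤ H ⊓ H.map (MulAut.conj g).toMonoidHom := by
  set Q := (P : Subgroup H).map H.subtype with hQ
  have hQp : IsPGroup p Q := P.2.map _
  have hQH : Q ≤ H := Subgroup.map_subtype_le _
  intro hle
  -- a counterexample of maximal order
  obtain ⟨⟨Y, c⟩, ⟨hY, hYgood, hc, hYle⟩, hmax⟩ := Set.exists_max_image
    {q : Subgroup G × G | IsPGroup p q.1 ∧ good q.1 ∧ q.2 ∉ H ∧
      q.1 ≤ H ⊓ H.map (MulAut.conj q.2).toMonoidHom}
    (fun q => Nat.card q.1) (Set.toFinite _) ⟨(X, g), hX, hgood, hg, hle⟩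
  simp only at hY hYgood hc hYle hmax
  have hYH : Y ≤ H := hYle.trans inf_le_left
  -- the normalizer of `Y` lies in `H`
  have hNY : Subgroup.normalizer (Y : Set G) ≤ H := by
    obtain ⟨d, hd, hdQ⟩ := exists_conj_le_sylow_of_le P hY hYH
    intro x hx
    have hx' : d * x * d⁻¹ ∈ Subgroup.normalizer ((Y.map (MulAut.conj d).toMonoidHom : Subgroup G) :
        Set G) := by
      rw [mem_normalizer_iff_map_conj] at hx ⊢
      rw [map_conj_mul, inv_mul_cancel_right, ← map_conj_mul, hx]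
    have := mul_mem (mul_mem (inv_mem hd) (hN _ hdQ (hconj Y d hYgood) hx')) hd
    simpa [mul_assoc] using this
  -- a conjugate of `Q` containing `Y` inside the other conjugate of `H`
  have hY' : Y.map (MulAut.conj c⁻¹).toMonoidHom ≤ H := by
    have h1 := Subgroup.map_mono (f := (MulAut.conj c⁻¹).toMonoidHom) (hYle.trans inf_le_right)
    rwa [map_conj_mul, inv_mul_cancel, map_conj_one] at h1
  obtain ⟨d, hd, hdQ⟩ := exists_conj_le_sylow_of_le P (hY.map _) hY'
  rw [map_conj_mul] at hdQ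
  set R := Q.map (MulAut.conj (c * d⁻¹)).toMonoidHom with hR
  have hYR : Y ≤ R := by
    have h1 := Subgroup.map_mono (f := (MulAut.conj (c * d⁻¹)).toMonoidHom) hdQ
    rwa [map_conj_mul, show c * d⁻¹ * (d * c⁻¹) = 1 by group, map_conj_one] at h1
  have hRH : R ≤ H.map (MulAut.conj c).toMonoidHom := by
    rintro _ ⟨x, hx, rfl⟩
    rw [mem_conj_map_iff]
    have := mul_mem (mul_mem (inv_mem hd) (hQH hx)) hd
    simpa [mul_assoc] using this
  have hlt : Y < R := by
    refine lt_of_le_of_ne hYR fun heq => ?_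
    -- then `Y` is a Sylow subgroup of `H` as big as `Q`
    obtain ⟨e, he, heQ⟩ := exists_conj_le_sylow_of_le P hY hYH
    have hcard : Nat.card (Y.map (MulAut.conj e).toMonoidHom) = Nat.card Q := by
      rw [Subgroup.card_map_of_injective (MulAut.conj e).injective, heq, hR,
        Subgroup.card_map_of_injective (MulAut.conj (c * d⁻¹)).injective]
    have heq' := Subgroup.eq_of_le_of_card_ge heQ hcard.ge
    have hn : e * c * d⁻¹ ∈ Subgroup.normalizer (Q : Set G) := by
      rw [mem_normalizer_iff_map_conj, mul_assoc e, ← map_conj_mul, ← hR, ← heq, heq']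
    have hQgood : good Q := by
      have h2 := hconj Y e hYgood
      rwa [heq'] at h2
    have := mul_mem (mul_mem (inv_mem he) (hN Q le_rfl hQgood hn)) hd
    exact hc (by simpa [mul_assoc] using this)
  obtain ⟨M, hYM, hMR, hMN⟩ := exists_gt_le_normalizer (hQp.map _) hlt
  have hMle : M ≤ H ⊓ H.map (MulAut.conj c).toMonoidHom :=
    le_inf (hMN.trans hNY) (hMR.trans hRH)
  have := hmax (M, c) ⟨(hQp.map _).to_le hMR, hmono Y M hYM.le hYgood, hc, hMle⟩
  simp only at this
  exact absurd (Subgroup.eq_of_le_of_card_ge hYM.le this) hYM.ne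

end Cfsg.Agent.Lib.Involutions
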