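import Mathlib
import Cfsg.Agent.Lib.Involutions.StronglyEmbedded
import Cfsg.Agent.Lib.Involutions.BrauerFowler

/-!
# The action of a group on the cosets of a strongly embedded subgroup

Every involution fixes exactly one point, all involutions are conjugate, an involution fixing `x`
centralizes no nontrivial element of `G_x` inverted by an involution moving `x`, and consequently
for `x ≠ y` exactly `k` involutions move `x` to `y`, `k` being the number of involutions fixing a
point, and `G_x ∩ G_y` is transitive on the involutions fixing `x`.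
-/

namespace Cfsg.Agent.Lib.Involutions

open Cfsg

variable {G : Type*} [Group G] {H : Subgroup G}

theorem smul_mk_eq_iff {g a : G} :
    a • (QuotientGroup.mk g : G ⧸ H) = QuotientGroup.mk g ↔ g⁻¹ * a * g ∈ H := by
  rw [MulAction.Quotient.smul_mk, eq_comm, QuotientGroup.eq, smul_eq_mul, mul_assoc]

theorem smul_one_eq_iff {a : G} :
    a • (QuotientGroup.mk 1 : G ⧸ H) = QuotientGroup.mk 1 ↔ a ∈ H := by
  rw [smul_mk_eq_iff, inv_one, one_mul, mul_one]

theorem mem_inf_conj_iff {u : G} {d : G} :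
    d ∈ H ⊓ H.map (MulAut.conj u).toMonoidHom ↔
      d • (QuotientGroup.mk 1 : G ⧸ H) = QuotientGroup.mk 1 ∧
        d • (QuotientGroup.mk u : G ⧸ H) = QuotientGroup.mk u := by
  rw [Subgroup.mem_inf, mem_conj_map_iff, smul_one_eq_iff, smul_mk_eq_iff]

theorem orderOf_inv_conj (g a : G) : orderOf (g⁻¹ * a * g) = orderOf a := by
  simpa using orderOf_conj_eq g⁻¹ a

theorem invol_fixed_unique [Finite G] (hH : IsStronglyEmbedded H) {i : G} (hi : orderOf i = 2)
    {x y : G ⧸ H} (hx : i • x = x) (hy : i • y = y) : x = y := by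
  induction x using QuotientGroup.induction_on with
  | H a =>
  induction y using QuotientGroup.induction_on with
  | H b =>
  rw [smul_mk_eq_iff] at hx hy
  rw [QuotientGroup.eq]
  have := mem_of_conj_mem hH (t := a⁻¹ * i * a) (g := b⁻¹ * a) ((orderOf_inv_conj a i).trans hi) hx
    (by rwa [show b⁻¹ * a * (a⁻¹ * i * a) * (b⁻¹ * a)⁻¹ = b⁻¹ * i * b by group])
  simpa using inv_mem this

theorem se_centralizer_fixes [Finite G] (hH : IsStronglyEmbedded H) {i c : G} (hi : orderOf i = 2)
    {x : G ⧸ H} (hx : i • x = x) (hc : Commute c i) : c • x = x :=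
  invol_fixed_unique hH hi (by rw [← mul_smul, ← hc.eq, mul_smul, hx]) hx

theorem se_odd_mul [Finite G] (hH : IsStronglyEmbedded H) {t v : G} (ht : orderOf t = 2)
    (hv : orderOf v = 2) {x : G ⧸ H} (hx : t • x = x) (hvx : v • x ≠ x) : Odd (orderOf (t * v)) := by
  by_contra h
  obtain ⟨hw, hwt, hwv⟩ := central_invol ht hv (Nat.not_odd_iff_even.1 h)
  exact hvx (se_centralizer_fixes hH hw (se_centralizer_fixes hH ht hx hwt) hwv.symm)

theorem se_exists_invol [Finite G] (hH : IsStronglyEmbedded H) (x : G ⧸ H) :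
    ∃ t : G, orderOf t = 2 ∧ t • x = x := by
  induction x using QuotientGroup.induction_on with
  | H a =>
  obtain ⟨t, ht⟩ := exists_invol_of_even (G := H) hH.2.1
  refine ⟨a * t * a⁻¹, by rw [orderOf_conj_eq, Subgroup.orderOf_coe, ht], ?_⟩
  rw [smul_mk_eq_iff]
  simpa [mul_assoc] using t.2

theorem se_all_conj [Finite G] (hH : IsStronglyEmbedded H) {a b : G} (ha : orderOf a = 2)
    (hb : orderOf b = 2) : IsConj a b := by
  -- an involution moving the base point
  obtain ⟨t, ht, hto⟩ := se_exists_invol hH (QuotientGroup.mk 1)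
  obtain ⟨v, hv, hvo⟩ : ∃ v : G, orderOf v = 2 ∧
      v • (QuotientGroup.mk 1 : G ⧸ H) ≠ QuotientGroup.mk 1 := by
    obtain ⟨g, hg⟩ : ∃ g, g ∉ H := by
      by_contra hcon
      push Not at hcon
      exact hH.1 (eq_top_iff.2 fun g _ => hcon g)
    refine ⟨g * t * g⁻¹, (orderOf_conj_eq g t).trans ht, fun h => hg ?_⟩
    rw [smul_one_eq_iff] at h hto
    exact mem_of_conj_mem hH ht hto h
  have key : ∀ c : G, orderOf c = 2 → IsConj c v ∨ IsConj c t := by
    intro c hc
    by_cases hco : c • (QuotientGroup.mk 1 : G ⧸ H) = QuotientGroup.mk 1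
    · exact Or.inl (isConj_of_odd hc hv (se_odd_mul hH hc hv hco hvo))
    · exact Or.inr (isConj_of_odd ht hc (se_odd_mul hH ht hc hto hco)).symm
  have htv : IsConj t v := isConj_of_odd ht hv (se_odd_mul hH ht hv hto hvo)
  rcases key a ha with h1 | h1 <;> rcases key b hb with h2 | h2
  · exact h1.trans h2.symm
  · exact h1.trans (htv.symm.trans h2.symm)
  · exact h1.trans (htv.trans h2.symm)
  · exact h1.trans h2.symm

theorem se_exists_fixed [Finite G] (hH : IsStronglyEmbedded H) {i : G} (hi : orderOf i = 2) :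
    ∃ x : G ⧸ H, i • x = x := by
  obtain ⟨t, ht, hto⟩ := se_exists_invol hH (QuotientGroup.mk 1)
  obtain ⟨g, rfl⟩ := isConj_iff.1 (se_all_conj hH ht hi)
  exact ⟨g • QuotientGroup.mk 1, by rw [← mul_smul, inv_mul_cancel_right, mul_smul, hto]⟩

/-- An element fixing `x` and commuting with an involution fixing `x` is not inverted by an
involution moving `x`, unless it is trivial. -/
theorem se_eq_one_of_inverted [Finite G] (hH : IsStronglyEmbedded H) {t v e : G}
    (ht : orderOf t = 2) (hv : orderOf v = 2) {x : G ⧸ H} (htx : t • x = x) (hex : e • x = x)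
    (hvx : v • x ≠ x) (hte : Commute t e) (hinv : v * e * v⁻¹ = e⁻¹) : e = 1 := by
  obtain ⟨d, hd, hdt⟩ := exists_conj_of_odd ht hv (se_odd_mul hH ht hv htx hvx)
  have hd' : d ∈ extCentralizer e := by
    refine (Subgroup.closure_le (extCentralizer e)).2 ?_ hd
    rintro w (rfl | rfl)
    · exact Or.inl (mul_inv_eq_iff_eq_mul.2 hte.eq)
    · exact Or.inr hinv
  have hve : v * e * v⁻¹ = e := by
    have h1 : t * e * t⁻¹ = e := mul_inv_eq_iff_eq_mul.2 hte.eq
    rw [← hdt]
    rcases mem_extCentralizer.1 (inv_mem hd') with h | h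
    · rw [inv_inv] at h
      calc d * t * d⁻¹ * e * (d * t * d⁻¹)⁻¹ = d * (t * (d⁻¹ * e * d) * t⁻¹) * d⁻¹ := by group
        _ = d * (d⁻¹ * e * d) * d⁻¹ := by rw [h, h1]
        _ = e := by group
    · rw [inv_inv] at h
      calc d * t * d⁻¹ * e * (d * t * d⁻¹)⁻¹ = d * (t * (d⁻¹ * e * d) * t⁻¹) * d⁻¹ := by group
        _ = d * (d⁻¹ * e * d) * d⁻¹ := by
            rw [h, show t * e⁻¹ * t⁻¹ = (t * e * t⁻¹)⁻¹ by group, h1]
        _ = e := by group
  by_contra h1
  have he2 : orderOf e = 2 :=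
    orderOf_eq_two_of_mul_self (eq_inv_iff_mul_eq_one.1 (hve.symm.trans hinv)) h1
  exact hvx (se_centralizer_fixes hH he2 hex (mul_inv_eq_iff_eq_mul.1 hve))

/-- The involutions sending `x` to `y`. -/
def involMoving (x y : G ⧸ H) : Set G := {i | orderOf i = 2 ∧ i • x = y}

theorem ncard_involMoving_self [Finite G] (x y : G ⧸ H) :
    (involMoving x x).ncard = (involMoving y y).ncard := by
  obtain ⟨g, rfl⟩ := MulAction.exists_smul_eq G x y
  have : involMoving (g • x) (g • x) = (MulAut.conj g) '' involMoving x x := by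
    ext i
    constructor
    · rintro ⟨hi, hix⟩
      refine ⟨g⁻¹ * i * g, ⟨(orderOf_inv_conj g i).trans hi, ?_⟩, by simp [mul_assoc]⟩
      rw [mul_smul, mul_smul, hix, inv_smul_smul]
    · rintro ⟨j, ⟨hj, hjx⟩, rfl⟩
      refine ⟨(orderOf_conj_eq g j).trans hj, ?_⟩
      rw [MulAut.conj_apply, ← mul_smul, inv_mul_cancel_right, mul_smul, hjx]
  rw [this, Set.ncard_image_of_injective _ (MulAut.conj g).injective]

theorem involMoving_injOn [Finite G] (hH : IsStronglyEmbedded H) {x y : G ⧸ H} (hxy : x ≠ y)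
    {i₀ s : G} (hi₀ : i₀ ∈ involMoving x y) (hs : s ∈ involMoving x x) :
    Set.InjOn (fun i => i₀ * i * s * (i₀ * i)⁻¹) (involMoving x y) := by
  intro i hi j hj hij
  have hc : Commute s (i * j) := by
    simp only at hij
    have h1 : i * s * i⁻¹ = j * s * j⁻¹ := by
      calc i * s * i⁻¹ = i₀⁻¹ * (i₀ * i * s * (i₀ * i)⁻¹) * i₀ := by group
        _ = i₀⁻¹ * (i₀ * j * s * (i₀ * j)⁻¹) * i₀ := by rw [hij]
        _ = j * s * j⁻¹ := by group
    have h2 : i * (i * s * i⁻¹) * i⁻¹ = i * (j * s * j⁻¹) * i⁻¹ := by rw [h1]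
    have h3 : i * (i * s * i⁻¹) * i⁻¹ = s := by
      rw [invol_inv hi.1]
      calc i * (i * s * i) * i = (i * i) * s * (i * i) := by group
        _ = s := by rw [invol_mul_self hi.1, one_mul, mul_one]
    rw [h3] at h2
    refine (mul_inv_eq_iff_eq_mul.1 ?_).symm
    calc i * j * s * (i * j)⁻¹ = i * (j * s * j⁻¹) * i⁻¹ := by group
      _ = s := h2.symm
  have hfix : (i * j) • x = x := by
    rw [mul_smul, hj.2, ← hi.2, ← mul_smul, invol_mul_self hi.1, one_smul]
  have h1 := se_eq_one_of_inverted hH hs.1 hi.1 hs.2 hfix (by rw [hi.2]; exact hxy.symm) hc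
    (conj_mul_left_invol hi.1 hj.1)
  exact mul_left_cancel ((invol_mul_self hi.1).trans h1.symm)

theorem involMoving_mapsTo [Finite G] {x y : G ⧸ H} {i₀ s : G} (hi₀ : i₀ ∈ involMoving x y)
    (hs : s ∈ involMoving x x) :
    Set.MapsTo (fun i => i₀ * i * s * (i₀ * i)⁻¹) (involMoving x y) (involMoving x x) := by
  intro i hi
  have hfix : (i₀ * i) • x = x := by
    rw [mul_smul, hi.2, ← hi₀.2, ← mul_smul, invol_mul_self hi₀.1, one_smul]
  refine ⟨(orderOf_conj_eq _ _).trans hs.1, ?_⟩
  rw [mul_smul, show (i₀ * i)⁻¹ • x = x from inv_smul_eq_iff.2 hfix.symm, mul_smul, hs.2, hfix]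

theorem ncard_involMoving_le [Finite G] (hH : IsStronglyEmbedded H) {x y : G ⧸ H} (hxy : x ≠ y) :
    (involMoving x y).ncard ≤ (involMoving x x).ncard := by
  rcases (involMoving x y).eq_empty_or_nonempty with h | ⟨i₀, hi₀⟩
  · simp [h]
  obtain ⟨s, hs⟩ := se_exists_invol hH x
  exact Set.ncard_le_ncard_of_injOn _ (involMoving_mapsTo hi₀ hs) (involMoving_injOn hH hxy hi₀ hs)

/-- For `x ≠ y` as many involutions send `x` to `y` as fix `x`. -/
theorem ncard_involMoving_eq [Finite G] (hH : IsStronglyEmbedded H) {x y : G ⧸ H} (hxy : x ≠ y) :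
    (involMoving x y).ncard = (involMoving x x).ncard := by
  classical
  have := Fintype.ofFinite G
  have := Fintype.ofFinite (G ⧸ H)
  have hncard : ∀ a b : G ⧸ H, (involMoving a b).ncard =
      (Finset.univ.filter fun i : G => orderOf i = 2 ∧ i • a = b).card := by
    intro a b
    rw [← Set.ncard_coe_finset]
    congr 1
    ext i
    simp [involMoving]
  set I := Finset.univ.filter fun i : G => orderOf i = 2 with hI
  have hsum : ∀ a : G ⧸ H, ∑ b, (involMoving a b).ncard = I.card := by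
    intro a
    rw [Finset.card_eq_sum_card_fiberwise (f := fun i : G => i • a) (t := Finset.univ)
      fun _ _ => Finset.mem_univ _]
    refine Finset.sum_congr rfl fun b _ => ?_
    rw [hncard, hI, Finset.filter_filter]
  have htot : I.card = ∑ a : G ⧸ H, (involMoving a a).ncard := by
    rw [Finset.card_eq_sum_ones]
    calc ∑ i ∈ I, 1 = ∑ i ∈ I, ∑ a : G ⧸ H, (if i • a = a then 1 else 0) := by
          refine Finset.sum_congr rfl fun i hi => ?_
          have hi2 : orderOf i = 2 := (Finset.mem_filter.1 hi).2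
          obtain ⟨a, ha⟩ := se_exists_fixed hH hi2
          rw [Finset.sum_eq_single a]
          · rw [if_pos ha]
          · intro b _ hb
            rw [if_neg fun h => hb (invol_fixed_unique hH hi2 h ha)]
          · intro h; exact absurd (Finset.mem_univ a) h
      _ = ∑ a : G ⧸ H, ∑ i ∈ I, (if i • a = a then 1 else 0) := Finset.sum_comm
      _ = _ := by
          refine Finset.sum_congr rfl fun a _ => ?_
          rw [hncard, ← Finset.filter_filter, Finset.card_filter, hI]
  have heq : ∑ b, (involMoving x b).ncard = ∑ b : G ⧸ H, (involMoving x x).ncard := by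
    rw [hsum, htot]
    exact Finset.sum_congr rfl fun a _ => ncard_involMoving_self a x
  have hle : ∀ b ∈ (Finset.univ : Finset (G ⧸ H)),
      (involMoving x b).ncard ≤ (involMoving x x).ncard := by
    intro b _
    by_cases hb : x = b
    · rw [hb]
    · exact ncard_involMoving_le hH hb
  exact (Finset.sum_eq_sum_iff_of_le hle).1 heq y (Finset.mem_univ y)

theorem se_exists_moving [Finite G] (hH : IsStronglyEmbedded H) (x y : G ⧸ H) :
    ∃ i : G, orderOf i = 2 ∧ i • x = y := by
  by_cases hxy : x = y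
  · exact hxy ▸ se_exists_invol hH x
  obtain ⟨s, hs⟩ := se_exists_invol hH x
  have hpos : 0 < (involMoving x y).ncard := by
    rw [ncard_involMoving_eq hH hxy]
    exact (Set.ncard_pos (Set.toFinite _)).2 ⟨s, hs⟩
  exact (Set.ncard_pos (Set.toFinite _)).1 hpos

/-- `G_x ∩ G_y` is transitive on the involutions fixing `x`. -/
theorem se_exists_conj_two_point [Finite G] (hH : IsStronglyEmbedded H) {x y : G ⧸ H} (hxy : x ≠ y)
    {s t : G} (hs : orderOf s = 2) (hsx : s • x = x) (ht : orderOf t = 2) (htx : t • x = x) :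
    ∃ d : G, d • x = x ∧ d • y = y ∧ d * s * d⁻¹ = t := by
  obtain ⟨i₀, hi₀, hi₀x⟩ := se_exists_moving hH x y
  have himg : (fun i => i₀ * i * s * (i₀ * i)⁻¹) '' involMoving x y = involMoving x x := by
    refine Set.eq_of_subset_of_ncard_le ?_ ?_ (Set.toFinite _)
    · exact (involMoving_mapsTo ⟨hi₀, hi₀x⟩ ⟨hs, hsx⟩).image_subset
    · rw [(involMoving_injOn hH hxy ⟨hi₀, hi₀x⟩ ⟨hs, hsx⟩).ncard_image, ncard_involMoving_eq hH hxy]
  obtain ⟨i, ⟨hi, hix⟩, hit⟩ : t ∈ (fun i => i₀ * i * s * (i₀ * i)⁻¹) '' involMoving x y := by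
    rw [himg]; exact ⟨ht, htx⟩
  refine ⟨i₀ * i, ?_, ?_, hit⟩
  · rw [mul_smul, hix, ← hi₀x, ← mul_smul, invol_mul_self hi₀, one_smul]
  · rw [mul_smul, ← hix, ← mul_smul i i, invol_mul_self hi, one_smul, hi₀x, hix]

end Cfsg.Agent.Lib.Involutions
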