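import Mathlib
import Cfsg.Agent.Lib.Involutions.SEAction

/-!
# Groups in which the centralizer of every involution is an elementary abelian 2-group

With `T` a Sylow 2-subgroup that is neither cyclic nor normal, `G` acts triply transitively on
the cosets of `N(T)`, three-point stabilizers are trivial and `T` is regular off its fixed point.
-/

namespace Cfsg.Agent.Lib.Involutions

open Cfsg

/-- The hypotheses. -/
structure ElemCentralizers (G : Type*) [Group G] where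
  /-- the Sylow 2-subgroup -/
  T : Sylow 2 G
  not_cyclic : ¬ IsCyclic (T : Subgroup G)
  not_normal : ¬ (T : Subgroup G).Normal
  cent : ∀ t : G, orderOf t = 2 → IsMulCommutative (Subgroup.centralizer ({t} : Set G)) ∧
    ∀ c ∈ Subgroup.centralizer ({t} : Set G), c ^ 2 = 1

variable {G : Type*} [Group G] [Finite G]

namespace ElemCentralizers

variable (h : ElemCentralizers G)

/-- The normalizer of the Sylow subgroup. -/
def H : Subgroup G := Subgroup.normalizer ((h.T : Subgroup G) : Set G)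

theorem four_le : 4 ≤ Nat.card (h.T : Subgroup G) := by
  obtain ⟨k, hk⟩ := IsPGroup.iff_card.1 h.T.2
  rcases k with _ | _ | k
  · have : Subsingleton (h.T : Subgroup G) :=
      (Nat.card_eq_one_iff_unique.1 (by rw [hk, pow_zero])).1
    exact absurd (isCyclic_of_subsingleton) h.not_cyclic
  · have : Fact (Nat.Prime 2) := ⟨Nat.prime_two⟩
    exact absurd (isCyclic_of_prime_card (p := 2) (by rw [hk, zero_add, pow_one])) h.not_cyclic
  · rw [hk]
    calc 4 = 2 ^ 2 := by norm_num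
      _ ≤ _ := Nat.pow_le_pow_right (by norm_num) (by omega)

theorem exists_central : ∃ z : G, orderOf z = 2 ∧ z ∈ (h.T : Subgroup G) ∧
    (h.T : Subgroup G) ≤ Subgroup.centralizer ({z} : Set G) := by
  have : Fact (Nat.Prime 2) := ⟨Nat.prime_two⟩
  have := h.four_le
  have : Nontrivial (h.T : Subgroup G) := Finite.one_lt_card_iff_nontrivial.1 (by omega)
  have hc : Nontrivial (Subgroup.center (h.T : Subgroup G)) := h.T.2.center_nontrivial
  obtain ⟨z, hz⟩ := exists_invol_of_even (G := Subgroup.center (h.T : Subgroup G)) (by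
    obtain ⟨n, hn⟩ := IsPGroup.iff_card.1 (h.T.2.to_subgroup (Subgroup.center (h.T : Subgroup G)))
    have := Finite.one_lt_card_iff_nontrivial.2 hc
    rcases n with _ | n
    · rw [pow_zero] at hn; omega
    · exact ⟨2 ^ n, by rw [hn, pow_succ, mul_two]⟩)
  refine ⟨((z : (h.T : Subgroup G)) : G), by rw [Subgroup.orderOf_coe, Subgroup.orderOf_coe, hz],
    (z : (h.T : Subgroup G)).2, fun x hx => ?_⟩
  exact Subgroup.mem_centralizer_singleton_iff.2
    (congrArg Subtype.val (Subgroup.mem_center_iff.1 z.2 ⟨x, hx⟩))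

theorem sq_T {x : G} (hx : x ∈ (h.T : Subgroup G)) : x * x = 1 := by
  obtain ⟨z, hz, -, hle⟩ := h.exists_central
  rw [← sq]
  exact (h.cent z hz).2 x (hle hx)

theorem comm_T {x y : G} (hx : x ∈ (h.T : Subgroup G)) (hy : y ∈ (h.T : Subgroup G)) :
    Commute x y := by
  obtain ⟨z, hz, -, hle⟩ := h.exists_central
  exact congrArg Subtype.val ((h.cent z hz).1.is_comm.comm
    (⟨x, hle hx⟩ : Subgroup.centralizer ({z} : Set G)) ⟨y, hle hy⟩)

theorem centralizer_eq {t : G} (ht : orderOf t = 2) (htT : t ∈ (h.T : Subgroup G)) :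
    Subgroup.centralizer ({t} : Set G) = (h.T : Subgroup G) := by
  refine h.T.is_maximal' (fun c => ⟨1, Subtype.ext ?_⟩) fun x hx =>
    Subgroup.mem_centralizer_singleton_iff.2 (h.comm_T hx htT)
  simpa using (h.cent t ht).2 c c.2

theorem mem_T_of_invol {t : G} (ht : orderOf t = 2) (htH : t ∈ h.H) : t ∈ (h.T : Subgroup G) := by
  have : Fact (Nat.Prime 2) := ⟨Nat.prime_two⟩
  have hz : IsPGroup 2 (Subgroup.zpowers t) :=
    IsPGroup.iff_card.2 ⟨1, by rw [Nat.card_zpowers, ht, pow_one]⟩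
  have h2 : Subgroup.zpowers t ⊓ Subgroup.normalizer ((h.T : Subgroup G) : Set G) =
      Subgroup.zpowers t ⊓ (h.T : Subgroup G) := hz.inf_normalizer_sylow h.T
  exact (h2 ▸ (⟨Subgroup.mem_zpowers t, htH⟩ : t ∈ Subgroup.zpowers t ⊓ _) :
    t ∈ Subgroup.zpowers t ⊓ (h.T : Subgroup G)).2

theorem T_le_H : (h.T : Subgroup G) ≤ h.H := Subgroup.le_normalizer

theorem se : IsStronglyEmbedded h.H := by
  refine isStronglyEmbedded_of_conj_mem ?_ ?_ fun t htH ht g hg => ?_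
  · exact fun hH => h.not_normal (Subgroup.normalizer_eq_top_iff.1 hH)
  · obtain ⟨z, hz, hzT, -⟩ := h.exists_central
    rw [even_iff_two_dvd, ← hz]
    exact Subgroup.orderOf_dvd_natCard _ (h.T_le_H hzT)
  · have ht' : orderOf (g * t * g⁻¹) = 2 := (orderOf_conj_eq g t).trans ht
    have hle : (h.T : Subgroup G).map (MulAut.conj g).toMonoidHom ≤ (h.T : Subgroup G) := by
      rintro _ ⟨x, hx, rfl⟩
      rw [← h.centralizer_eq ht' (h.mem_T_of_invol ht' hg)]
      rw [Subgroup.mem_centralizer_singleton_iff]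
      show MulAut.conj g x * MulAut.conj g t = MulAut.conj g t * MulAut.conj g x
      rw [← map_mul, ← map_mul, (h.comm_T hx (h.mem_T_of_invol ht htH)).eq]
    exact mem_normalizer_iff_map_conj.2 (Subgroup.eq_of_le_of_card_ge hle
      (Subgroup.card_map_of_injective (MulAut.conj g).injective).ge)

/-- The base point. -/
def pt : G ⧸ h.H := QuotientGroup.mk 1

theorem smul_pt_iff {g : G} : g • h.pt = h.pt ↔ g ∈ h.H := smul_one_eq_iff

theorem fixes_pt_of_mem_T {t : G} (ht : t ∈ (h.T : Subgroup G)) : t • h.pt = h.pt :=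
  h.smul_pt_iff.2 (h.T_le_H ht)

theorem orderOf_T {t : G} (ht : t ∈ (h.T : Subgroup G)) (h1 : t ≠ 1) : orderOf t = 2 :=
  orderOf_eq_two_of_mul_self (h.sq_T ht) h1

theorem T_semiregular {t : G} (ht : t ∈ (h.T : Subgroup G)) {y : G ⧸ h.H} (hy : y ≠ h.pt)
    (hty : t • y = y) : t = 1 := by
  by_contra h1
  exact hy (invol_fixed_unique h.se (h.orderOf_T ht h1) hty (h.fixes_pt_of_mem_T ht))

theorem involMoving_pt : involMoving h.pt h.pt = ((h.T : Subgroup G) : Set G) \ {1} := by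
  ext t
  constructor
  · rintro ⟨ht, hto⟩
    exact ⟨h.mem_T_of_invol ht (h.smul_pt_iff.1 hto), invol_ne_one ht⟩
  · rintro ⟨ht, h1⟩
    exact ⟨h.orderOf_T ht h1, h.fixes_pt_of_mem_T ht⟩

theorem ncard_involMoving {x y : G ⧸ h.H} (hxy : x ≠ y) :
    (involMoving x y).ncard = Nat.card (h.T : Subgroup G) - 1 := by
  rw [ncard_involMoving_eq h.se hxy, ncard_involMoving_self x h.pt, h.involMoving_pt,
    Set.ncard_sdiff_singleton_of_mem (one_mem _), ← Nat.card_coe_set_eq]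
  rfl

/-- The stabilizer of two points. -/
def two (x y : G ⧸ h.H) : Subgroup G := MulAction.stabilizer G x ⊓ MulAction.stabilizer G y

theorem mem_two {x y : G ⧸ h.H} {d : G} : d ∈ h.two x y ↔ d • x = x ∧ d • y = y := Iff.rfl

theorem two_inf_T {y : G ⧸ h.H} (hy : y ≠ h.pt) {d : G} (hd : d ∈ h.two h.pt y)
    (hdT : d ∈ (h.T : Subgroup G)) : d = 1 :=
  h.T_semiregular hdT hy hd.2

theorem conj_bijOn {y : G ⧸ h.H} (hy : y ≠ h.pt) {t : G} (ht : orderOf t = 2)
    (htT : t ∈ (h.T : Subgroup G)) :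
    Set.BijOn (fun d => d * t * d⁻¹) (h.two h.pt y : Set G) (involMoving h.pt h.pt) := by
  refine ⟨fun d hd => ⟨(orderOf_conj_eq d t).trans ht, ?_⟩, fun a ha b hb hab => ?_, fun s hs => ?_⟩
  · rw [mul_smul, show d⁻¹ • h.pt = h.pt from inv_smul_eq_iff.2 hd.1.symm, mul_smul,
      h.fixes_pt_of_mem_T htT, hd.1]
  · have hc : a⁻¹ * b ∈ (h.T : Subgroup G) := by
      rw [← h.centralizer_eq ht htT, Subgroup.mem_centralizer_singleton_iff]
      simp only at hab
      calc a⁻¹ * b * t = a⁻¹ * (b * t * b⁻¹) * b := by group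
        _ = a⁻¹ * (a * t * a⁻¹) * b := by rw [hab]
        _ = t * (a⁻¹ * b) := by group
    exact inv_mul_eq_one.1 (h.two_inf_T hy ((h.two h.pt y).mul_mem ((h.two h.pt y).inv_mem ha) hb) hc)
  · obtain ⟨d, hd1, hd2, hd⟩ :=
      se_exists_conj_two_point h.se hy.symm ht (h.fixes_pt_of_mem_T htT) hs.1 hs.2
    exact ⟨d, ⟨hd1, hd2⟩, hd⟩

theorem card_two_pt {y : G ⧸ h.H} (hy : y ≠ h.pt) :
    Nat.card (h.two h.pt y) = Nat.card (h.T : Subgroup G) - 1 := by
  obtain ⟨z, hz, hzT, -⟩ := h.exists_central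
  rw [← h.ncard_involMoving hy.symm, ncard_involMoving_eq h.se hy.symm, ← SetLike.coe_sort_coe,
    Nat.card_coe_set_eq, ← (h.conj_bijOn hy hz hzT).injOn.ncard_image,
    (h.conj_bijOn hy hz hzT).image_eq]

theorem exists_two_mul {y : G ⧸ h.H} (hy : y ≠ h.pt) {g : G} (hg : g ∈ h.H) :
    ∃ t ∈ (h.T : Subgroup G), ∃ d ∈ h.two h.pt y, g = t * d := by
  obtain ⟨z, hz, hzT, -⟩ := h.exists_central
  have hgz : g * z * g⁻¹ ∈ involMoving h.pt h.pt :=
    ⟨(orderOf_conj_eq g z).trans hz,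
      h.smul_pt_iff.2 (mul_mem (mul_mem hg (h.T_le_H hzT)) (inv_mem hg))⟩
  obtain ⟨d, hd, hdz⟩ := (h.conj_bijOn hy hz hzT).surjOn hgz
  simp only at hdz
  have hc : d⁻¹ * g ∈ (h.T : Subgroup G) := by
    rw [← h.centralizer_eq hz hzT, Subgroup.mem_centralizer_singleton_iff]
    calc d⁻¹ * g * z = d⁻¹ * (g * z * g⁻¹) * g := by group
      _ = d⁻¹ * (d * z * d⁻¹) * g := by rw [← hdz]
      _ = z * (d⁻¹ * g) := by group
  refine ⟨g * d⁻¹, ?_, d, hd, (inv_mul_cancel_right g d).symm⟩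
  have hdH : d ∈ h.H := h.smul_pt_iff.1 hd.1
  have := (Subgroup.mem_normalizer_iff.1 hdH _).1 hc
  rwa [show d * (d⁻¹ * g) * d⁻¹ = g * d⁻¹ by group] at this

theorem card_H {y : G ⧸ h.H} (hy : y ≠ h.pt) :
    Nat.card h.H = Nat.card (h.T : Subgroup G) * (Nat.card (h.T : Subgroup G) - 1) := by
  rw [← h.card_two_pt hy, ← Nat.card_prod]
  symm
  refine Nat.card_eq_of_bijective
    (fun p : ↥(h.T : Subgroup G) × ↥(h.two h.pt y) =>
      (⟨(p.1 : G) * p.2, mul_mem (h.T_le_H p.1.2) (h.smul_pt_iff.1 p.2.2.1)⟩ : h.H)) ⟨?_, ?_⟩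
  · rintro ⟨a, b⟩ ⟨a', b'⟩ hab
    have hab' : (a : G) * b = a' * b' := congrArg Subtype.val hab
    have hm : (b : G) * (b' : G)⁻¹ ∈ (h.T : Subgroup G) := by
      rw [show (b : G) * (b' : G)⁻¹ = (a : G)⁻¹ * a' by
        rw [eq_inv_mul_iff_mul_eq, ← mul_assoc, hab', mul_inv_cancel_right]]
      exact mul_mem (inv_mem a.2) a'.2
    have hb : (b : G) = b' := mul_inv_eq_one.1 (h.two_inf_T hy (mul_mem b.2 (inv_mem b'.2)) hm)
    rw [hb] at hab'
    exact Prod.ext (Subtype.ext (mul_right_cancel hab')) (Subtype.ext hb)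
  · rintro ⟨g, hg⟩
    obtain ⟨t, ht, d, hd, rfl⟩ := h.exists_two_mul hy hg
    exact ⟨(⟨t, ht⟩, ⟨d, hd⟩), rfl⟩

theorem odd_card_two {x y : G ⧸ h.H} (hxy : x ≠ y) : Odd (Nat.card (h.two x y)) := by
  rw [← Nat.not_even_iff_odd]
  intro he
  obtain ⟨i, hi⟩ := exists_invol_of_even (G := h.two x y) he
  exact hxy (invol_fixed_unique h.se ((Subgroup.orderOf_coe i).trans hi) i.2.1 i.2.2)

/-- An involution interchanging two points inverts their stabilizer. -/
theorem inverts {x y : G ⧸ h.H} (hxy : x ≠ y) {u : G} (hu : u ∈ involMoving x y) {d : G}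
    (hd : d ∈ h.two x y) : u * d * u⁻¹ = d⁻¹ := by
  obtain ⟨g, rfl⟩ := MulAction.exists_smul_eq G h.pt x
  set y' := g⁻¹ • y with hy'
  have hy0 : y' ≠ h.pt := fun e => hxy (by rw [← e, hy', smul_inv_smul])
  set u' := g⁻¹ * u * g with hu'
  set d' := g⁻¹ * d * g with hd'
  have hu2 : u' ∈ involMoving h.pt y' :=
    ⟨(orderOf_inv_conj g u).trans hu.1, by rw [hu', mul_smul, mul_smul, hu.2]⟩
  have hd2 : d' ∈ h.two h.pt y' :=
    h.mem_two.2 ⟨by rw [hd', mul_smul, mul_smul, hd.1, inv_smul_smul],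
      by rw [hd', mul_smul, mul_smul, hy', smul_inv_smul, hd.2]⟩
  have hmaps : (fun i => u' * i) '' involMoving h.pt y' = (h.two h.pt y' : Set G) := by
    refine Set.eq_of_subset_of_ncard_le ?_ ?_ (Set.toFinite _)
    · rintro _ ⟨i, hi, rfl⟩
      refine h.mem_two.2 ⟨?_, ?_⟩
      · rw [mul_smul, hi.2, ← hu2.2, ← mul_smul, invol_mul_self hu2.1, one_smul]
      · rw [mul_smul, ← hi.2, ← mul_smul i i, invol_mul_self hi.1, one_smul, hu2.2, hi.2]
    · rw [Set.ncard_image_of_injective _ (mul_right_injective u'), h.ncard_involMoving hy0.symm,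
        ← Nat.card_coe_set_eq]
      exact (h.card_two_pt hy0).le
  obtain ⟨i, hi, hid⟩ : d' ∈ (fun i => u' * i) '' involMoving h.pt y' := by rw [hmaps]; exact hd2
  simp only at hid
  have hinv := conj_mul_left_invol hu2.1 hi.1
  rw [hid] at hinv
  calc u * d * u⁻¹ = g * (u' * d' * u'⁻¹) * g⁻¹ := by rw [hu', hd']; group
    _ = d⁻¹ := by rw [hinv, hd']; group

theorem comm_two {x y : G ⧸ h.H} (hxy : x ≠ y) {a b : G} (ha : a ∈ h.two x y)
    (hb : b ∈ h.two x y) : Commute a b := by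
  obtain ⟨u, hu⟩ := se_exists_moving h.se x y
  have h1 : u * (a * b) * u⁻¹ = a⁻¹ * b⁻¹ := by
    rw [show u * (a * b) * u⁻¹ = u * a * u⁻¹ * (u * b * u⁻¹) by group, h.inverts hxy hu ha,
      h.inverts hxy hu hb]
  rw [h.inverts hxy hu (mul_mem ha hb), mul_inv_rev] at h1
  have := congrArg (fun z : G => z⁻¹) h1
  show a * b = b * a
  simpa [mul_inv_rev] using this

theorem eq_one_of_sq_two {x y : G ⧸ h.H} (hxy : x ≠ y) {d : G} (hd : d ∈ h.two x y)
    (h2 : d * d = 1) : d = 1 := by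
  by_contra h1
  exact hxy (invol_fixed_unique h.se (orderOf_eq_two_of_mul_self h2 h1) hd.1 hd.2)

theorem eq_one_of_commute_T {y : G ⧸ h.H} (hy : y ≠ h.pt) {t d : G}
    (ht : t ∈ (h.T : Subgroup G)) (hd : d ∈ h.two h.pt y) (hd1 : d ≠ 1) (hc : Commute t d) :
    t = 1 := by
  by_contra h1
  refine hd1 (h.two_inf_T hy hd ?_)
  rw [← h.centralizer_eq (h.orderOf_T ht h1) ht]
  exact Subgroup.mem_centralizer_singleton_iff.2 hc.symm

theorem mem_two_of_commute {y : G ⧸ h.H} (hy : y ≠ h.pt) {g d : G} (hg : g ∈ h.H)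
    (hd : d ∈ h.two h.pt y) (hd1 : d ≠ 1) (hc : Commute g d) : g ∈ h.two h.pt y := by
  obtain ⟨t, ht, d', hd', rfl⟩ := h.exists_two_mul hy hg
  have hct : Commute t d := by
    have := hc.mul_left (h.comm_two hy.symm (inv_mem hd') hd)
    simpa [mul_assoc] using this
  rw [h.eq_one_of_commute_T hy ht hd hd1 hct, one_mul]
  exact hd'

/-- Elements fixing a point do not invert nontrivial elements of a two-point stabilizer. -/
theorem not_inverts_of_mem_H {y : G ⧸ h.H} (hy : y ≠ h.pt) {g d : G} (hg : g ∈ h.H)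
    (hd : d ∈ h.two h.pt y) (hinv : g * d * g⁻¹ = d⁻¹) : d = 1 := by
  obtain ⟨t, ht, d', hd', rfl⟩ := h.exists_two_mul hy hg
  have hd'd : d' * d * d'⁻¹ = d := mul_inv_eq_iff_eq_mul.2 (h.comm_two hy.symm hd' hd).eq
  have ht' : t * d * t⁻¹ = d⁻¹ := by
    calc t * d * t⁻¹ = t * (d' * d * d'⁻¹) * t⁻¹ := by rw [hd'd]
      _ = t * d' * d * (t * d')⁻¹ := by group
      _ = d⁻¹ := hinv
  refine h.eq_one_of_sq_two hy.symm hd (inv_eq_one.1 (h.two_inf_T hy (inv_mem (mul_mem hd hd)) ?_))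
  have hdH : d ∈ h.H := h.smul_pt_iff.1 hd.1
  have h1 : t * (d * t⁻¹ * d⁻¹) ∈ (h.T : Subgroup G) :=
    mul_mem ht ((Subgroup.mem_normalizer_iff.1 hdH _).1 (inv_mem ht))
  rwa [show (d * d)⁻¹ = t * (d * t⁻¹ * d⁻¹) by
    calc (d * d)⁻¹ = d⁻¹ * d⁻¹ := by group
      _ = t * d * t⁻¹ * d⁻¹ := by rw [ht']
      _ = _ := by group]

theorem exists_ne_pt : ∃ y : G ⧸ h.H, y ≠ h.pt := by
  by_contra hcon
  push Not at hcon
  refine h.se.1 (eq_top_iff.2 fun g _ => ?_)
  exact h.smul_pt_iff.1 (hcon _)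

theorem exists_ne_one_two {y : G ⧸ h.H} (hy : y ≠ h.pt) : ∃ d ∈ h.two h.pt y, d ≠ 1 := by
  by_contra hcon
  push Not at hcon
  have : h.two h.pt y = ⊥ := (Subgroup.eq_bot_iff_forall _).2 hcon
  have h1 := h.card_two_pt hy
  rw [this, Subgroup.card_bot] at h1
  have := h.four_le
  omega

/-- A nontrivial element fixing the base point and `y` fixes no other point. -/
theorem eq_one_of_three_pt {y q : G ⧸ h.H} (hy : y ≠ h.pt) (hq : q ≠ h.pt) (hyq : y ≠ q) {d : G}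
    (hd : d ∈ h.two h.pt y) (hdq : d • q = q) : d = 1 := by
  by_contra hd1
  have hdq' : d ∈ h.two h.pt q := ⟨hd.1, hdq⟩
  -- the stabilizer of `pt, y` fixes `q`
  have hall : ∀ e ∈ h.two h.pt y, e • q = q := by
    have hle : h.two h.pt q ≤ h.two h.pt y := fun e he =>
      h.mem_two_of_commute hy (h.smul_pt_iff.1 he.1) hd hd1 (h.comm_two hq.symm he hdq')
    have heq : h.two h.pt q = h.two h.pt y := Subgroup.eq_of_le_of_card_ge hle (by
      rw [h.card_two_pt hy, h.card_two_pt hq])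
    intro e he
    rw [← heq] at he
    exact he.2
  obtain ⟨u, hu⟩ := se_exists_moving h.se h.pt y
  obtain ⟨v, hv⟩ := se_exists_moving h.se h.pt q
  obtain ⟨w, hw⟩ := se_exists_moving h.se q y
  have hg : u * w * v ∈ h.H := by
    rw [← h.smul_pt_iff, mul_smul, mul_smul, hv.2, hw.2, ← hu.2, ← mul_smul, invol_mul_self hu.1,
      one_smul]
  apply hd1
  refine h.not_inverts_of_mem_H hy hg hd ?_
  calc u * w * v * d * (u * w * v)⁻¹ = u * (w * (v * d * v⁻¹) * w⁻¹) * u⁻¹ := by group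
    _ = u * (w * d⁻¹ * w⁻¹) * u⁻¹ := by rw [h.inverts hq.symm hv hdq']
    _ = u * d * u⁻¹ := by
        rw [h.inverts hyq.symm hw (inv_mem (⟨hdq, hd.2⟩ : d ∈ h.two q y)), inv_inv]
    _ = d⁻¹ := h.inverts hy.symm hu hd

theorem T_transitive {y q : G ⧸ h.H} (hy : y ≠ h.pt) (hq : q ≠ h.pt) :
    ∃ t ∈ (h.T : Subgroup G), t • y = q := by
  obtain ⟨e, he, he1⟩ := h.exists_ne_one_two hq
  have heH : e ∈ h.H := h.smul_pt_iff.1 he.1
  obtain ⟨s, hs, d, hd, hed⟩ := h.exists_two_mul hy heH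
  have hd1 : d ≠ 1 := by
    rintro rfl
    rw [mul_one] at hed
    exact he1 (h.two_inf_T hq he (hed ▸ hs))
  have hdH : d ∈ h.H := h.smul_pt_iff.1 hd.1
  have himg : (fun t => t * (d * t⁻¹ * d⁻¹)) '' ((h.T : Subgroup G) : Set G) =
      ((h.T : Subgroup G) : Set G) := by
    refine Set.eq_of_subset_of_ncard_le ?_ ?_ (Set.toFinite _)
    · rintro _ ⟨t, ht, rfl⟩
      exact mul_mem ht ((Subgroup.mem_normalizer_iff.1 hdH _).1 (inv_mem ht))
    · rw [Set.InjOn.ncard_image]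
      intro a ha b hb hab
      simp only at hab
      refine inv_mul_eq_one.1 (h.eq_one_of_commute_T hy (mul_mem (inv_mem ha) hb) hd hd1 ?_)
      show a⁻¹ * b * d = d * (a⁻¹ * b)
      calc a⁻¹ * b * d = a⁻¹ * (b * (d * b⁻¹ * d⁻¹)) * (d * b) := by group
        _ = a⁻¹ * (a * (d * a⁻¹ * d⁻¹)) * (d * b) := by rw [hab]
        _ = d * (a⁻¹ * b) := by group
  obtain ⟨t, ht, hts⟩ : s ∈ (fun t => t * (d * t⁻¹ * d⁻¹)) '' ((h.T : Subgroup G) : Set G) := by
    rw [himg]; exact hs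
  simp only at hts
  refine ⟨t, ht, ?_⟩
  have hte : e = t * d * t⁻¹ := by rw [hed, ← hts]; group
  have hfix : e • (t • y) = t • y := by
    rw [hte, ← mul_smul, inv_mul_cancel_right, mul_smul, hd.2]
  have hne : t • y ≠ h.pt := fun hc => hy (by
    have := congrArg (fun z => t⁻¹ • z) hc
    rwa [inv_smul_smul, inv_smul_eq_iff.2 (h.fixes_pt_of_mem_T ht).symm] at this)
  by_contra hne'
  exact he1 (h.eq_one_of_three_pt hq hne (Ne.symm hne') he hfix)

theorem card_ne_pt : Nat.card {z : G ⧸ h.H // z ≠ h.pt} = Nat.card (h.T : Subgroup G) := by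
  obtain ⟨y, hy⟩ := h.exists_ne_pt
  symm
  refine Nat.card_eq_of_bijective
    (fun t : (h.T : Subgroup G) => (⟨(t : G) • y, fun hc => hy ?_⟩ : {z : G ⧸ h.H // z ≠ h.pt}))
    ⟨?_, ?_⟩
  · have := congrArg (fun z => (t : G)⁻¹ • z) hc
    rwa [inv_smul_smul, inv_smul_eq_iff.2 (h.fixes_pt_of_mem_T t.2).symm] at this
  · intro a b hab
    have hab' : (a : G) • y = (b : G) • y := congrArg Subtype.val hab
    exact Subtype.ext (inv_mul_eq_one.1 (h.T_semiregular (mul_mem (inv_mem a.2) b.2) hy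
      (by rw [mul_smul, ← hab', inv_smul_smul])))
  · rintro ⟨q, hq⟩
    obtain ⟨t, ht, htq⟩ := h.T_transitive hy hq
    exact ⟨⟨t, ht⟩, Subtype.ext htq⟩

theorem two_transitive {y q r : G ⧸ h.H} (hy : y ≠ h.pt) (hq : q ≠ h.pt) (hqy : q ≠ y)
    (hr : r ≠ h.pt) (hry : r ≠ y) : ∃ d ∈ h.two h.pt y, d • q = r := by
  have hinj : Set.InjOn (fun d => d • q) (h.two h.pt y : Set G) := by
    intro a ha b hb hab
    simp only at hab
    refine inv_mul_eq_one.1 (h.eq_one_of_three_pt hy hq hqy.symm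
      ((h.two h.pt y).mul_mem ((h.two h.pt y).inv_mem ha) hb) ?_)
    rw [mul_smul, ← hab, inv_smul_smul]
  have himg : (fun d => d • q) '' (h.two h.pt y : Set G) = {z | z ≠ h.pt} \ {y} := by
    refine Set.eq_of_subset_of_ncard_le ?_ ?_ (Set.toFinite _)
    · rintro _ ⟨d, hd, rfl⟩
      refine ⟨fun hc => hq (smul_left_cancel d (hc.trans hd.1.symm)), fun hc => hqy ?_⟩
      exact smul_left_cancel d ((Set.mem_singleton_iff.1 hc).trans hd.2.symm)
    · rw [hinj.ncard_image, Set.ncard_sdiff_singleton_of_mem (show y ∈ {z | z ≠ h.pt} from hy),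
        ← Nat.card_coe_set_eq, ← Nat.card_coe_set_eq]
      exact le_of_eq ((congrArg (· - 1) h.card_ne_pt).trans (h.card_two_pt hy).symm)
  obtain ⟨d, hd, hdr⟩ : r ∈ (fun d => d • q) '' (h.two h.pt y : Set G) := by
    rw [himg]; exact ⟨hr, hry⟩
  exact ⟨d, hd, hdr⟩

theorem triply_transitive {x₁ x₂ x₃ y₁ y₂ y₃ : G ⧸ h.H} (h12 : x₁ ≠ x₂) (h13 : x₁ ≠ x₃)
    (h23 : x₂ ≠ x₃) (k12 : y₁ ≠ y₂) (k13 : y₁ ≠ y₃) (k23 : y₂ ≠ y₃) :
    ∃ g : G, g • x₁ = y₁ ∧ g • x₂ = y₂ ∧ g • x₃ = y₃ := by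
  obtain ⟨a, ha⟩ := MulAction.exists_smul_eq G x₁ h.pt
  obtain ⟨b, hb⟩ := MulAction.exists_smul_eq G y₁ h.pt
  have na2 : a • x₂ ≠ h.pt := fun e => h12 (smul_left_cancel a (ha.trans e.symm))
  have na3 : a • x₃ ≠ h.pt := fun e => h13 (smul_left_cancel a (ha.trans e.symm))
  have nb2 : b • y₂ ≠ h.pt := fun e => k12 (smul_left_cancel b (hb.trans e.symm))
  have nb3 : b • y₃ ≠ h.pt := fun e => k13 (smul_left_cancel b (hb.trans e.symm))
  obtain ⟨t, ht, htq⟩ := h.T_transitive na2 nb2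
  have hto := h.fixes_pt_of_mem_T ht
  have n3 : t • a • x₃ ≠ h.pt := fun e => na3 (smul_left_cancel t (e.trans hto.symm))
  have n32 : t • a • x₃ ≠ b • y₂ := fun e =>
    h23 (smul_left_cancel a (smul_left_cancel t (htq.trans e.symm)))
  have n3' : b • y₃ ≠ b • y₂ := fun e => k23 (smul_left_cancel b e).symm
  obtain ⟨d, hd, hdq⟩ := h.two_transitive nb2 n3 n32 nb3 n3'
  refine ⟨b⁻¹ * d * t * a, ?_, ?_, ?_⟩
  · rw [mul_smul, mul_smul, mul_smul, ha, hto, hd.1, ← hb, inv_smul_smul]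
  · rw [mul_smul, mul_smul, mul_smul, htq, hd.2, inv_smul_smul]
  · rw [mul_smul, mul_smul, mul_smul, hdq, inv_smul_smul]

theorem three_fixed {g : G} {x₁ x₂ x₃ : G ⧸ h.H} (h12 : x₁ ≠ x₂) (h13 : x₁ ≠ x₃) (h23 : x₂ ≠ x₃)
    (g1 : g • x₁ = x₁) (g2 : g • x₂ = x₂) (g3 : g • x₃ = x₃) : g = 1 := by
  obtain ⟨a, ha⟩ := MulAction.exists_smul_eq G x₁ h.pt
  have n2 : a • x₂ ≠ h.pt := fun e => h12 (smul_left_cancel a (ha.trans e.symm))
  have n3 : a • x₃ ≠ h.pt := fun e => h13 (smul_left_cancel a (ha.trans e.symm))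
  have key : ∀ x : G ⧸ h.H, g • x = x → (a * g * a⁻¹) • (a • x) = a • x := fun x hx => by
    rw [← mul_smul, inv_mul_cancel_right, mul_smul, hx]
  have := h.eq_one_of_three_pt n2 n3 (fun e => h23 (smul_left_cancel a e))
    (d := a * g * a⁻¹) ⟨by rw [← ha]; exact key _ g1, key _ g2⟩ (key _ g3)
  exact conj_eq_one_iff.1 this

theorem fixed_two {y q : G ⧸ h.H} (hy : y ≠ h.pt) (hfix : ∀ d ∈ h.two h.pt y, d • q = q) :
    q = h.pt ∨ q = y := by
  by_contra hcon
  push Not at hcon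
  obtain ⟨d, hd, hd1⟩ := h.exists_ne_one_two hy
  exact hd1 (h.eq_one_of_three_pt hy hcon.1 hcon.2.symm hd (hfix d hd))

end ElemCentralizers

end Cfsg.Agent.Lib.Involutions
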