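import Mathlib
import Cfsg.Agent.Lib.Involutions.Zassenhaus

/-!
# Identification of the triply transitive group with `PSL(2, q)`, `q` even
-/

open scoped LinearAlgebra.Projectivization

namespace Cfsg.Agent.Lib.Involutions

/-- Coordinates: a second point `y`, an involution `u` interchanging it with the base point, and
the element `one` of `T` taking `y` to the fixed point of `u`. -/
structure ZassFrame (G : Type*) [Group G] [Finite G] where
  /-- the hypotheses -/
  h : ElemCentralizers G
  /-- the second point -/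
  y : G ⧸ h.H
  /-- the involution -/
  u : G
  /-- the unit -/
  t₁ : G
  hy : y ≠ h.pt
  hu : u ∈ involMoving h.pt y
  ht₁ : t₁ ∈ (h.T : Subgroup G)
  hfix : u • t₁ • y = t₁ • y

variable {G : Type*} [Group G] [Finite G]

theorem ElemCentralizers.exists_frame (h : ElemCentralizers G) :
    ∃ f : ZassFrame G, f.h = h := by
  obtain ⟨y, hy⟩ := h.exists_ne_pt
  obtain ⟨u, hu⟩ := se_exists_moving h.se h.pt y
  obtain ⟨p, hp⟩ := se_exists_fixed h.se hu.1
  have hpt : p ≠ h.pt := fun e => hy (by rw [← hu.2, ← e, hp, e])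
  obtain ⟨t, ht, htp⟩ := h.T_transitive hy hpt
  exact ⟨⟨h, y, u, t, hy, hu, ht, by rw [htp, hp]⟩, rfl⟩

namespace ZassFrame

variable (f : ZassFrame G)

theorem uy : f.u • f.y = f.h.pt := by
  have h := congrArg (fun z => f.u • z) f.hu.2
  simp only [← mul_smul, invol_mul_self f.hu.1, one_smul] at h
  exact h.symm

theorem t₁_ne_one : f.t₁ ≠ 1 := by
  intro h
  have := f.hfix
  rw [h, one_smul, f.uy] at this
  exact f.hy this.symm

/-- The coordinate field, of the cardinality of `T`. -/
structure K (f : ZassFrame G) : Type where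
  /-- the index -/
  idx : Fin (Nat.card (f.h.T : Subgroup G))

/-- The coordinate field as a copy of `T`. -/
noncomputable def toT : K f ≃ (f.h.T : Subgroup G) :=
  ({ toFun := K.idx, invFun := K.mk, left_inv := fun _ => rfl, right_inv := fun _ => rfl } :
    K f ≃ Fin (Nat.card (f.h.T : Subgroup G))).trans (Finite.equivFin _).symm

/-- The element of `T` with given coordinate. -/
noncomputable def el (a : K f) : G := (f.toT a : G)

theorem el_mem (a : K f) : f.el a ∈ (f.h.T : Subgroup G) := (f.toT a).2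

theorem el_injective : Function.Injective f.el := fun _ _ h => f.toT.injective (Subtype.ext h)

/-- The coordinate of an element of `T`. -/
noncomputable def co (t : G) (ht : t ∈ (f.h.T : Subgroup G)) : K f := f.toT.symm ⟨t, ht⟩

theorem el_co (t : G) (ht : t ∈ (f.h.T : Subgroup G)) : f.el (f.co t ht) = t := by
  simp [el, co]

theorem conj_mem {d : G} (hd : d ∈ f.h.two f.h.pt f.y) {t : G} (ht : t ∈ (f.h.T : Subgroup G)) :
    d * t * d⁻¹ ∈ (f.h.T : Subgroup G) :=
  (Subgroup.mem_normalizer_iff.1 (f.h.smul_pt_iff.1 hd.1) t).1 ht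

theorem exists_dOf (a : K f) (ha : f.el a ≠ 1) :
    ∃ d ∈ f.h.two f.h.pt f.y, d * f.t₁ * d⁻¹ = f.el a := by
  obtain ⟨d, hd, he⟩ := (f.h.conj_bijOn f.hy (f.h.orderOf_T f.ht₁ f.t₁_ne_one) f.ht₁).surjOn
    (show f.el a ∈ involMoving f.h.pt f.h.pt by
      rw [f.h.involMoving_pt]; exact ⟨f.el_mem a, ha⟩)
  exact ⟨d, hd, he⟩

theorem dOf_unique {d d' : G} (hd : d ∈ f.h.two f.h.pt f.y) (hd' : d' ∈ f.h.two f.h.pt f.y)
    (h : d * f.t₁ * d⁻¹ = d' * f.t₁ * d'⁻¹) : d = d' :=
  (f.h.conj_bijOn f.hy (f.h.orderOf_T f.ht₁ f.t₁_ne_one) f.ht₁).injOn hd hd' h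

/-- The element of the two-point stabilizer attached to a coordinate (`1` for zero). -/
noncomputable def dOf (a : K f) : G :=
  open Classical in if ha : f.el a = 1 then 1 else Classical.choose (f.exists_dOf a ha)

theorem dOf_mem (a : K f) : f.dOf a ∈ f.h.two f.h.pt f.y := by
  unfold dOf
  split_ifs with ha
  · exact one_mem _
  · exact (Classical.choose_spec (f.exists_dOf a ha)).1

theorem dOf_spec {a : K f} (ha : f.el a ≠ 1) : f.dOf a * f.t₁ * (f.dOf a)⁻¹ = f.el a := by
  unfold dOf
  rw [dif_neg ha]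
  exact (Classical.choose_spec (f.exists_dOf a ha)).2

theorem dOf_eq {a : K f} {d : G} (hd : d ∈ f.h.two f.h.pt f.y)
    (h : d * f.t₁ * d⁻¹ = f.el a) : f.dOf a = d := by
  refine f.dOf_unique (f.dOf_mem a) hd (Eq.trans (f.dOf_spec fun he => ?_) h.symm)
  rw [he] at h
  exact f.t₁_ne_one (conj_eq_one_iff.1 h)

noncomputable instance : Add (K f) := ⟨fun a b => f.toT.symm (f.toT a * f.toT b)⟩
noncomputable instance : Neg (K f) := ⟨fun a => a⟩
noncomputable instance : Zero (K f) := ⟨f.toT.symm 1⟩
noncomputable instance : One (K f) := ⟨f.toT.symm ⟨f.t₁, f.ht₁⟩⟩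
noncomputable instance : Mul (K f) := ⟨fun a b => open Classical in
  if f.el a = 1 then 0 else f.co _ (f.conj_mem (f.dOf_mem a) (f.el_mem b))⟩
noncomputable instance : Inv (K f) := ⟨fun a => open Classical in
  if f.el a = 1 then 0 else f.co _ (f.conj_mem (inv_mem (f.dOf_mem a)) f.ht₁)⟩

theorem el_add (a b : K f) : f.el (a + b) = f.el a * f.el b := by
  show ((f.toT (f.toT.symm (f.toT a * f.toT b)) : (f.h.T : Subgroup G)) : G) = _
  rw [Equiv.apply_symm_apply]
  rfl

theorem el_zero : f.el 0 = 1 := by
  show ((f.toT (f.toT.symm 1) : (f.h.T : Subgroup G)) : G) = _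
  rw [Equiv.apply_symm_apply]
  rfl

theorem el_one : f.el 1 = f.t₁ := by
  show ((f.toT (f.toT.symm ⟨f.t₁, f.ht₁⟩) : (f.h.T : Subgroup G)) : G) = _
  rw [Equiv.apply_symm_apply]

theorem el_eq_one_iff {a : K f} : f.el a = 1 ↔ a = 0 := by
  rw [← f.el_zero]; exact f.el_injective.eq_iff

theorem el_mul_of_zero {a : K f} (b : K f) (ha : f.el a = 1) : f.el (a * b) = 1 := by
  show f.el (open Classical in if f.el a = 1 then 0 else _) = 1
  rw [if_pos ha, f.el_zero]

theorem el_mul {a : K f} (b : K f) (ha : f.el a ≠ 1) :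
    f.el (a * b) = f.dOf a * f.el b * (f.dOf a)⁻¹ := by
  show f.el (open Classical in if f.el a = 1 then 0 else _) = _
  rw [if_neg ha, f.el_co]

theorem el_inv {a : K f} (ha : f.el a ≠ 1) : f.el a⁻¹ = (f.dOf a)⁻¹ * f.t₁ * (f.dOf a)⁻¹⁻¹ := by
  show f.el (open Classical in if f.el a = 1 then 0 else _) = _
  rw [if_neg ha, f.el_co]

theorem el_mul_ne {a b : K f} (ha : f.el a ≠ 1) (hb : f.el b ≠ 1) :
    f.el (a * b) ≠ 1 ∧ f.dOf (a * b) = f.dOf a * f.dOf b := by
  constructor
  · rw [f.el_mul b ha]
    exact fun h => hb (conj_eq_one_iff.1 h)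
  · refine f.dOf_eq (mul_mem (f.dOf_mem a) (f.dOf_mem b)) ?_
    rw [f.el_mul b ha, ← f.dOf_spec hb]
    group

theorem k_mul_comm (a b : K f) : a * b = b * a := by
  apply f.el_injective
  by_cases ha : f.el a = 1 <;> by_cases hb : f.el b = 1
  · rw [f.el_mul_of_zero b ha, f.el_mul_of_zero a hb]
  · rw [f.el_mul_of_zero b ha, f.el_mul a hb, ha]; group
  · rw [f.el_mul_of_zero a hb, f.el_mul b ha, hb]; group
  · rw [← f.dOf_spec (f.el_mul_ne ha hb).1, ← f.dOf_spec (f.el_mul_ne hb ha).1,
      (f.el_mul_ne ha hb).2, (f.el_mul_ne hb ha).2,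
      (f.h.comm_two f.hy.symm (f.dOf_mem a) (f.dOf_mem b)).eq]

theorem k_mul_assoc (a b c : K f) : a * b * c = a * (b * c) := by
  apply f.el_injective
  by_cases ha : f.el a = 1
  · rw [f.el_mul_of_zero _ (f.el_mul_of_zero b ha), f.el_mul_of_zero _ ha]
  by_cases hb : f.el b = 1
  · rw [f.el_mul (b * c) ha, f.el_mul_of_zero c hb, f.el_mul_of_zero c (by
      rw [f.el_mul b ha, hb]; group)]
    group
  rw [f.el_mul c (f.el_mul_ne ha hb).1, (f.el_mul_ne ha hb).2, f.el_mul (b * c) ha, f.el_mul c hb]
  group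

theorem k_left_distrib (a b c : K f) : a * (b + c) = a * b + a * c := by
  apply f.el_injective
  rw [f.el_add]
  by_cases ha : f.el a = 1
  · rw [f.el_mul_of_zero _ ha, f.el_mul_of_zero _ ha, f.el_mul_of_zero _ ha, one_mul]
  · rw [f.el_mul _ ha, f.el_mul _ ha, f.el_mul _ ha, f.el_add]
    group

theorem dOf_one : f.dOf 1 = 1 := f.dOf_eq (one_mem _) (by rw [f.el_one]; group)

theorem k_one_mul (a : K f) : 1 * a = a := by
  apply f.el_injective
  rw [f.el_mul a (by rw [f.el_one]; exact f.t₁_ne_one), f.dOf_one]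
  group

theorem k_mul_inv (a : K f) (ha : a ≠ 0) : a * a⁻¹ = 1 := by
  have ha' : f.el a ≠ 1 := fun h => ha (f.el_eq_one_iff.1 h)
  apply f.el_injective
  rw [f.el_mul _ ha', f.el_inv ha', f.el_one]
  group

noncomputable instance instField : Field (K f) :=
  Field.ofMinimalAxioms (K f)
    (fun a b c => f.el_injective (by simp only [f.el_add, mul_assoc]))
    (fun a => f.el_injective (by rw [f.el_add, f.el_zero, one_mul]))
    (fun a => f.el_injective (by
      rw [f.el_add, f.el_zero]; exact f.h.sq_T (f.el_mem a)))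
    f.k_mul_assoc f.k_mul_comm f.k_one_mul f.k_mul_inv
    (by
      show (open Classical in if f.el (0 : K f) = 1 then (0 : K f) else _) = 0
      rw [if_pos f.el_zero])
    f.k_left_distrib
    ⟨0, 1, fun h => f.t₁_ne_one (by rw [← f.el_one, ← h, f.el_zero])⟩

noncomputable instance instFintype : Fintype (K f) :=
  Fintype.ofEquiv (Fin (Nat.card (f.h.T : Subgroup G)))
    ⟨fun i => K.mk i, fun a => K.idx a, fun _ => rfl, fun _ => rfl⟩

theorem card_K : Fintype.card (K f) = Nat.card (f.h.T : Subgroup G) := by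
  rw [← Nat.card_eq_fintype_card]
  exact Nat.card_congr f.toT

theorem two_eq_zero : (2 : K f) = 0 := by
  rw [← one_add_one_eq_two]
  exact f.el_injective (by rw [f.el_add, f.el_zero]; exact f.h.sq_T (f.el_mem 1))

theorem exists_sqrt (a : K f) : ∃ s, s * s = a := by
  have hinj : Function.Injective fun s : K f => s * s := by
    intro s t h
    simp only at h
    have h2 : (s - t) * (s - t) = 0 := by linear_combination h + (t * t - s * t) * f.two_eq_zero
    exact sub_eq_zero.1 (mul_self_eq_zero.1 h2)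
  exact (Finite.injective_iff_surjective.1 hinj) a

/-- Parametrization of the points by `Option K`. -/
noncomputable def point : Option (K f) → G ⧸ f.h.H
  | none => f.h.pt
  | some a => f.el a • f.y

theorem point_ne (a : K f) : f.el a • f.y ≠ f.h.pt := fun h =>
  f.hy (smul_left_cancel (f.el a) (h.trans (f.h.fixes_pt_of_mem_T (f.el_mem a)).symm))

theorem point_bijective : Function.Bijective f.point := by
  constructor
  · intro a b h
    cases a with
    | none => cases b with
      | none => rfl
      | some b => exact absurd h.symm (f.point_ne b)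
    | some a => cases b with
      | none => exact absurd h (f.point_ne a)
      | some b =>
        refine congrArg some (f.el_injective (inv_mul_eq_one.1 (f.h.T_semiregular
          (mul_mem (inv_mem (f.el_mem a)) (f.el_mem b)) f.hy ?_)))
        have h' : f.el a • f.y = f.el b • f.y := h
        rw [mul_smul, ← h', inv_smul_smul]
  · intro x
    by_cases hx : x = f.h.pt
    · exact ⟨none, hx.symm⟩
    · obtain ⟨t, ht, htx⟩ := f.h.T_transitive f.hy hx
      exact ⟨some (f.co t ht), by show f.el _ • f.y = x; rw [f.el_co, htx]⟩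

theorem vec_ne_inf : (![1, 0] : Fin 2 → K f) ≠ 0 := fun h => one_ne_zero (congrFun h 0)

theorem vec_ne (a : K f) : (![a, 1] : Fin 2 → K f) ≠ 0 := fun h => one_ne_zero (congrFun h 1)

/-- Parametrization of the projective line by `Option K`. -/
noncomputable def line : Option (K f) → ℙ (K f) (Fin 2 → K f)
  | none => Projectivization.mk _ ![1, 0] f.vec_ne_inf
  | some a => Projectivization.mk _ ![a, 1] (f.vec_ne a)

theorem line_bijective : Function.Bijective f.line := by
  constructor
  · intro a b h
    cases a with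
    | none => cases b with
      | none => rfl
      | some b =>
        obtain ⟨c, hc⟩ := (Projectivization.mk_eq_mk_iff' _ _ _ _ _).1 h.symm
        have := congrFun hc 1
        simp at this
    | some a => cases b with
      | none =>
        obtain ⟨c, hc⟩ := (Projectivization.mk_eq_mk_iff' _ _ _ _ _).1 h
        have := congrFun hc 1
        simp at this
      | some b =>
        obtain ⟨c, hc⟩ := (Projectivization.mk_eq_mk_iff' _ _ _ _ _).1 h
        have h1 := congrFun hc 1
        have h0 := congrFun hc 0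
        simp at h1
        simp [h1] at h0
        rw [h0]
  · intro p
    induction p using Projectivization.ind with
    | _ v hv =>
      by_cases h1 : v 1 = 0
      · refine ⟨none, ?_⟩
        have h0 : v 0 ≠ 0 := fun h0 => hv (funext fun i => by fin_cases i <;> assumption)
        refine ((Projectivization.mk_eq_mk_iff' _ _ _ _ _).2 ⟨(v 0)⁻¹, ?_⟩)
        funext i
        fin_cases i <;> simp [h1, h0]
      · refine ⟨some (v 0 / v 1), (Projectivization.mk_eq_mk_iff' _ _ _ _ _).2 ⟨(v 1)⁻¹, ?_⟩⟩
        funext i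
        fin_cases i <;> simp [h1, div_eq_inv_mul]

/-- The identification of points. -/
noncomputable def ident : G ⧸ f.h.H ≃ ℙ (K f) (Fin 2 → K f) :=
  (Equiv.ofBijective _ f.point_bijective).symm.trans (Equiv.ofBijective _ f.line_bijective)

theorem ident_point (o : Option (K f)) : f.ident (f.point o) = f.line o := by
  simp [ident, Equiv.ofBijective_symm_apply_apply]

/-- `G` as permutations of the projective line. -/
noncomputable def permG : G →* Equiv.Perm (ℙ (K f) (Fin 2 → K f)) :=
  f.ident.permCongrHom.toMonoidHom.comp (MulAction.toPermHom G (G ⧸ f.h.H))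

theorem permG_line (g : G) (o : Option (K f)) :
    f.permG g (f.line o) = f.ident (g • f.point o) := by
  rw [← f.ident_point]
  simp [permG, Equiv.permCongr_apply]

/-- The permutations induced by `PSL(2, K)`. -/
noncomputable def permP : Subgroup (Equiv.Perm (ℙ (K f) (Fin 2 → K f))) :=
  (Projectivization.PSLAction.toPermHom (ι := Fin 2) (K := K f)).range

theorem mem_permP_of_matrix {g : G} {A : Matrix (Fin 2) (Fin 2) (K f)} (hA : A.det = 1)
    (hagree : ∀ o, ∃ c : K f, ∀ (o' : Option (K f)), g • f.point o = f.point o' →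
      c • (match o' with | none => ![1, 0] | some b => ![b, 1]) =
        A.mulVec (match o with | none => ![1, 0] | some a => ![a, 1])) :
    f.permG g ∈ f.permP := by
  refine ⟨QuotientGroup.mk ⟨A, hA⟩, Equiv.ext fun p => ?_⟩
  obtain ⟨o, rfl⟩ := f.line_bijective.2 p
  rw [f.permG_line]
  obtain ⟨o', ho'⟩ := f.point_bijective.2 (g • f.point o)
  rw [← ho', f.ident_point]
  let B : Matrix.SpecialLinearGroup (Fin 2) (K f) := ⟨A, hA⟩
  show B • f.line o = f.line o'
  obtain ⟨c, hc⟩ := hagree o
  have hc' := hc o' ho'.symm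
  cases o <;> cases o' <;>
    simp only [line, Projectivization.smul_mk] at hc' ⊢ <;>
    exact (Projectivization.mk_eq_mk_iff' _ _ _ _ _).2 ⟨c, hc'⟩

theorem permG_T_mem {t : G} (ht : t ∈ (f.h.T : Subgroup G)) : f.permG t ∈ f.permP := by
  obtain ⟨c, rfl⟩ : ∃ c, f.el c = t := ⟨f.co t ht, f.el_co t ht⟩
  refine f.mem_permP_of_matrix (A := !![1, c; 0, 1]) (by simp [Matrix.det_fin_two]) fun o => ⟨1, ?_⟩
  intro o' ho'
  cases o with
  | none =>
    have : f.point o' = f.point none := ho'.symm.trans (f.h.fixes_pt_of_mem_T ht)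
    obtain rfl := f.point_bijective.1 this
    ext i; fin_cases i <;> simp
  | some a =>
    have : f.point o' = f.point (some (c + a)) := by
      rw [← ho']
      show f.el c • f.el a • f.y = f.el (c + a) • f.y
      rw [f.el_add, mul_smul]
    obtain rfl := f.point_bijective.1 this
    ext i; fin_cases i <;> simp [add_comm]

theorem permG_two_mem {d : G} (hd : d ∈ f.h.two f.h.pt f.y) : f.permG d ∈ f.permP := by
  set c := f.co _ (f.conj_mem hd f.ht₁) with hc
  have hdc : f.dOf c = d := f.dOf_eq hd (by rw [hc, f.el_co])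
  have hc1 : f.el c ≠ 1 := by
    rw [hc, f.el_co]; exact fun h => f.t₁_ne_one (conj_eq_one_iff.1 h)
  have hc0 : c ≠ 0 := fun h => hc1 (f.el_eq_one_iff.2 h)
  obtain ⟨s, hs⟩ := f.exists_sqrt c
  have hs0 : s ≠ 0 := by rintro rfl; exact hc0 (by rw [← hs, mul_zero])
  refine f.mem_permP_of_matrix (A := !![s, 0; 0, s⁻¹]) (by simp [Matrix.det_fin_two, hs0]) fun o => ?_
  cases o with
  | none =>
    refine ⟨s, fun o' ho' => ?_⟩
    have : f.point o' = f.point none := ho'.symm.trans hd.1
    obtain rfl := f.point_bijective.1 this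
    ext i; fin_cases i <;> simp
  | some a =>
    refine ⟨s⁻¹, fun o' ho' => ?_⟩
    have : f.point o' = f.point (some (c * a)) := by
      rw [← ho']
      show d • f.el a • f.y = f.el (c * a) • f.y
      rw [f.el_mul a hc1, hdc, mul_smul, mul_smul, show d⁻¹ • f.y = f.y from
        inv_smul_eq_iff.2 hd.2.symm]
    obtain rfl := f.point_bijective.1 this
    ext i; fin_cases i <;> simp [← hs, mul_assoc, hs0, mul_comm a]

theorem permG_u_mem : f.permG f.u ∈ f.permP := by
  refine f.mem_permP_of_matrix (A := !![0, 1; 1, 0]) ?_ fun o => ?_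
  · rw [Matrix.det_fin_two]
    simp only [Matrix.of_apply, Matrix.cons_val', Matrix.cons_val_zero, Matrix.cons_val_one]
    simp
    linear_combination (-1 : K f) * f.two_eq_zero
  cases o with
  | none =>
    refine ⟨1, fun o' ho' => ?_⟩
    have : f.point o' = f.point (some 0) := by
      rw [← ho']
      show f.u • f.h.pt = f.el 0 • f.y
      rw [f.el_zero, one_smul, f.hu.2]
    obtain rfl := f.point_bijective.1 this
    ext i; fin_cases i <;> simp
  | some a =>
    by_cases ha : a = 0
    · subst ha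
      refine ⟨1, fun o' ho' => ?_⟩
      have : f.point o' = f.point none := by
        rw [← ho']
        show f.u • f.el 0 • f.y = f.h.pt
        rw [f.el_zero, one_smul, f.uy]
      obtain rfl := f.point_bijective.1 this
      ext i; fin_cases i <;> simp
    · refine ⟨a, fun o' ho' => ?_⟩
      have ha' : f.el a ≠ 1 := fun h => ha (f.el_eq_one_iff.1 h)
      have hd := f.dOf_mem a
      have hinv := f.h.inverts f.hy.symm f.hu hd
      have : f.point o' = f.point (some a⁻¹) := by
        rw [← ho']
        show f.u • f.el a • f.y = f.el a⁻¹ • f.y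
        rw [← f.dOf_spec ha', f.el_inv ha', inv_inv, mul_smul, mul_smul,
          show (f.dOf a)⁻¹ • f.y = f.y from inv_smul_eq_iff.2 hd.2.symm, mul_smul, mul_smul, hd.2,
          ← mul_smul f.u, show f.u * f.dOf a = (f.dOf a)⁻¹ * f.u by
            rw [← hinv, inv_mul_cancel_right], mul_smul, f.hfix]
      obtain rfl := f.point_bijective.1 this
      ext i; fin_cases i <;> simp [ha]

theorem permG_range_le : f.permG.range ≤ f.permP := by
  rintro _ ⟨g, rfl⟩
  have hT : ∀ {t}, t ∈ (f.h.T : Subgroup G) → f.permG t ∈ f.permP := fun h => f.permG_T_mem h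
  have hH : ∀ {g}, g ∈ f.h.H → f.permG g ∈ f.permP := by
    intro g hg
    obtain ⟨t, ht, d, hd, rfl⟩ := f.h.exists_two_mul f.hy hg
    rw [map_mul]
    exact mul_mem (f.permG_T_mem ht) (f.permG_two_mem hd)
  by_cases hg : g ∈ f.h.H
  · exact hH hg
  · obtain ⟨t, ht, hty⟩ := f.h.T_transitive f.hy (q := g • f.h.pt)
      (fun e => hg (f.h.smul_pt_iff.1 e))
    have hmem : (t * f.u)⁻¹ * g ∈ f.h.H := by
      rw [← f.h.smul_pt_iff, mul_smul, inv_smul_eq_iff, mul_smul, f.hu.2, hty]
    rw [show g = t * f.u * ((t * f.u)⁻¹ * g) by group, map_mul, map_mul]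
    exact mul_mem (mul_mem (hT ht) f.permG_u_mem) (hH hmem)

theorem permG_injective : Function.Injective f.permG := by
  rw [injective_iff_map_eq_one]
  intro g hg
  have key : ∀ x : G ⧸ f.h.H, g • x = x := by
    intro x
    obtain ⟨o, rfl⟩ := f.point_bijective.2 x
    apply f.ident.injective
    rw [← f.permG_line, hg, f.ident_point]
    rfl
  refine f.h.three_fixed (x₁ := f.h.pt) (x₂ := f.y) (x₃ := f.t₁ • f.y) f.hy.symm ?_ ?_
    (key _) (key _) (key _)
  · exact fun h => f.point_ne 1 (by rw [f.el_one]; exact h.symm)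
  · exact fun h => f.t₁_ne_one (f.h.T_semiregular f.ht₁ f.hy h.symm)

theorem permP_le_range : f.permP ≤ f.permG.range := by
  intro σ hσ
  have hinj := (σ : Equiv.Perm _).injective
  obtain ⟨g, g0, g1, g2⟩ := f.h.triply_transitive
    (x₁ := f.point none) (x₂ := f.point (some 0)) (x₃ := f.point (some 1))
    (y₁ := f.ident.symm (σ (f.line none))) (y₂ := f.ident.symm (σ (f.line (some 0))))
    (y₃ := f.ident.symm (σ (f.line (some 1))))
    (f.point_bijective.1.ne (by simp)) (f.point_bijective.1.ne (by simp))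
    (f.point_bijective.1.ne (by simp))
    (f.ident.symm.injective.ne (hinj.ne (f.line_bijective.1.ne (by simp))))
    (f.ident.symm.injective.ne (hinj.ne (f.line_bijective.1.ne (by simp))))
    (f.ident.symm.injective.ne (hinj.ne (f.line_bijective.1.ne (by simp))))
  have hag : ∀ o, g • f.point o = f.ident.symm (σ (f.line o)) →
      ((f.permG g)⁻¹ * σ) (f.line o) = f.line o := by
    intro o ho
    rw [Equiv.Perm.mul_apply, Equiv.Perm.inv_eq_iff_eq, f.permG_line, ho, Equiv.apply_symm_apply]
  have hmem : (f.permG g)⁻¹ * σ ∈ f.permP :=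
    mul_mem (inv_mem (f.permG_range_le ⟨g, rfl⟩)) hσ
  obtain ⟨p, hp⟩ := hmem
  suffices hp1 : p = 1 by
    refine ⟨g, ?_⟩
    rw [hp1, map_one] at hp
    exact inv_mul_eq_one.1 hp.symm
  induction p using QuotientGroup.induction_on with
  | H A =>
    have hA : ∀ o, (((f.permG g)⁻¹ * σ) (f.line o) = f.line o) → A • f.line o = f.line o := by
      intro o ho
      rw [← hp] at ho
      exact ho
    have h0 := hA none (hag _ g0)
    have h1 := hA (some 0) (hag _ g1)
    have h2 := hA (some 1) (hag _ g2)
    simp only [line, Projectivization.smul_mk] at h0 h1 h2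
    obtain ⟨a, ha⟩ := (Projectivization.mk_eq_mk_iff' _ _ _ _ _).1 h0
    obtain ⟨b, hb⟩ := (Projectivization.mk_eq_mk_iff' _ _ _ _ _).1 h1
    obtain ⟨c, hc⟩ := (Projectivization.mk_eq_mk_iff' _ _ _ _ _).1 h2
    change a • ![1, 0] = A.1.mulVec ![1, 0] at ha
    change b • ![0, 1] = A.1.mulVec ![0, 1] at hb
    change c • ![1, 1] = A.1.mulVec ![1, 1] at hc
    have a0 := congrFun ha 0
    have a1 := congrFun ha 1
    have b0 := congrFun hb 0
    have b1 := congrFun hb 1
    have c0 := congrFun hc 0
    have c1 := congrFun hc 1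
    simp at a0 a1 b0 b1 c0 c1
    rw [QuotientGroup.eq_one_iff, Matrix.SpecialLinearGroup.mem_center_iff]
    have hdiag : A.1 0 0 = A.1 1 1 := by
      linear_combination c1 - c0 + b0 - a1
    refine ⟨A.1 0 0, ?_, ?_⟩
    · have := A.2
      rw [Matrix.det_fin_two] at this
      simp only [Fintype.card_fin]
      linear_combination this + (A.1 0 0) * hdiag + (A.1 1 0) * b0.symm
    · ext i j
      fin_cases i <;> fin_cases j <;> simp [Matrix.scalar_apply] <;>
        first | exact hdiag | exact a1 | exact b0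

theorem nonempty_iso : Nonempty (G ≃* Matrix.ProjectiveSpecialLinearGroup (Fin 2) (K f)) :=
  ⟨((MonoidHom.ofInjective f.permG_injective).trans
    (MulEquiv.subgroupCongr (le_antisymm f.permG_range_le f.permP_le_range))).trans
    (MonoidHom.ofInjective Matrix.ProjectiveSpecialLinearGroup.toPermHom_injective).symm⟩

end ZassFrame

end Cfsg.Agent.Lib.Involutions
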