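import Mathlib

/-!
# Involutions and four-subgroups of dihedral groups
-/

namespace Cfsg.Agent.Lib.Involutions

open DihedralGroup

variable {m : ℕ}

theorem zmod_two_torsion_val [NeZero m] {a : ZMod m} (h : a + a = 0) (h0 : a ≠ 0) :
    2 * a.val = m := by
  have hv : a.val ≠ 0 := fun e => h0 ((ZMod.val_eq_zero a).1 e)
  have hlt := a.val_lt
  have h2 : (a + a).val = 0 := by rw [h, ZMod.val_zero]
  rw [ZMod.val_add] at h2
  obtain ⟨c, hc⟩ := Nat.dvd_of_mod_eq_zero h2
  rcases c with _ | _ | c
  · omega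
  · omega
  · nlinarith

theorem zmod_two_torsion_unique [NeZero m] {a b : ZMod m} (ha : a + a = 0) (ha0 : a ≠ 0)
    (hb : b + b = 0) (hb0 : b ≠ 0) : a = b :=
  ZMod.val_injective m (by
    have h1 := zmod_two_torsion_val ha ha0
    have h2 := zmod_two_torsion_val hb hb0
    omega)

theorem dihedral_commute_sr_r {i j : ZMod m} :
    Commute (sr i : DihedralGroup m) (r j) ↔ j + j = 0 := by
  simp only [Commute, SemiconjBy, r_mul_sr, sr_mul_r, sr.injEq]
  constructor
  · intro h
    linear_combination h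
  · intro h
    linear_combination h

theorem dihedral_commute_sr_sr {i j : ZMod m} :
    Commute (sr i : DihedralGroup m) (sr j) ↔ (j - i) + (j - i) = 0 := by
  simp only [Commute, SemiconjBy, sr_mul_sr, r.injEq]
  constructor
  · intro h
    linear_combination h
  · intro h
    linear_combination h

theorem dihedral_conj_r_sr (i j : ZMod m) :
    r j * sr i * (r j)⁻¹ = sr (i - (j + j)) := by
  rw [inv_r, r_mul_sr, sr_mul_r]
  exact congrArg sr (by ring)

theorem dihedral_card [NeZero m] : Nat.card (DihedralGroup m) = 2 * m := DihedralGroup.nat_card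

/-- The involutions of a dihedral group. -/
theorem dihedral_sq_eq_one_cases {g : DihedralGroup m} (h : g * g = 1) (h1 : g ≠ 1) :
    (∃ i, g = sr i) ∨ ∃ a : ZMod m, a + a = 0 ∧ a ≠ 0 ∧ g = r a := by
  cases g with
  | r a =>
    refine Or.inr ⟨a, ?_, ?_, rfl⟩
    · rw [r_mul_r, one_def, r.injEq] at h; exact h
    · rintro rfl; exact h1 rfl
  | sr i => exact Or.inl ⟨i, rfl⟩

/-- The centralizer of a reflection is a four-group or has order two. -/
theorem dihedral_centralizer_sr [NeZero m] {i a : ZMod m} (ha : a + a = 0) (ha0 : a ≠ 0)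
    {g : DihedralGroup m} (hg : Commute (sr i) g) :
    g = 1 ∨ g = r a ∨ g = sr i ∨ g = sr (i + a) := by
  cases g with
  | r j =>
    by_cases hj : j = 0
    · exact Or.inl (by rw [hj]; rfl)
    · exact Or.inr (Or.inl (by rw [zmod_two_torsion_unique (dihedral_commute_sr_r.1 hg) hj ha ha0]))
  | sr j =>
    by_cases hj : j - i = 0
    · exact Or.inr (Or.inr (Or.inl (by rw [sub_eq_zero.1 hj])))
    · refine Or.inr (Or.inr (Or.inr ?_))
      rw [← zmod_two_torsion_unique (dihedral_commute_sr_sr.1 hg) hj ha ha0]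
      exact congrArg sr (by ring)

/-- A four-subgroup of a dihedral group contains the central rotation and a reflection, and is
their join and the centralizer of that reflection. -/
theorem dihedral_klein [NeZero m] {V : Subgroup (DihedralGroup m)} (hV : IsKleinFour V) :
    ∃ (i a : ZMod m), a + a = 0 ∧ a ≠ 0 ∧ r a ∈ V ∧ sr i ∈ V ∧
      V = Subgroup.centralizer ({sr i} : Set (DihedralGroup m)) ∧
      (V : Set (DihedralGroup m)) = {1, r a, sr i, sr (i + a)} := by
  have hsq : ∀ u ∈ V, u * u = 1 := fun u hu =>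
    congrArg Subtype.val (IsKleinFour.mul_self (⟨u, hu⟩ : V))
  have hcomm : ∀ u ∈ V, ∀ v ∈ V, Commute u v := fun u hu v hv =>
    congrArg Subtype.val (mul_comm_of_exponent_two IsKleinFour.exponent_two (⟨u, hu⟩ : V) ⟨v, hv⟩)
  have h4 : (V : Set (DihedralGroup m)).ncard = 4 := by
    rw [← Nat.card_coe_set_eq]; exact IsKleinFour.card_four
  obtain ⟨i, hi⟩ : ∃ i, sr i ∈ V := by
    by_contra hcon
    push Not at hcon
    by_cases hex : ∃ u ∈ V, u ≠ 1
    · obtain ⟨u, hu, hu1⟩ := hex
      have hsub : (V : Set (DihedralGroup m)) ⊆ {1, u} := by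
        intro v hv
        by_cases hv1 : v = 1
        · exact Or.inl hv1
        rcases dihedral_sq_eq_one_cases (hsq v hv) hv1 with ⟨i, rfl⟩ | ⟨a, ha, ha0, rfl⟩
        · exact absurd hv (hcon i)
        rcases dihedral_sq_eq_one_cases (hsq u hu) hu1 with ⟨i, rfl⟩ | ⟨b, hb, hb0, rfl⟩
        · exact absurd hu (hcon i)
        exact Or.inr (congrArg r (zmod_two_torsion_unique ha ha0 hb hb0))
      have := (Set.ncard_le_ncard hsub).trans (Set.ncard_insert_le _ _)
      rw [h4] at this
      simp at this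
    · push Not at hex
      have := Set.ncard_le_ncard (show (V : Set (DihedralGroup m)) ⊆ {1} from fun v hv => hex v hv)
      rw [h4] at this
      simp at this
  obtain ⟨a, ha, ha0⟩ : ∃ a : ZMod m, a + a = 0 ∧ a ≠ 0 := by
    obtain ⟨v, hv, hv'⟩ : ∃ v ∈ V, v ≠ 1 ∧ v ≠ sr i := by
      by_contra hcon
      push Not at hcon
      have hsub : (V : Set (DihedralGroup m)) ⊆ {1, sr i} := fun v hv => by
        by_cases h : v = 1
        · exact Or.inl h
        · exact Or.inr (hcon v hv h)
      have := (Set.ncard_le_ncard hsub).trans (Set.ncard_insert_le _ _)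
      rw [h4] at this
      simp at this
    have hc := hcomm _ hi v hv
    cases v with
    | r a =>
      exact ⟨a, dihedral_commute_sr_r.1 hc, fun h => hv'.1 (by rw [h]; rfl)⟩
    | sr j =>
      exact ⟨j - i, dihedral_commute_sr_sr.1 hc, fun h => hv'.2 (by rw [sub_eq_zero.1 h])⟩
  have hsub : (Subgroup.centralizer ({sr i} : Set (DihedralGroup m)) : Set (DihedralGroup m)) ⊆
      {1, r a, sr i, sr (i + a)} := by
    intro g hg
    have hg' : Commute (sr i) g := (Subgroup.mem_centralizer_singleton_iff.1 hg).symm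
    rcases dihedral_centralizer_sr ha ha0 hg' with h | h | h | h <;> simp [h]
  have hle : V ≤ Subgroup.centralizer ({sr i} : Set (DihedralGroup m)) := fun v hv =>
    Subgroup.mem_centralizer_singleton_iff.2 (hcomm v hv _ hi)
  have hc4 : ({1, r a, sr i, sr (i + a)} : Set (DihedralGroup m)).ncard ≤ 4 := by
    refine (Set.ncard_insert_le _ _).trans (Nat.succ_le_succ ?_)
    refine (Set.ncard_insert_le _ _).trans (Nat.succ_le_succ ?_)
    refine (Set.ncard_insert_le _ _).trans (Nat.succ_le_succ ?_)
    simp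
  have hset : (V : Set (DihedralGroup m)) = {1, r a, sr i, sr (i + a)} :=
    Set.eq_of_subset_of_ncard_le (fun v hv => hsub (hle hv)) (by omega)
  refine ⟨i, a, ha, ha0, ?_, hi, le_antisymm hle fun g hg => ?_, hset⟩
  · rw [← SetLike.mem_coe, hset]; simp
  · rw [← SetLike.mem_coe, hset]; exact hsub hg

theorem dihedral_klein_centralizer [NeZero m] {V : Subgroup (DihedralGroup m)} (hV : IsKleinFour V) :
    Subgroup.centralizer (V : Set (DihedralGroup m)) = V := by
  obtain ⟨i, a, -, -, -, hi, hVc, -⟩ := dihedral_klein hV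
  refine le_antisymm ?_ ?_
  · conv_rhs => rw [hVc]
    exact Subgroup.centralizer_le (Set.singleton_subset_iff.2 hi)
  · intro u hu v hv
    exact congrArg Subtype.val
      (mul_comm_of_exponent_two IsKleinFour.exponent_two (⟨v, hv⟩ : V) ⟨u, hu⟩)

theorem isKleinFour_of_sq {S : Type*} [Group S] {T : Subgroup S} (hc : Nat.card T = 4)
    (hsq : ∀ g ∈ T, g * g = 1) : IsKleinFour T where
  card_four := hc
  exponent_two := by
    have : Finite T := Nat.finite_of_card_ne_zero (by rw [hc]; norm_num)
    have : Nontrivial T := Finite.one_lt_card_iff_nontrivial.1 (by rw [hc]; norm_num)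
    rw [Monoid.exponent_eq_prime_iff Nat.prime_two]
    intro g hg
    exact orderOf_eq_prime (by rw [sq]; exact Subtype.ext (hsq g g.2)) hg

theorem isKleinFour_sq {S : Type*} [Group S] {T : Subgroup S} (hT : IsKleinFour T) {g : S}
    (hg : g ∈ T) : g * g = 1 :=
  congrArg Subtype.val (IsKleinFour.mul_self (⟨g, hg⟩ : T))

theorem isKleinFour_comm {S : Type*} [Group S] {T : Subgroup S} (hT : IsKleinFour T) {g g' : S}
    (hg : g ∈ T) (hg' : g' ∈ T) : g * g' = g' * g :=
  congrArg Subtype.val
    (mul_comm_of_exponent_two IsKleinFour.exponent_two (⟨g, hg⟩ : T) ⟨g', hg'⟩)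

theorem isKleinFour_map {S S' : Type*} [Group S] [Group S'] {T : Subgroup S} (hT : IsKleinFour T)
    (f : S →* S') (hf : Function.Injective f) : IsKleinFour (T.map f) := by
  refine isKleinFour_of_sq ?_ ?_
  · rw [Subgroup.card_map_of_injective hf]; exact IsKleinFour.card_four
  · rintro _ ⟨u, hu, rfl⟩
    rw [← map_mul, isKleinFour_sq hT hu, map_one]

end Cfsg.Agent.Lib.Involutions
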