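import Mathlib
import Cfsg.Agent.Lib.Involutions.Basic
import Cfsg.Agent.Lib.Involutions.Dihedral
import Cfsg.Agent.Lib.Involutions.StronglyEmbedded
import Cfsg.Agent.Lib.Transfer.Basic
import Cfsg.Agent.Lib.Transfer.Frobenius
import Cfsg.Agent.S0111

/-!
# Fusion in groups with dihedral Sylow 2-subgroups
-/

namespace Cfsg.Agent.Lib.Involutions

open DihedralGroup

/-- A dihedral Sylow 2-subgroup, presented as an embedding of `DihedralGroup m`. -/
structure DihSylow (X : Type*) [Group X] (m : ℕ) where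
  /-- the Sylow subgroup -/
  S : Sylow 2 X
  /-- the embedding -/
  ι : DihedralGroup m →* X
  inj : Function.Injective ι
  range_eq : ι.range = S
  two_le : 2 ≤ m

variable {X : Type*} [Group X] {m : ℕ}

/-- The data of an isomorphism with a dihedral group. -/
def DihSylow.ofEquiv (S : Sylow 2 X) (hm : 2 ≤ m) (e : (S : Subgroup X) ≃* DihedralGroup m) :
    DihSylow X m where
  S := S
  ι := (S : Subgroup X).subtype.comp e.symm.toMonoidHom
  inj := (S : Subgroup X).subtype_injective.comp e.symm.injective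
  range_eq := by
    rw [MonoidHom.range_comp, MonoidHom.range_eq_top.2 (show Function.Surjective e.symm.toMonoidHom
      from e.symm.surjective), ← MonoidHom.range_eq_map, Subgroup.range_subtype]
  two_le := hm

namespace DihSylow

variable (d : DihSylow X m)

/-- The central rotation. -/
def half (m : ℕ) : ZMod m := ((m / 2 : ℕ) : ZMod m)

theorem neZero (d : DihSylow X m) : NeZero m := ⟨by have := d.two_le; omega⟩

theorem ι_mem (g : DihedralGroup m) : d.ι g ∈ (d.S : Subgroup X) := by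
  rw [← d.range_eq]; exact ⟨g, rfl⟩

theorem exists_ι {x : X} (hx : x ∈ (d.S : Subgroup X)) : ∃ g, d.ι g = x := by
  rw [← d.range_eq] at hx; exact hx

theorem card_S : Nat.card (d.S : Subgroup X) = 2 * m := by
  have := d.neZero
  rw [← d.range_eq, ← Nat.card_congr (MonoidHom.ofInjective d.inj).toEquiv, DihedralGroup.nat_card]

theorem even_m (d : DihSylow X m) : Even m := by
  have : Fact (Nat.Prime 2) := ⟨Nat.prime_two⟩
  have := d.two_le
  have : Finite (d.S : Subgroup X) := Nat.finite_of_card_ne_zero (by rw [d.card_S]; omega)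
  obtain ⟨k, hk⟩ := IsPGroup.iff_card.1 d.S.2
  rw [d.card_S] at hk
  have := d.two_le
  rcases k with _ | _ | k
  · simp at hk
  · simp at hk; omega
  · exact ⟨2 ^ k, by rw [pow_succ, pow_succ] at hk; omega⟩

theorem half_add (d : DihSylow X m) : half m + half m = 0 := by
  obtain ⟨k, hk⟩ := d.even_m
  rw [half, ← Nat.cast_add, show m / 2 + m / 2 = m by omega, ZMod.natCast_self]

theorem half_ne (d : DihSylow X m) : half m ≠ 0 := by
  have := d.two_le
  have := d.neZero
  intro h
  have hv := congrArg ZMod.val h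
  rw [half, ZMod.val_natCast, ZMod.val_zero, Nat.mod_eq_of_lt (by omega)] at hv
  omega

theorem parity_cases (d : DihSylow X m) (i : ZMod m) :
    (∃ j, i = j + j) ∨ ∃ j, i = 1 + (j + j) := by
  have := d.neZero
  rcases Nat.even_or_odd' i.val with ⟨k, hk | hk⟩
  · exact Or.inl ⟨k, by rw [← ZMod.natCast_zmod_val i, hk]; push_cast; ring⟩
  · exact Or.inr ⟨k, by rw [← ZMod.natCast_zmod_val i, hk]; push_cast; ring⟩

theorem parity_ne (d : DihSylow X m) (j k : ZMod m) : j + j ≠ 1 + (k + k) := by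
  intro h
  have h' := congrArg (ZMod.castHom d.even_m.two_dvd (ZMod 2)) h
  simp only [map_add, map_one, CharTwo.add_self_eq_zero, add_zero] at h'
  exact zero_ne_one h'

theorem conj_sr (d : DihSylow X m) (i j : ZMod m) :
    d.ι (r j) * d.ι (sr i) * (d.ι (r j))⁻¹ = d.ι (sr (i - (j + j))) := by
  rw [← map_mul, ← map_inv, ← map_mul, dihedral_conj_r_sr]

theorem isConj_sr (d : DihSylow X m) (i : ZMod m) :
    IsConj (d.ι (sr i)) (d.ι (sr 0)) ∨ IsConj (d.ι (sr i)) (d.ι (sr 1)) := by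
  rcases d.parity_cases i with ⟨j, rfl⟩ | ⟨j, rfl⟩
  · exact Or.inl (isConj_iff.2 ⟨d.ι (r j), by rw [d.conj_sr, sub_self]⟩)
  · exact Or.inr (isConj_iff.2 ⟨d.ι (r j), by rw [d.conj_sr, add_sub_cancel_right]⟩)

theorem orderOf_sr (i : ZMod m) : orderOf (d.ι (sr i)) = 2 := by
  rw [orderOf_injective _ d.inj, DihedralGroup.orderOf_sr]

theorem orderOf_half : orderOf (d.ι (r (half m))) = 2 := by
  refine orderOf_eq_two_of_mul_self ?_ ?_
  · rw [← map_mul, r_mul_r, d.half_add, ← one_def, map_one]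
  · intro h
    rw [← map_one d.ι, one_def] at h
    exact d.half_ne (r.inj (d.inj h))

theorem invol_cases {x : X} (hx : orderOf x = 2) (hxS : x ∈ (d.S : Subgroup X)) :
    x = d.ι (r (half m)) ∨ ∃ i, x = d.ι (sr i) := by
  have := d.neZero
  obtain ⟨g, rfl⟩ := d.exists_ι hxS
  rw [orderOf_injective _ d.inj] at hx
  rcases dihedral_sq_eq_one_cases (invol_mul_self hx) (invol_ne_one hx) with ⟨i, rfl⟩ |
    ⟨a, ha, ha0, rfl⟩
  · exact Or.inr ⟨i, rfl⟩
  · exact Or.inl (by rw [zmod_two_torsion_unique ha ha0 d.half_add d.half_ne])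

theorem half_central {x : X} (hx : x ∈ (d.S : Subgroup X)) : Commute (d.ι (r (half m))) x := by
  obtain ⟨g, rfl⟩ := d.exists_ι hx
  refine Commute.map ?_ d.ι
  cases g with
  | r j => simp only [Commute, SemiconjBy, r_mul_r, add_comm]
  | sr j => exact (dihedral_commute_sr_r.2 d.half_add).symm

/-- The rotations. -/
def rot : Subgroup X := (Subgroup.zpowers (r 1 : DihedralGroup m)).map d.ι

theorem mem_rot {x : X} : x ∈ d.rot ↔ ∃ j, d.ι (r j) = x := by
  have := d.neZero
  constructor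
  · rintro ⟨g, hg, rfl⟩
    obtain ⟨k, rfl⟩ := Subgroup.mem_zpowers_iff.1 hg
    exact ⟨k, by rw [r_one_zpow]⟩
  · rintro ⟨j, rfl⟩
    refine ⟨r j, Subgroup.mem_zpowers_iff.2 ⟨j.val, ?_⟩, rfl⟩
    rw [zpow_natCast, r_one_pow, ZMod.natCast_zmod_val]

theorem rot_le : d.rot ≤ (d.S : Subgroup X) := by
  intro x hx
  obtain ⟨j, rfl⟩ := d.mem_rot.1 hx
  exact d.ι_mem _

theorem relIndex_rot : d.rot.relIndex (d.S : Subgroup X) = 2 := by
  have := d.neZero
  have h := Subgroup.relIndex_mul_relIndex ⊥ d.rot (d.S : Subgroup X) bot_le d.rot_le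
  rw [Subgroup.relIndex_bot_left, Subgroup.relIndex_bot_left, d.card_S, rot,
    Subgroup.card_map_of_injective d.inj, Nat.card_zpowers, orderOf_r_one, mul_comm] at h
  exact mul_right_cancel₀ (NeZero.ne m) h

theorem sr_not_mem_rot (i : ZMod m) : d.ι (sr i) ∉ d.rot := by
  intro h
  obtain ⟨j, hj⟩ := d.mem_rot.1 h
  exact nomatch d.inj hj

theorem invol_rot {x : X} (hx : orderOf x = 2) (hxR : x ∈ d.rot) : x = d.ι (r (half m)) := by
  rcases d.invol_cases hx (d.rot_le hxR) with h | ⟨i, rfl⟩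
  · exact h
  · exact absurd hxR (d.sr_not_mem_rot i)

/-- Thompson transfer: a reflection not fused to the central rotation avoids a subgroup of
index two. -/
theorem exists_index_two_or_conj [Finite X] (i : ZMod m) :
    (∃ M : Subgroup X, M.Normal ∧ M.index = 2 ∧ d.ι (sr i) ∉ M) ∨
      IsConj (d.ι (sr i)) (d.ι (r (half m))) := by
  rcases Cfsg.Agent.S0111.result d.S d.rot d.rot_le d.relIndex_rot (d.ι (sr i)) (d.orderOf_sr i)
    (d.ι_mem _) (d.sr_not_mem_rot i) with h | ⟨g, hg⟩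
  · exact Or.inl h
  · exact Or.inr (isConj_iff.2
      ⟨g, d.invol_rot ((orderOf_conj_eq g _).trans (d.orderOf_sr i)) hg⟩)

/-- If no reflection is fused to the central rotation, there is a normal 2-complement. -/
theorem hasNormalPComplement_of_not_fused [Finite X]
    (h : ∀ i, ¬ IsConj (d.ι (sr i)) (d.ι (r (half m)))) : Cfsg.HasNormalPComplement 2 X := by
  have : Fact (Nat.Prime 2) := ⟨Nat.prime_two⟩
  have := d.neZero
  set K := Cfsg.pResidual 2 X with hK
  have hKn : K.Normal := Cfsg.Agent.Lib.Transfer.pResidual_normal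
  have hnot : ∀ i, d.ι (sr i) ∉ K := by
    intro i hi
    have key : ∀ j, IsConj (d.ι (sr i)) (d.ι (sr j)) → False := by
      intro j hj
      obtain ⟨M, hM, hMi, hMj⟩ := (d.exists_index_two_or_conj j).resolve_right (h j)
      obtain ⟨g, hg⟩ := isConj_iff.1 hj
      exact hMj (Cfsg.Agent.Lib.Transfer.pResidual_le_of_index (p := 2) (k := 1)
        (by rw [hMi, pow_one]) (hg ▸ hKn.conj_mem _ hi g))
    rcases d.isConj_sr i with hc | hc
    · exact key 0 hc
    · exact key 1 hc
  have hle : (d.S : Subgroup X) ⊓ K ≤ d.rot := by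
    rintro x ⟨hxS, hxK⟩
    obtain ⟨g, rfl⟩ := d.exists_ι hxS
    cases g with
    | r j => exact d.mem_rot.2 ⟨j, rfl⟩
    | sr i => exact absurd hxK (hnot i)
  rw [Cfsg.Agent.Lib.Transfer.hasNormalPComplement_iff_coprime,
    Cfsg.Agent.Lib.Transfer.coprime_iff_not_dvd]
  intro hdvd
  change 2 ∣ Nat.card K at hdvd
  obtain ⟨T⟩ : Nonempty (Sylow 2 K) := inferInstance
  obtain ⟨Q, hQ⟩ := (T.2.map K.subtype).exists_le_sylow
  obtain ⟨c, hc⟩ := MulAction.exists_smul_eq X Q d.S
  have hmem : ∀ t : (T : Subgroup K), c * ((t : K) : X) * c⁻¹ ∈ (d.S : Subgroup X) ⊓ K := by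
    intro t
    refine ⟨?_, hKn.conj_mem _ (t : K).2 c⟩
    rw [← hc]
    exact ⟨_, hQ ⟨(t : K), t.2, rfl⟩, rfl⟩
  have hcyc : IsCyclic (T : Subgroup K) := by
    have : IsCyclic d.rot :=
      isCyclic_of_surjective _ (d.ι.subgroupMap_surjective (Subgroup.zpowers (r 1)))
    refine isCyclic_of_injective
      (f := (((MulAut.conj c).toMonoidHom.comp K.subtype).comp (T : Subgroup K).subtype).codRestrict
        d.rot fun t => hle (hmem t)) ?_
    intro a b hab
    exact Subtype.ext (Subtype.ext ((MulAut.conj c).injective (congrArg Subtype.val hab)))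
  have hC := Cfsg.Agent.Lib.Transfer.hasNormalPComplement_of_normalizer_le_centralizer T
    (hcyc.normalizer_le_centralizer (by rw [Nat.minFac_eq_two_iff]; exact hdvd))
  rw [Cfsg.Agent.Lib.Transfer.hasNormalPComplement_iff_coprime,
    Cfsg.Agent.Lib.Transfer.coprime_iff_not_dvd, hK,
    Cfsg.Agent.Lib.Transfer.pResidual_pResidual_eq_top, Subgroup.card_top] at hC
  exact hC hdvd

end DihSylow

/-- In a group with a normal 2-complement, fusion in a Sylow subgroup is inner. -/
theorem conj_in_sylow_of_hasNormalPComplement [Finite X] {p : ℕ} [Fact p.Prime]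
    (h : Cfsg.HasNormalPComplement p X) (S : Sylow p X) {s t g : X} (hs : s ∈ (S : Subgroup X))
    (ht : t ∈ (S : Subgroup X)) (hg : g * s * g⁻¹ = t) :
    ∃ c ∈ (S : Subgroup X), c * s * c⁻¹ = t := by
  set K := Cfsg.pResidual p X with hK
  have hKn : K.Normal := Cfsg.Agent.Lib.Transfer.pResidual_normal
  have hbot : (S : Subgroup X) ⊓ K = ⊥ :=
    (Cfsg.Agent.Lib.Transfer.hasNormalPComplement_iff_inf_eq_bot S).1 h
  have hg' : g ∈ (S : Subgroup X) ⊔ K := by
    rw [Cfsg.Agent.Lib.Transfer.sylow_sup_pResidual]; trivial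
  obtain ⟨c, hc, k, hk, rfl⟩ := Subgroup.mem_sup_of_normal_right.1 hg'
  refine ⟨c, hc, ?_⟩
  have h1 : k * s * k⁻¹ * s⁻¹ ∈ (S : Subgroup X) ⊓ K := by
    refine Subgroup.mem_inf.2 ⟨mul_mem ?_ (inv_mem hs), ?_⟩
    · have e : k * s * k⁻¹ = c⁻¹ * t * c := by rw [← hg]; group
      rw [e]
      exact mul_mem (mul_mem (inv_mem hc) ht) hc
    · rw [show k * s * k⁻¹ * s⁻¹ = k * (s * k⁻¹ * s⁻¹) by group]
      exact mul_mem hk (hKn.conj_mem _ (inv_mem hk) s)
  rw [hbot, Subgroup.mem_bot, mul_inv_eq_one] at h1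
  calc c * s * c⁻¹ = c * (k * s * k⁻¹) * c⁻¹ := by rw [h1]
    _ = t := by rw [← hg]; group

/-- An element of order three modulo the centralizer fuses all involutions of a four-group. -/
theorem klein_all_conj {V : Subgroup X} (hV : IsKleinFour V) {g : X}
    (hg : g ∈ Subgroup.normalizer (V : Set X)) (hgC : g ∉ Subgroup.centralizer (V : Set X))
    (hg3 : g ^ 3 ∈ Subgroup.centralizer (V : Set X)) {u v : X} (hu : u ∈ V) (hu1 : u ≠ 1)
    (hv : v ∈ V) (hv1 : v ≠ 1) : IsConj u v := by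
  have : Finite V := Nat.finite_of_card_ne_zero (by rw [IsKleinFour.card_four]; norm_num)
  have h4 : (V : Set X).ncard = 4 := by rw [← Nat.card_coe_set_eq]; exact IsKleinFour.card_four
  have hVeq : ∀ {a b : X}, a ∈ V → a ≠ 1 → b ∈ V → b ≠ 1 → a ≠ b → ∀ w ∈ V,
      w = 1 ∨ w = a ∨ w = b ∨ w = a * b := by
    intro a b ha ha1 hb hb1 hab w hw
    have hab1 : a * b ≠ 1 := fun h => hab (mul_left_cancel (h.trans (isKleinFour_sq hV ha).symm)).symm
    have habA : a * b ≠ a := fun h => hb1 (by simpa using h)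
    have habB : a * b ≠ b := fun h => ha1 (by simpa using h)
    have hsub : ({1, a, b, a * b} : Set X) ⊆ V := by
      intro x hx
      rcases hx with rfl | rfl | rfl | rfl
      exacts [one_mem V, ha, hb, mul_mem ha hb]
    have hc : ({1, a, b, a * b} : Set X).ncard = 4 := by
      rw [Set.ncard_insert_of_notMem (by simp [ha1.symm, hb1.symm, hab1.symm]),
        Set.ncard_insert_of_notMem (by simp [hab, habA.symm]), Set.ncard_pair habB.symm]
    have hfin : (V : Set X).Finite := Set.toFinite _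
    have := Set.eq_of_subset_of_ncard_le hsub (by rw [h4, hc]) hfin
    rw [← SetLike.mem_coe, ← this] at hw
    simpa using hw
  have hconj : ∀ {w : X}, w ∈ V → g * w * g⁻¹ ∈ V := fun {w} hw =>
    (Subgroup.mem_normalizer_iff.1 hg w).1 hw
  have hne1 : ∀ {w : X}, w ≠ 1 → g * w * g⁻¹ ≠ 1 := fun {w} hw h => hw (conj_eq_one_iff.1 h)
  have hnofix : ∀ {w : X}, w ∈ V → w ≠ 1 → g * w * g⁻¹ ≠ w := by
    intro a ha ha1 hfa
    obtain ⟨b, hb, hb1, hab⟩ : ∃ b ∈ V, b ≠ 1 ∧ a ≠ b := by
      by_contra hcon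
      push Not at hcon
      have hsub : (V : Set X) ⊆ {1, a} := fun x hx => by
        by_cases h : x = 1
        · exact Or.inl h
        · exact Or.inr (hcon x hx h).symm
      have := (Set.ncard_le_ncard hsub).trans (Set.ncard_insert_le _ _)
      rw [h4, Set.ncard_singleton] at this
      omega
    have hb2 : g ^ 2 * b * (g ^ 2)⁻¹ = b := by
      rw [show g ^ 2 * b * (g ^ 2)⁻¹ = g * (g * b * g⁻¹) * g⁻¹ by rw [sq]; group]
      rcases hVeq ha ha1 hb hb1 hab _ (hconj hb) with h | h | h | h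
      · exact absurd h (hne1 hb1)
      · exact absurd (mul_left_cancel (mul_right_cancel (hfa.trans h.symm))) hab
      · rw [h, h]
      · rw [h, show g * (a * b) * g⁻¹ = g * a * g⁻¹ * (g * b * g⁻¹) by group, hfa, h, ← mul_assoc,
          isKleinFour_sq hV ha, one_mul]
    have ha2 : g ^ 2 * a * (g ^ 2)⁻¹ = a := by
      rw [show g ^ 2 * a * (g ^ 2)⁻¹ = g * (g * a * g⁻¹) * g⁻¹ by rw [sq]; group, hfa, hfa]
    have h2 : g ^ 2 ∈ Subgroup.centralizer (V : Set X) := by
      intro w hw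
      symm
      rw [← mul_inv_eq_iff_eq_mul]
      rcases hVeq ha ha1 hb hb1 hab w hw with rfl | rfl | rfl | rfl
      · group
      · exact ha2
      · exact hb2
      · rw [show g ^ 2 * (a * b) * (g ^ 2)⁻¹ = g ^ 2 * a * (g ^ 2)⁻¹ * (g ^ 2 * b * (g ^ 2)⁻¹) by
          group, ha2, hb2]
    refine hgC ?_
    have : g = (g ^ 2)⁻¹ * g ^ 3 := by group
    rw [this]
    exact mul_mem (inv_mem h2) hg3
  by_cases huv : u = v
  · rw [huv]
  rcases hVeq hu hu1 hv hv1 huv _ (hconj hu) with h | h | h | h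
  · exact absurd h (hne1 hu1)
  · exact absurd h (hnofix hu hu1)
  · exact isConj_iff.2 ⟨g, h⟩
  rcases hVeq hu hu1 hv hv1 huv _ (hconj hv) with h' | h' | h' | h'
  · exact absurd h' (hne1 hv1)
  · exact (isConj_iff.2 ⟨g, h'⟩).symm
  · exact absurd h' (hnofix hv hv1)
  · exact absurd (mul_left_cancel (mul_right_cancel (h.trans h'.symm))) huv

end Cfsg.Agent.Lib.Involutions
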