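import Mathlib
import Cfsg.Agent.Lib.Involutions.DihedralFusion

/-!
# Four-subgroups of groups with dihedral Sylow 2-subgroups
-/

namespace Cfsg.Agent.Lib.Involutions

open DihedralGroup

variable {X : Type*} [Group X] {m : ℕ}

theorem map_conj_map_conj (U : Subgroup X) (a b : X) :
    (U.map (MulAut.conj a).toMonoidHom).map (MulAut.conj b).toMonoidHom =
      U.map (MulAut.conj (b * a)).toMonoidHom := by
  rw [Subgroup.map_map]
  congr 1
  ext x
  simp [mul_assoc]

theorem eq_map_conj_of_map_conj_eq {U V : Subgroup X} {a : X}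
    (h : U.map (MulAut.conj a).toMonoidHom = V) : V.map (MulAut.conj a⁻¹).toMonoidHom = U := by
  rw [← h, map_conj_map_conj, inv_mul_cancel]
  ext x
  simp

theorem conj_le_sylow [Finite X] {p : ℕ} [Fact p.Prime] (S : Sylow p X) {Y : Subgroup X}
    (hY : IsPGroup p Y) : ∃ c : X, Y.map (MulAut.conj c).toMonoidHom ≤ (S : Subgroup X) := by
  obtain ⟨Q, hQ⟩ := hY.exists_le_sylow
  obtain ⟨c, hc⟩ := MulAction.exists_smul_eq X Q S
  exact ⟨c, (Subgroup.map_mono hQ).trans (le_of_eq (by rw [← hc]; rfl))⟩

theorem klein_isPGroup {U : Subgroup X} (hU : IsKleinFour U) : IsPGroup 2 U :=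
  IsPGroup.of_card (n := 2) (by rw [IsKleinFour.card_four]; norm_num)

theorem klein_invol {U : Subgroup X} (hU : IsKleinFour U) {u : X} (hu : u ∈ U) (h1 : u ≠ 1) :
    orderOf u = 2 := orderOf_eq_two_of_mul_self (isKleinFour_sq hU hu) h1

namespace DihSylow

variable (d : DihSylow X m)

/-- The four-subgroup of the reflection `sr i`. -/
def klein (i : ZMod m) : Subgroup X :=
  (Subgroup.centralizer ({sr i} : Set (DihedralGroup m))).map d.ι

theorem klein_le (i : ZMod m) : d.klein i ≤ (d.S : Subgroup X) := by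
  rintro _ ⟨g, -, rfl⟩
  exact d.ι_mem g

theorem mem_klein_iff (i : ZMod m) {x : X} : x ∈ d.klein i ↔
    x = 1 ∨ x = d.ι (r (half m)) ∨ x = d.ι (sr i) ∨ x = d.ι (sr (i + half m)) := by
  have := d.neZero
  constructor
  · rintro ⟨g, hg, rfl⟩
    rcases dihedral_centralizer_sr d.half_add d.half_ne
      (Subgroup.mem_centralizer_singleton_iff.1 hg).symm with rfl | rfl | rfl | rfl <;> simp
  · rintro (rfl | rfl | rfl | rfl)
    · exact one_mem _
    · exact ⟨_, Subgroup.mem_centralizer_singleton_iff.2 (dihedral_commute_sr_r.2 d.half_add).symm, rfl⟩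
    · exact ⟨_, Subgroup.mem_centralizer_singleton_iff.2 rfl, rfl⟩
    · refine ⟨_, Subgroup.mem_centralizer_singleton_iff.2 (dihedral_commute_sr_sr.2 ?_).symm, rfl⟩
      rw [add_sub_cancel_left, d.half_add]

theorem half_mem_klein (i : ZMod m) : d.ι (r (half m)) ∈ d.klein i :=
  (d.mem_klein_iff i).2 (Or.inr (Or.inl rfl))

theorem sr_mem_klein (i : ZMod m) : d.ι (sr i) ∈ d.klein i :=
  (d.mem_klein_iff i).2 (Or.inr (Or.inr (Or.inl rfl)))

theorem isKleinFour_klein (i : ZMod m) : IsKleinFour (d.klein i) := by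
  have := d.neZero
  refine isKleinFour_map (isKleinFour_of_sq ?_ ?_) d.ι d.inj
  · have hset : (Subgroup.centralizer ({sr i} : Set (DihedralGroup m)) : Set (DihedralGroup m)) =
        {1, r (half m), sr i, sr (i + half m)} := by
      ext g
      constructor
      · intro hg
        rcases dihedral_centralizer_sr d.half_add d.half_ne
          (Subgroup.mem_centralizer_singleton_iff.1 hg).symm with h | h | h | h <;> simp [h]
      · rintro (rfl | rfl | rfl | rfl)
        · exact one_mem _
        · exact Subgroup.mem_centralizer_singleton_iff.2 (dihedral_commute_sr_r.2 d.half_add).symm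
        · exact Subgroup.mem_centralizer_singleton_iff.2 rfl
        · refine Subgroup.mem_centralizer_singleton_iff.2 (dihedral_commute_sr_sr.2 ?_).symm
          rw [add_sub_cancel_left, d.half_add]
    rw [← SetLike.coe_sort_coe, Nat.card_coe_set_eq, hset,
      Set.ncard_insert_of_notMem (by simp [-r_zero, one_def, d.half_ne.symm]),
      Set.ncard_insert_of_notMem (by simp),
      Set.ncard_pair (by simpa using d.half_ne)]
  · intro g hg
    rcases dihedral_centralizer_sr d.half_add d.half_ne
      (Subgroup.mem_centralizer_singleton_iff.1 hg).symm with rfl | rfl | rfl | rfl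
    · rw [one_mul]
    · rw [r_mul_r, d.half_add, ← one_def]
    · exact sr_mul_self i
    · exact sr_mul_self _

theorem exists_klein_eq {U : Subgroup X} (hU : IsKleinFour U) (hUS : U ≤ (d.S : Subgroup X)) :
    ∃ i, U = d.klein i := by
  have := d.neZero
  have hmap : (U.comap d.ι).map d.ι = U := Subgroup.map_comap_eq_self (d.range_eq ▸ hUS)
  have hK : IsKleinFour (U.comap d.ι) := by
    refine isKleinFour_of_sq ?_ ?_
    · rw [← Subgroup.card_map_of_injective d.inj, hmap]; exact IsKleinFour.card_four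
    · intro g hg
      exact d.inj (by rw [map_mul, isKleinFour_sq hU hg, map_one])
  obtain ⟨i, a, -, -, -, -, hV, -⟩ := dihedral_klein hK
  exact ⟨i, by rw [← hmap, hV]; rfl⟩

theorem conj_ι_klein (j i : ZMod m) :
    (d.klein i).map (MulAut.conj (d.ι (r j))).toMonoidHom = d.klein (i - (j + j)) := by
  have := d.neZero
  have h : ∀ i j : ZMod m, (d.klein i).map (MulAut.conj (d.ι (r j))).toMonoidHom ≤
      d.klein (i - (j + j)) := by
    rintro i j _ ⟨x, hx, rfl⟩
    show d.ι (r j) * x * (d.ι (r j))⁻¹ ∈ _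
    rw [SetLike.mem_coe, d.mem_klein_iff] at hx
    rw [d.mem_klein_iff]
    rcases hx with rfl | rfl | rfl | rfl
    · left; group
    · right; left
      rw [← map_mul, ← map_inv, ← map_mul, inv_r, r_mul_r, r_mul_r]
      exact congrArg (fun a => d.ι (r a)) (by ring)
    · right; right; left; exact d.conj_sr i j
    · right; right; right
      rw [d.conj_sr]
      exact congrArg (fun a => d.ι (sr a)) (by ring)
  refine le_antisymm (h i j) fun x hx => ?_
  have := h (i - (j + j)) (-j) ⟨x, hx, rfl⟩
  rw [show i - (j + j) - (-j + -j) = i by ring] at this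
  refine ⟨_, this, ?_⟩
  show d.ι (r j) * (d.ι (r (-j)) * x * (d.ι (r (-j)))⁻¹) * (d.ι (r j))⁻¹ = x
  rw [← inv_r, map_inv]
  group

theorem klein_class {U : Subgroup X} (hU : IsKleinFour U) (hUS : U ≤ (d.S : Subgroup X)) :
    ∃ c ∈ (d.S : Subgroup X), U.map (MulAut.conj c).toMonoidHom = d.klein 0 ∨
      U.map (MulAut.conj c).toMonoidHom = d.klein 1 := by
  obtain ⟨i, rfl⟩ := d.exists_klein_eq hU hUS
  rcases d.parity_cases i with ⟨j, rfl⟩ | ⟨j, rfl⟩
  · exact ⟨d.ι (r j), d.ι_mem _, Or.inl (by rw [d.conj_ι_klein, sub_self])⟩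
  · exact ⟨d.ι (r j), d.ι_mem _, Or.inr (by rw [d.conj_ι_klein, add_sub_cancel_right])⟩

theorem exists_conj_klein [Finite X] {U : Subgroup X} (hU : IsKleinFour U) :
    ∃ c : X, U.map (MulAut.conj c).toMonoidHom = d.klein 0 ∨
      U.map (MulAut.conj c).toMonoidHom = d.klein 1 := by
  have : Fact (Nat.Prime 2) := ⟨Nat.prime_two⟩
  obtain ⟨a, ha⟩ := conj_le_sylow d.S (klein_isPGroup hU)
  obtain ⟨b, -, hb⟩ := d.klein_class (isKleinFour_map hU _ (MulAut.conj a).injective) ha
  exact ⟨b * a, by rwa [← map_conj_map_conj]⟩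

/-- For a dihedral Sylow 2-subgroup of order at least 8 the two classes of four-subgroups do not
fuse. -/
theorem klein_not_conj [Finite X] (hm : 4 ≤ m) (g : X) :
    (d.klein 0).map (MulAut.conj g).toMonoidHom ≠ d.klein 1 := by
  have : Fact (Nat.Prime 2) := ⟨Nat.prime_two⟩
  have := d.neZero
  intro hg
  set z := d.ι (r (half m)) with hz
  -- we may assume that `g` centralizes `z`
  obtain ⟨g, hgz, hg⟩ : ∃ g', g' * z * g'⁻¹ = z ∧
      (d.klein 0).map (MulAut.conj g').toMonoidHom = d.klein 1 := by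
    by_cases hgz : g * z * g⁻¹ = z
    · exact ⟨g, hgz, hg⟩
    set q : ZMod m := ((m / 4 : ℕ) : ZMod m) with hq
    have h4 : 4 ∣ m := by
      have := d.S.2
      have : Finite (d.S : Subgroup X) := inferInstance
      obtain ⟨k, hk⟩ := IsPGroup.iff_card.1 d.S.2
      rw [d.card_S] at hk
      rcases k with _ | _ | _ | k
      · simp at hk
      · simp at hk; omega
      · simp at hk; omega
      · exact ⟨2 ^ k, by rw [pow_succ, pow_succ, pow_succ] at hk; omega⟩
    have hqq : q + q = half m := by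
      rw [hq, half, ← Nat.cast_add]
      congr 1
      omega
    set c := d.ι (r q) with hc
    have hcz : c * z * c⁻¹ = z := by
      rw [← (d.half_central (d.ι_mem (r q))).eq]
      simp only [← hc, ← hz]
      group
    -- the involution sent by `g` to `z`
    obtain ⟨a, ha, hga⟩ : ∃ a ∈ d.klein 0, g * a * g⁻¹ = z := by
      have h := d.half_mem_klein (i := 1)
      rw [← hg] at h
      exact h
    have hgz1 : g * z * g⁻¹ ∈ d.klein 1 := by
      rw [← hg]; exact ⟨z, d.half_mem_klein 0, rfl⟩
    have hz1 : z ≠ 1 := invol_ne_one d.orderOf_half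
    have key : ∀ i x, x ∈ d.klein i → x ≠ 1 → x ≠ z → c * x * c⁻¹ = x * z := by
      intro i x hx hx1 hxz
      have hsr : ∀ k : ZMod m, c * d.ι (sr k) * c⁻¹ = d.ι (sr k) * z := by
        intro k
        rw [hc, hz, d.conj_sr, ← map_mul, sr_mul_r, hqq]
        refine congrArg (fun a => d.ι (sr a)) ?_
        linear_combination (-1 : ZMod m) * d.half_add
      rcases (d.mem_klein_iff i).1 hx with rfl | rfl | rfl | rfl
      · exact absurd rfl hx1
      · exact absurd rfl hxz
      · exact hsr _
      · exact hsr _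
    have ha1 : a ≠ 1 := by rintro rfl; exact hz1 (by simpa using hga.symm)
    have haz : a ≠ z := by rintro rfl; exact hgz hga
    have hz'1 : g * z * g⁻¹ ≠ 1 := fun h => hz1 (conj_eq_one_iff.1 h)
    have hcK : ∀ i, (d.klein i).map (MulAut.conj c).toMonoidHom = d.klein i := by
      intro i
      rw [hc, d.conj_ι_klein, hqq]
      ext x
      rw [d.mem_klein_iff, d.mem_klein_iff, sub_add_cancel,
        show i - half m = i + half m by linear_combination (-1 : ZMod m) * d.half_add]
      tauto
    refine ⟨g * c⁻¹ * g⁻¹ * c * g, ?_, ?_⟩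
    · calc g * c⁻¹ * g⁻¹ * c * g * z * (g * c⁻¹ * g⁻¹ * c * g)⁻¹
          = g * c⁻¹ * g⁻¹ * (c * (g * z * g⁻¹) * c⁻¹) * g * c * g⁻¹ := by group
        _ = g * c⁻¹ * g⁻¹ * (g * z * g⁻¹ * z) * g * c * g⁻¹ := by rw [key 1 _ hgz1 hz'1 hgz]
        _ = g * (c⁻¹ * (z * a) * c) * g⁻¹ := by
            conv_lhs => arg 1; arg 1; arg 1; arg 2; arg 2; rw [← hga]
            group
        _ = g * a * g⁻¹ := by
            congr 2
            have hza : z * a = c * a * c⁻¹ := by
              rw [key 0 a ha ha1 haz]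
              exact isKleinFour_comm (d.isKleinFour_klein 0) (d.half_mem_klein 0) ha
            rw [hza]; group
        _ = z := hga
    · rw [← map_conj_map_conj, hg, ← map_conj_map_conj, hcK 1, ← map_conj_map_conj,
        eq_map_conj_of_map_conj_eq hg, ← map_conj_map_conj,
        eq_map_conj_of_map_conj_eq (hcK 0), hg]
  -- inside the centralizer of `z` there is a normal 2-complement
  set C := Subgroup.centralizer ({z} : Set X) with hC
  have hSC : (d.S : Subgroup X) ≤ C := fun x hx =>
    Subgroup.mem_centralizer_singleton_iff.2 (d.half_central hx).symm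
  let dC : DihSylow C m :=
    { S := d.S.subtype hSC
      ι := d.ι.codRestrict C fun x => hSC (d.ι_mem x)
      inj := fun a b h => d.inj (congrArg Subtype.val h)
      range_eq := by
        ext x
        constructor
        · rintro ⟨y, rfl⟩; exact d.ι_mem y
        · intro hx
          obtain ⟨y, hy⟩ := d.exists_ι (x := (x : X)) hx
          exact ⟨y, Subtype.ext hy⟩
      two_le := d.two_le }
  have hNPC : Cfsg.HasNormalPComplement 2 C := by
    refine dC.hasNormalPComplement_of_not_fused fun i h => ?_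
    obtain ⟨c, hc⟩ := isConj_iff.1 h.symm
    have h' : (c : X) * z * (c : X)⁻¹ = d.ι (sr i) := congrArg Subtype.val hc
    rw [Subgroup.mem_centralizer_singleton_iff.1 c.2, mul_inv_cancel_right] at h'
    exact nomatch d.inj h'
  -- so `g` sends a reflection to one of the same parity
  have hgC : g ∈ C := Subgroup.mem_centralizer_singleton_iff.2 (mul_inv_eq_iff_eq_mul.1 hgz)
  have himg : g * d.ι (sr 0) * g⁻¹ ∈ d.klein 1 := by
    rw [← hg]; exact ⟨_, d.sr_mem_klein 0, rfl⟩
  have heven : ∀ t, d.ι (sr t) = g * d.ι (sr 0) * g⁻¹ → ∃ j, t = j + j := by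
    intro t ht
    obtain ⟨c, hcS, hc⟩ := conj_in_sylow_of_hasNormalPComplement hNPC dC.S
      (s := dC.ι (sr 0)) (t := dC.ι (sr t)) (g := ⟨g, hgC⟩) (dC.ι_mem _) (dC.ι_mem _)
      (Subtype.ext ht.symm)
    obtain ⟨e, rfl⟩ := dC.exists_ι hcS
    rw [← map_inv, ← map_mul, ← map_mul] at hc
    have := dC.inj hc
    cases e with
    | r j =>
      rw [dihedral_conj_r_sr, sr.injEq] at this
      exact ⟨-j, by rw [← this]; ring⟩
    | sr j =>
      rw [inv_sr, sr_mul_sr, r_mul_sr, sr.injEq] at this
      exact ⟨j, by rw [← this]; ring⟩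
  rcases (d.mem_klein_iff 1).1 himg with h | h | h | h
  · exact invol_ne_one (d.orderOf_sr 0) (conj_eq_one_iff.1 h)
  · have : g * d.ι (sr 0) * g⁻¹ = g * z * g⁻¹ := by rw [hgz]; exact h
    exact nomatch d.inj (mul_left_cancel (mul_right_cancel this))
  · obtain ⟨j, hj⟩ := heven _ h.symm
    exact d.parity_ne j 0 (by rw [← hj]; ring)
  · obtain ⟨j, hj⟩ := heven _ h.symm
    have h4 : 4 ∣ m := by
      obtain ⟨k, hk⟩ := IsPGroup.iff_card.1 d.S.2
      rw [d.card_S] at hk
      rcases k with _ | _ | _ | k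
      · simp at hk
      · simp at hk; omega
      · simp at hk; omega
      · exact ⟨2 ^ k, by rw [pow_succ, pow_succ, pow_succ] at hk; omega⟩
    have hqq : ((m / 4 : ℕ) : ZMod m) + ((m / 4 : ℕ) : ZMod m) = half m := by
      rw [half, ← Nat.cast_add]
      congr 1
      omega
    exact d.parity_ne (j - ((m / 4 : ℕ) : ZMod m)) 0 (by rw [← hqq] at hj; linear_combination -hj)

end DihSylow

end Cfsg.Agent.Lib.Involutions
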