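import Cfsg.Prelude.Def_TwoFusion
import Cfsg.Agent.Lib.Involutions.Basic
import Cfsg.Agent.Lib.Involutions.BaerSuzuki
import Cfsg.Agent.Lib.Involutions.Counting

/-!
# Isolated involutions
-/

namespace Cfsg.Agent.Lib.Involutions

open Cfsg

variable {G : Type*} [Group G]

/-- Two involutions whose product has `2`-power order generate a `2`-group. -/
theorem isPGroup_two_closure_pair {x y : G} (hx : orderOf x = 2) (hy : orderOf y = 2) {e : ℕ}
    (he : (x * y) ^ (2 ^ e) = 1) : IsPGroup 2 (Subgroup.closure ({x, y} : Set G)) := by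
  have : Fact (Nat.Prime 2) := ⟨Nat.prime_two⟩
  rintro ⟨d, hd⟩
  obtain ⟨k, rfl | rfl⟩ := (mem_closure_pair_invol hx hy d).1 hd
  · refine ⟨e, Subtype.ext ?_⟩
    show ((x * y) ^ k) ^ (2 ^ e) = 1
    rw [← zpow_natCast, ← zpow_mul, mul_comm, zpow_mul, zpow_natCast, he, one_zpow]
  · refine ⟨1, Subtype.ext ?_⟩
    show ((x * y) ^ k * x) ^ (2 ^ 1) = 1
    rw [pow_one, sq]
    exact zpow_mul_invol_sq hx hy k

theorem conj_conj (a b x : G) : a * (b * x * b⁻¹) * a⁻¹ = (a * b) * x * (a * b)⁻¹ := by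
  simp only [mul_inv_rev, mul_assoc]

theorem isIsolated_conj {z : G} (hz : IsIsolatedInvolution z) (g : G) :
    IsIsolatedInvolution (g * z * g⁻¹) := by
  refine ⟨by rw [orderOf_conj_eq, hz.1], fun h hc => ?_⟩
  have h2 : Commute z ((g⁻¹ * h * g) * z * (g⁻¹ * h * g)⁻¹) := by
    have := hc.map (MulAut.conj g⁻¹).toMonoidHom
    simpa [mul_assoc] using this
  have h3 := hz.2 _ h2
  calc h * (g * z * g⁻¹) * h⁻¹ = g * ((g⁻¹ * h * g) * z * (g⁻¹ * h * g)⁻¹) * g⁻¹ := by group
    _ = g * z * g⁻¹ := by rw [h3]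

/-- An isolated involution is the only one of its conjugates in any `2`-subgroup containing it. -/
theorem eq_of_conj_mem [Finite G] {z : G} (hz : IsIsolatedInvolution z) {P : Subgroup G}
    (hP : IsPGroup 2 P) (hzP : z ∈ P) {g : G} (hg : g * z * g⁻¹ ∈ P) : g * z * g⁻¹ = z := by
  have : Fact (Nat.Prime 2) := ⟨Nat.prime_two⟩
  have hle : P ≤ Subgroup.centralizer ({z} : Set G) := by
    by_contra hne
    obtain ⟨M1, hlt, hM1P, hM1N⟩ := exists_gt_le_normalizer hP
      (lt_of_le_of_ne (inf_le_left : P ⊓ Subgroup.centralizer ({z} : Set G) ≤ P)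
        fun h => hne (inf_eq_left.1 h))
    refine hlt.not_ge fun y hy => ⟨hM1P hy, ?_⟩
    have hzM : z ∈ P ⊓ Subgroup.centralizer ({z} : Set G) :=
      ⟨hzP, Subgroup.mem_centralizer_singleton_iff.2 rfl⟩
    have := ((Subgroup.mem_set_normalizer_iff.1 (hM1N hy)) z).1 hzM
    have hcz : Commute z (y * z * y⁻¹) := (Subgroup.mem_centralizer_singleton_iff.1 this.2).symm
    exact Subgroup.mem_centralizer_singleton_iff.2 (mul_inv_eq_iff_eq_mul.1 (hz.2 y hcz))
  exact hz.2 g (Subgroup.mem_centralizer_singleton_iff.1 (hle hg)).symm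

/-- The product of two conjugates of an isolated involution has odd order. -/
theorem odd_mul_conj [Finite G] {z : G} (hz : IsIsolatedInvolution z) (g : G) :
    Odd (orderOf (z * (g * z * g⁻¹))) := by
  set t := g * z * g⁻¹ with ht
  have ht2 : orderOf t = 2 := by rw [ht, orderOf_conj_eq, hz.1]
  set a := z * t with ha
  have hn : orderOf a ≠ 0 := (orderOf_pos a).ne'
  obtain ⟨e, m, hm, hem⟩ := Nat.exists_eq_two_pow_mul_odd hn
  obtain ⟨c, hc⟩ := hm
  set d := a ^ (-(c : ℤ)) with hd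
  have hd' : d * t * d⁻¹ = a ^ (2 * -(c : ℤ) - 1) * z := by
    have h := invol_right_eq hz.1 ht2
    rw [hd]
    conv_lhs => rw [h, ← ha]
    rw [← zpow_neg, mul_assoc, mul_assoc (a ^ (-1 : ℤ)), invol_mul_zpow hz.1 ht2, neg_neg,
      ← mul_assoc (a ^ (-1 : ℤ)), ← mul_assoc, ← zpow_add, ← zpow_add]
    congr 2
    ring
  have h2 : orderOf (d * t * d⁻¹) = 2 := by rw [orderOf_conj_eq, ht2]
  have hzt : z * (d * t * d⁻¹) = a ^ m := by
    rw [hd', ← mul_assoc, invol_mul_zpow hz.1 ht2, mul_assoc, invol_mul_self hz.1, mul_one,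
      show -(2 * -(c : ℤ) - 1) = ((m : ℕ) : ℤ) by rw [hc]; push_cast; ring, zpow_natCast]
  have hp : IsPGroup 2 (Subgroup.closure ({z, d * t * d⁻¹} : Set G)) :=
    isPGroup_two_closure_pair hz.1 h2 (e := e)
      (by rw [hzt, ← pow_mul, mul_comm, ← hem, pow_orderOf_eq_one])
  have hmem : (d * g) * z * (d * g)⁻¹ ∈ Subgroup.closure ({z, d * t * d⁻¹} : Set G) := by
    rw [← conj_conj, ← ht]
    exact Subgroup.subset_closure (Or.inr rfl)
  have heq := eq_of_conj_mem hz hp (Subgroup.subset_closure (Or.inl rfl)) hmem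
  rw [← conj_conj, ← ht] at heq
  rw [heq, invol_mul_self hz.1] at hzt
  have h3 := orderOf_dvd_of_pow_eq_one hzt.symm
  exact Odd.of_dvd_nat (⟨c, hc⟩ : Odd m) h3

/-- Conjugates of an isolated involution inside a subgroup containing it are conjugate there. -/
theorem exists_conj_mem [Finite G] {z : G} (hz : IsIsolatedInvolution z) {H : Subgroup G}
    (hzH : z ∈ H) {g : G} (hg : g * z * g⁻¹ ∈ H) : ∃ h ∈ H, h * z * h⁻¹ = g * z * g⁻¹ := by
  obtain ⟨d, hd, hdc⟩ :=
    exists_conj_of_odd hz.1 (by rw [orderOf_conj_eq, hz.1]) (odd_mul_conj hz g)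
  refine ⟨d, (Subgroup.closure_le H).2 ?_ hd, hdc⟩
  rintro w (rfl | hw)
  · exact hzH
  · rw [Set.mem_singleton_iff] at hw
    rw [hw]
    exact hg

/-- Uniqueness of the conjugate in one Sylow subgroup implies isolation. -/
theorem isIsolated_of_unique_in_sylow [Finite G] (P : Sylow 2 G) {u : G} (hu : orderOf u = 2)
    (huP : u ∈ P) (hiso : ∀ g : G, g * u * g⁻¹ ∈ P → g * u * g⁻¹ = u) :
    IsIsolatedInvolution u := by
  have : Fact (Nat.Prime 2) := ⟨Nat.prime_two⟩
  refine ⟨hu, fun g hc => ?_⟩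
  set C := Subgroup.centralizer ({u} : Set G) with hC
  have hPC : (P : Subgroup G) ≤ C := fun s hs =>
    Subgroup.mem_centralizer_singleton_iff.2
      (mul_inv_eq_iff_eq_mul.1 (hiso s (mul_mem (mul_mem hs huP) (inv_mem hs))))
  let t : C := ⟨g * u * g⁻¹, Subgroup.mem_centralizer_singleton_iff.2 hc.symm.eq⟩
  have ht : IsPGroup 2 (Subgroup.zpowers t) := IsPGroup.iff_card.2 ⟨1, by
    rw [Nat.card_zpowers, ← Subgroup.orderOf_coe, orderOf_conj_eq, hu, pow_one]⟩
  obtain ⟨R, hR⟩ := ht.exists_le_sylow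
  obtain ⟨c, hcR⟩ := MulAction.exists_smul_eq C R (P.subtype hPC)
  have hmem : c * t * c⁻¹ ∈ ((P.subtype hPC : Sylow 2 C) : Subgroup C) := by
    rw [← hcR, sylow_map_conj]
    exact ⟨t, hR (Subgroup.mem_zpowers t), rfl⟩
  have hmem' : ((c : G) * g) * u * ((c : G) * g)⁻¹ ∈ P := by
    rw [← conj_conj]
    exact hmem
  have h1 := hiso _ hmem'
  rw [← conj_conj] at h1
  have hcu : (c : G) * u = u * c := Subgroup.mem_centralizer_singleton_iff.1 c.2
  rw [mul_inv_eq_iff_eq_mul, ← hcu] at h1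
  exact mul_left_cancel h1

/-- Elements of odd order are determined by their squares. -/
theorem sq_inj_of_odd {k k' : G} (h : Odd (orderOf k)) (h' : Odd (orderOf k'))
    (he : k ^ 2 = k' ^ 2) : k = k' := by
  obtain ⟨L, hL⟩ := h.mul h'
  have hk : ∀ x : G, orderOf x ∣ orderOf k * orderOf k' → (x ^ 2) ^ (L + 1) = x := fun x hx => by
    rw [← pow_mul, show 2 * (L + 1) = (2 * L + 1) + 1 by ring, pow_succ, ← hL,
      orderOf_dvd_iff_pow_eq_one.1 hx, one_mul]
  rw [← hk k (dvd_mul_right _ _), he, hk k' (dvd_mul_left _ _)]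

theorem sq_mul_of_inverts {z k : G} (hzk : z * k * z⁻¹ = k⁻¹) : k * z * k⁻¹ = k ^ 2 * z := by
  have h : z * k⁻¹ = k * z := by
    rw [mul_inv_eq_iff_eq_mul] at hzk
    rw [mul_inv_eq_iff_eq_mul, mul_assoc, hzk, mul_inv_cancel_left]
  rw [mul_assoc, h, sq, mul_assoc]

/-- The unique odd-order square root of `t z` for a conjugate `t` of an isolated `z`. -/
theorem exists_sqrt_conj [Finite G] {z : G} (hz : IsIsolatedInvolution z) (g : G) :
    ∃ k : G, Odd (orderOf k) ∧ z * k * z⁻¹ = k⁻¹ ∧ k ^ 2 * z = g * z * g⁻¹ ∧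
      k ∈ Subgroup.zpowers (g * z * g⁻¹ * z) := by
  set t := g * z * g⁻¹ with ht
  have ht2 : orderOf t = 2 := by rw [ht, orderOf_conj_eq, hz.1]
  have hodd := odd_mul_conj hz g
  rw [← ht, ← orderOf_inv, mul_inv_rev, invol_inv ht2, invol_inv hz.1] at hodd
  obtain ⟨m, hm⟩ := hodd
  refine ⟨(t * z) ^ (m + 1), ?_, inverts_pow (conj_mul_right_invol ht2 hz.1) _, ?_,
    Subgroup.npow_mem_zpowers _ _⟩
  · exact Odd.of_dvd_nat (⟨m, hm⟩ : Odd (orderOf (t * z))) (orderOf_pow_dvd _)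
  · rw [← pow_mul, show (m + 1) * 2 = (2 * m + 1) + 1 by ring, pow_succ, ← hm, pow_orderOf_eq_one,
      one_mul, mul_assoc, invol_mul_self hz.1, mul_one]

/-- Orbit–stabilizer for conjugation. -/
theorem card_conjugates_mul [Finite G] (x : G) :
    Nat.card {t : G // IsConj x t} * Nat.card (Subgroup.centralizer ({x} : Set G)) = Nat.card G := by
  classical
  have := Fintype.ofFinite G
  let f : G → {t : G // IsConj x t} := fun g => ⟨g * x * g⁻¹, isConj_iff.2 ⟨g, rfl⟩⟩
  rw [← Nat.card_congr (Equiv.sigmaFiberEquiv f), Nat.card_sigma]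
  have hfib : ∀ t : {t : G // IsConj x t},
      Nat.card {g : G // f g = t} = Nat.card (Subgroup.centralizer ({x} : Set G)) := fun t => by
    rw [← card_conj_eq_card_centralizer x t t.2]
    exact Nat.card_congr (Equiv.subtypeEquivRight fun g => Subtype.ext_iff)
  rw [Finset.sum_congr rfl fun t _ => hfib t, Finset.sum_const, smul_eq_mul, Finset.card_univ,
    Nat.card_eq_fintype_card]

end Cfsg.Agent.Lib.Involutions
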