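import Mathlib

/-!
# Automorphisms of odd order of finite 2-groups

`NoOddAut U`: the identity is the only automorphism of `U` of odd order, equivalently `Aut U` is a
2-group. The criteria below suffice for the centric subgroups of quasi-dihedral and wreathed
groups.
-/

namespace Cfsg.Agent.Lib.Involutions

variable {U : Type*} [Group U]

/-- Every automorphism of odd order is trivial. -/
def NoOddAut (U : Type*) [Group U] : Prop := ∀ φ : MulAut U, Odd (orderOf φ) → φ = 1

theorem isPGroup_mulAut_of_noOddAut [Finite U] (h : NoOddAut U) : IsPGroup 2 (MulAut U) := by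
  intro φ
  obtain ⟨a, b, hb, hab⟩ := Nat.exists_eq_two_pow_mul_odd (orderOf_pos φ).ne'
  refine ⟨a, h _ ?_⟩
  rw [orderOf_pow' φ (Nat.two_pow_pos a).ne', hab,
    Nat.gcd_eq_right (Dvd.intro b rfl), Nat.mul_div_cancel_left b (Nat.two_pow_pos a)]
  exact hb

theorem eq_pow_of_sq {φ : MulAut U} (hodd : Odd (orderOf φ)) : ∃ k : ℕ, φ = (φ ^ 2) ^ k := by
  obtain ⟨k, hk⟩ := hodd
  exact ⟨k + 1, by rw [← pow_mul, show 2 * (k + 1) = orderOf φ + 1 by omega, pow_succ,
    pow_orderOf_eq_one, one_mul]⟩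

/-- An automorphism of odd order fixes what its square fixes. -/
theorem fix_of_sq_fix {φ : MulAut U} (hodd : Odd (orderOf φ)) {g : U} (h : φ (φ g) = g) :
    φ g = g := by
  obtain ⟨k, hk⟩ := eq_pow_of_sq hodd
  have key : ∀ j : ℕ, ((φ ^ 2) ^ j) g = g := by
    intro j
    induction j with
    | zero => rfl
    | succ j ih => rw [pow_succ, MulAut.mul_apply, sq, MulAut.mul_apply, h]; rw [← sq]; exact ih
  calc φ g = ((φ ^ 2) ^ k) g := by rw [← hk]
    _ = g := key k

/-- An automorphism of odd order preserves a set that its square preserves. -/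
theorem mapsTo_of_sq {φ : MulAut U} (hodd : Odd (orderOf φ)) {W : Set U}
    (h : ∀ g ∈ W, φ (φ g) ∈ W) : ∀ g ∈ W, φ g ∈ W := by
  obtain ⟨k, hk⟩ := eq_pow_of_sq hodd
  have key : ∀ (j : ℕ), ∀ g ∈ W, ((φ ^ 2) ^ j) g ∈ W := by
    intro j
    induction j with
    | zero => exact fun g hg => hg
    | succ j ih =>
      intro g hg
      rw [pow_succ, MulAut.mul_apply, sq, MulAut.mul_apply, ← sq]
      exact ih _ (h g hg)
  intro g hg
  have := key k g hg
  rwa [← hk] at this

/-- If `φ` has odd order and moves `g` by a fixed element, it fixes `g`. -/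
theorem fix_of_moves_by_fixed [Finite U] (hU : IsPGroup 2 U) {φ : MulAut U}
    (hodd : Odd (orderOf φ)) {g c : U} (hc : φ c = c) (hg : φ g = g * c) : φ g = g := by
  have key : ∀ j : ℕ, (φ ^ j) g = g * c ^ j := by
    intro j
    induction j with
    | zero => simp
    | succ j ih =>
      rw [pow_succ', MulAut.mul_apply, ih, map_mul, map_pow, hc, hg, pow_succ', mul_assoc]
  have h1 := key (orderOf φ)
  rw [pow_orderOf_eq_one] at h1
  have h2 : c ^ orderOf φ = 1 := left_eq_mul.1 h1
  have hco : orderOf c = 1 := by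
    obtain ⟨a, ha⟩ := (isPGroup_iff_orderOf_dvd_pow.1 hU) c
    refine Nat.eq_one_of_dvd_coprimes ?_ (orderOf_dvd_of_pow_eq_one h2) ha
    exact Nat.Coprime.pow_right a (Nat.coprime_two_right.2 hodd)
  rw [orderOf_eq_one_iff] at hco
  rw [hg, hco, mul_one]

/-- An automorphism of odd order of a finite 2-group fixes every cyclic subgroup it preserves. -/
theorem fix_cyclic [Finite U] (hU : IsPGroup 2 U) {φ : MulAut U} (hodd : Odd (orderOf φ)) {g : U}
    (hg : φ g ∈ Subgroup.zpowers g) : φ g = g := by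
  have : Fact (Nat.Prime 2) := ⟨Nat.prime_two⟩
  obtain ⟨a, ha⟩ := IsPGroup.iff_orderOf.1 hU g
  obtain ⟨r, hr⟩ := Subgroup.mem_zpowers_iff.1 hg
  have key : ∀ j : ℕ, (φ ^ j) g = g ^ (r ^ j) := by
    intro j
    induction j with
    | zero => simp
    | succ j ih => rw [pow_succ', MulAut.mul_apply, ih, map_zpow, ← hr, ← zpow_mul, pow_succ, mul_comm]
  have h1 := key (orderOf φ)
  rw [pow_orderOf_eq_one, MulAut.one_apply] at h1
  have hpos : 0 < orderOf φ := hodd.pos
  rcases a with _ | a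
  · rw [pow_zero, orderOf_eq_one_iff] at ha
    rw [← hr, ha, one_zpow]
  have hmod : (r : ZMod (2 ^ (a + 1))) ^ orderOf φ = 1 := by
    have := zpow_eq_zpow_iff_modEq.1 ((zpow_one g).trans h1)
    rw [ha, ← ZMod.intCast_eq_intCast_iff] at this
    push_cast at this
    exact this.symm
  have hu : IsUnit (r : ZMod (2 ^ (a + 1))) := IsUnit.of_pow_eq_one hmod hpos.ne'
  have hone : hu.unit = 1 := by
    rw [← orderOf_eq_one_iff]
    refine Nat.eq_one_of_dvd_coprimes (a := orderOf φ) (b := 2 ^ a) ?_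
      (orderOf_dvd_of_pow_eq_one (Units.ext (by simpa using hmod))) ?_
    · exact Nat.Coprime.pow_right a (Nat.coprime_two_right.2 hodd)
    · have h := orderOf_dvd_natCard hu.unit
      rw [Nat.card_eq_fintype_card, ZMod.card_units_eq_totient,
        Nat.totient_prime_pow Nat.prime_two (Nat.succ_pos a)] at h
      simpa using h
  have hr1 : (r : ZMod (2 ^ (a + 1))) = ((1 : ℤ) : ZMod (2 ^ (a + 1))) := by
    push_cast
    calc (r : ZMod (2 ^ (a + 1))) = (hu.unit : ZMod (2 ^ (a + 1))) := rfl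
      _ = 1 := by rw [hone, Units.val_one]
  rw [← hr]
  conv_rhs => rw [← zpow_one g]
  rw [zpow_eq_zpow_iff_modEq, ha]
  exact_mod_cast (ZMod.intCast_eq_intCast_iff r 1 (2 ^ (a + 1))).1 hr1

/-- An automorphism of odd order fixes `g` when only two cyclic subgroups are possible images of
`⟨g⟩`. -/
theorem fix_cyclic_of_two [Finite U] (hU : IsPGroup 2 U) {φ : MulAut U} (hodd : Odd (orderOf φ))
    {g g' : U} (hord : orderOf g' = orderOf g)
    (h : ∀ f : MulAut U, f g ∈ Subgroup.zpowers g ∨ f g ∈ Subgroup.zpowers g') : φ g = g := by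
  refine fix_cyclic hU hodd ?_
  by_contra hcon
  have hsq : φ (φ g) ∉ Subgroup.zpowers g := fun hm =>
    hcon (mapsTo_of_sq hodd (W := (Subgroup.zpowers g : Set U)) (fun w hw => by
      obtain ⟨k, rfl⟩ := Subgroup.mem_zpowers_iff.1 hw
      rw [map_zpow, map_zpow]; exact zpow_mem hm k) g (Subgroup.mem_zpowers g))
  have h1 := (h φ).resolve_left hcon
  have h2 : φ (φ g) ∈ Subgroup.zpowers g' := by
    have := (h (φ * φ)).resolve_left hsq
    exact this
  have hoφ : ∀ x : U, orderOf (φ x) = orderOf x := fun x =>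
    orderOf_injective φ.toMonoidHom φ.injective x
  have e2 : Subgroup.zpowers (φ (φ g)) = Subgroup.zpowers g' :=
    Subgroup.eq_of_le_of_card_ge (Subgroup.zpowers_le.2 h2)
      (by rw [Nat.card_zpowers, Nat.card_zpowers, hoφ, hoφ, hord])
  rw [← e2] at h1
  obtain ⟨k, hk⟩ := Subgroup.mem_zpowers_iff.1 h1
  rw [← map_zpow] at hk
  have h3 : g ∈ Subgroup.zpowers (φ g) := ⟨k, φ.injective hk⟩
  have e1 : Subgroup.zpowers g = Subgroup.zpowers (φ g) :=
    Subgroup.eq_of_le_of_card_ge (Subgroup.zpowers_le.2 h3)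
      (by rw [Nat.card_zpowers, Nat.card_zpowers, hoφ])
  exact hcon (e1 ▸ Subgroup.mem_zpowers (φ g))

end Cfsg.Agent.Lib.Involutions
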