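import Mathlib
import Cfsg.Agent.Lib.Involutions.BaerSuzuki

/-!
# Automisers permuting three cyclic subgroups

For a four-group or a quaternion group of order eight, `N(V)/V C(V)` permutes faithfully the
three cyclic subgroups generated by `c 0`, `c 1`, `c 2`.
-/

namespace Cfsg.Agent.Lib.Involutions

variable {G : Type*} [Group G]

/-- Three elements of `V`, up to inversion, permuted faithfully by `N(V)/(V C(V))`. -/
structure Three (V : Subgroup G) where
  c : Fin 3 → G
  mem : ∀ m, c m ∈ V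
  sep : ∀ m m', (c m = c m' ∨ c m = (c m')⁻¹) → m = m'
  cases : ∀ g ∈ Subgroup.normalizer (V : Set G), ∀ m,
    ∃ m', g * c m * g⁻¹ = c m' ∨ g * c m * g⁻¹ = (c m')⁻¹
  inner : ∀ v ∈ V, ∀ m, v * c m * v⁻¹ = c m ∨ v * c m * v⁻¹ = (c m)⁻¹
  faithful : ∀ g ∈ Subgroup.normalizer (V : Set G),
    (∀ m, g * c m * g⁻¹ = c m ∨ g * c m * g⁻¹ = (c m)⁻¹) → g ∈ V ⊔ Subgroup.centralizer (V : Set G)
  prod : c 2 = c 0 * c 1

/-- The odd part of an element. -/
theorem exists_two_pow_odd [Finite G] (g : G) : ∃ k : ℕ, Odd (orderOf (g ^ 2 ^ k)) := by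
  obtain ⟨k, m, hm, hk⟩ := Nat.exists_eq_two_pow_mul_odd (orderOf_pos g).ne'
  refine ⟨k, ?_⟩
  rw [orderOf_pow, hk, Nat.gcd_mul_right_left, Nat.mul_div_cancel_left _ (by positivity)]
  exact hm

/-- A normal subgroup of index two contains the elements of odd order. -/
theorem mem_of_odd_orderOf {K : Subgroup G} (hK : K.index = 2) {w : G} (hw : Odd (orderOf w)) :
    w ∈ K := by
  obtain ⟨k, hk⟩ := hw
  have h1 : w ^ (k + k) ∈ K := by
    rw [pow_add]; exact (Subgroup.mul_mem_iff_of_index_two hK).2 Iff.rfl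
  have h2 : w = (w ^ (k + k))⁻¹ := by
    refine eq_inv_of_mul_eq_one_left ?_
    rw [← pow_succ', ← two_mul, ← hk, pow_orderOf_eq_one]
  rw [h2]
  exact inv_mem h1

namespace Three

variable {V : Subgroup G} (t : Three V)

theorem uniq {g : G} {m a b : Fin 3}
    (ha : g * t.c m * g⁻¹ = t.c a ∨ g * t.c m * g⁻¹ = (t.c a)⁻¹)
    (hb : g * t.c m * g⁻¹ = t.c b ∨ g * t.c m * g⁻¹ = (t.c b)⁻¹) : a = b := by
  apply t.sep
  rcases ha with ha | ha <;> rcases hb with hb | hb <;> rw [ha] at hb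
  · exact Or.inl hb
  · exact Or.inr hb
  · exact Or.inr (inv_eq_iff_eq_inv.1 hb)
  · exact Or.inl (inv_injective hb)

/-- The image of the `m`th subgroup. -/
noncomputable def img (g : Subgroup.normalizer (V : Set G)) (m : Fin 3) : Fin 3 :=
  (t.cases g g.2 m).choose

theorem img_spec (g : Subgroup.normalizer (V : Set G)) (m : Fin 3) :
    (g : G) * t.c m * (g : G)⁻¹ = t.c (t.img g m) ∨
      (g : G) * t.c m * (g : G)⁻¹ = (t.c (t.img g m))⁻¹ :=
  (t.cases g g.2 m).choose_spec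

theorem img_eq_iff (g : Subgroup.normalizer (V : Set G)) (m m' : Fin 3) :
    t.img g m = m' ↔ ((g : G) * t.c m * (g : G)⁻¹ = t.c m' ∨
      (g : G) * t.c m * (g : G)⁻¹ = (t.c m')⁻¹) :=
  ⟨fun h => h ▸ t.img_spec g m, fun h => t.uniq (t.img_spec g m) h⟩

theorem img_mul (g g' : Subgroup.normalizer (V : Set G)) (m : Fin 3) :
    t.img (g * g') m = t.img g (t.img g' m) := by
  rw [t.img_eq_iff]
  have e : ((g * g' : Subgroup.normalizer (V : Set G)) : G) * t.c m *
      ((g * g' : Subgroup.normalizer (V : Set G)) : G)⁻¹ =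
      (g : G) * ((g' : G) * t.c m * (g' : G)⁻¹) * (g : G)⁻¹ := by
    push_cast; group
  rw [e]
  rcases t.img_spec g' m with h | h <;> rw [h] <;>
    rcases t.img_spec g (t.img g' m) with h' | h'
  · exact Or.inl h'
  · exact Or.inr h'
  · exact Or.inr (by rw [← h']; group)
  · exact Or.inl (by rw [← inv_inj, ← h']; group)

theorem img_one (m : Fin 3) : t.img 1 m = m :=
  (t.img_eq_iff 1 m m).2 (Or.inl (by simp))

/-- The permutation action of the normalizer on the three subgroups. -/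
noncomputable def perm : Subgroup.normalizer (V : Set G) →* Equiv.Perm (Fin 3) where
  toFun g :=
    { toFun := t.img g
      invFun := t.img g⁻¹
      left_inv := fun m => by rw [← t.img_mul, inv_mul_cancel, t.img_one]
      right_inv := fun m => by rw [← t.img_mul, mul_inv_cancel, t.img_one] }
  map_one' := Equiv.ext t.img_one
  map_mul' g g' := Equiv.ext (t.img_mul g g')

theorem perm_apply (g : Subgroup.normalizer (V : Set G)) (m : Fin 3) : t.perm g m = t.img g m := rfl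

theorem ker_perm :
    t.perm.ker = (V ⊔ Subgroup.centralizer (V : Set G)).subgroupOf (Subgroup.normalizer (V : Set G)) := by
  apply le_antisymm
  · intro g hg
    rw [Subgroup.mem_subgroupOf]
    refine t.faithful g g.2 fun m => (t.img_eq_iff g m m).1 ?_
    rw [MonoidHom.mem_ker] at hg
    rw [← perm_apply, hg, Equiv.Perm.one_apply]
  · intro g hg
    rw [Subgroup.mem_subgroupOf] at hg
    have hle : V ⊔ Subgroup.centralizer (V : Set G) ≤
        (t.perm.ker.map (Subgroup.normalizer (V : Set G)).subtype) := by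
      refine sup_le (fun v hv => ?_) (fun v hv => ?_)
      · refine ⟨⟨v, Subgroup.le_normalizer hv⟩, Equiv.ext fun m => ?_, rfl⟩
        exact (t.img_eq_iff _ m m).2 (t.inner v hv m)
      · refine ⟨⟨v, Subgroup.centralizer_le_normalizer _ hv⟩, Equiv.ext fun m => ?_, rfl⟩
        exact (t.img_eq_iff _ m m).2 (Or.inl (by
          show v * t.c m * v⁻¹ = t.c m
          rw [← Subgroup.mem_centralizer_iff.1 hv _ (t.mem m), mul_inv_cancel_right]))
    obtain ⟨g', hg', e⟩ := hle hg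
    rwa [← Subtype.coe_injective e]

theorem fixes_of_mem {g : G} (hg : g ∈ Subgroup.normalizer (V : Set G))
    (hgc : g ∈ V ⊔ Subgroup.centralizer (V : Set G)) (m : Fin 3) :
    g * t.c m * g⁻¹ = t.c m ∨ g * t.c m * g⁻¹ = (t.c m)⁻¹ := by
  have hk : (⟨g, hg⟩ : Subgroup.normalizer (V : Set G)) ∈ t.perm.ker := by
    rw [t.ker_perm, Subgroup.mem_subgroupOf]; exact hgc
  refine (t.img_eq_iff ⟨g, hg⟩ m m).1 ?_
  rw [← perm_apply, MonoidHom.mem_ker.1 hk, Equiv.Perm.one_apply]

theorem relIndex_eq_card_range :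
    (V ⊔ Subgroup.centralizer (V : Set G)).relIndex (Subgroup.normalizer (V : Set G)) =
      Nat.card t.perm.range := by
  rw [Subgroup.relIndex, ← t.ker_perm, Subgroup.index_ker]

theorem card_range_dvd : Nat.card t.perm.range ∣ 6 := by
  have := Subgroup.card_subgroup_dvd_card t.perm.range
  simpa [Nat.card_eq_fintype_card, Fintype.card_perm, Nat.factorial] using this

theorem perm_ne_one_of_moves {g : G} (hg : g ∈ Subgroup.normalizer (V : Set G)) {m m' : Fin 3}
    (hne : m ≠ m') (hm : g * t.c m * g⁻¹ = t.c m' ∨ g * t.c m * g⁻¹ = (t.c m')⁻¹) :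
    t.perm ⟨g, hg⟩ ≠ 1 := fun h => hne (by
  have := (t.img_eq_iff ⟨g, hg⟩ m m').2 hm
  rwa [← perm_apply, h, Equiv.Perm.one_apply] at this)

theorem two_or_six [Finite G] {g : G} (hg : g ∈ Subgroup.normalizer (V : Set G)) {k : ℕ}
    (hk : g ^ 2 ^ k = 1) {m m' : Fin 3} (hne : m ≠ m')
    (hm : g * t.c m * g⁻¹ = t.c m' ∨ g * t.c m * g⁻¹ = (t.c m')⁻¹) :
    (V ⊔ Subgroup.centralizer (V : Set G)).relIndex (Subgroup.normalizer (V : Set G)) = 2 ∨
    (V ⊔ Subgroup.centralizer (V : Set G)).relIndex (Subgroup.normalizer (V : Set G)) = 6 := by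
  rw [t.relIndex_eq_card_range]
  have h1 := t.card_range_dvd
  have hne1 := t.perm_ne_one_of_moves hg hne hm
  have h2 : 2 ∣ Nat.card t.perm.range := by
    have hpow : t.perm ⟨g, hg⟩ ^ 2 ^ k = 1 := by
      rw [← map_pow, show (⟨g, hg⟩ : Subgroup.normalizer (V : Set G)) ^ 2 ^ k = 1 from
        Subtype.ext hk, map_one]
    obtain ⟨j, -, hj⟩ := (Nat.dvd_prime_pow Nat.prime_two).1 (orderOf_dvd_of_pow_eq_one hpow)
    have hj0 : j ≠ 0 := fun h0 => hne1 (orderOf_eq_one_iff.1 (by rw [hj, h0, pow_zero]))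
    refine dvd_trans ?_ (t.perm.range.orderOf_dvd_natCard (x := t.perm ⟨g, hg⟩) ⟨_, rfl⟩)
    rw [hj]
    exact dvd_pow_self 2 hj0
  have h3 := Nat.le_of_dvd (by norm_num) h1
  interval_cases hh : Nat.card t.perm.range <;> omega

/-- Two different nontrivial permutations force the full symmetric group. -/
theorem eq_six [Finite G] {g u : G} (hg : g ∈ Subgroup.normalizer (V : Set G))
    (hu : u ∈ Subgroup.normalizer (V : Set G)) {k : ℕ} (hk : g ^ 2 ^ k = 1)
    {m m' : Fin 3} (hne : m ≠ m')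
    (hm : g * t.c m * g⁻¹ = t.c m' ∨ g * t.c m * g⁻¹ = (t.c m')⁻¹)
    (huc : u ∉ V ⊔ Subgroup.centralizer (V : Set G))
    (hum : u * t.c m * u⁻¹ = t.c m ∨ u * t.c m * u⁻¹ = (t.c m)⁻¹) :
    (V ⊔ Subgroup.centralizer (V : Set G)).relIndex (Subgroup.normalizer (V : Set G)) = 6 := by
  refine (t.two_or_six hg hk hne hm).resolve_left fun h2 => ?_
  rw [t.relIndex_eq_card_range, Nat.card_eq_two_iff' (1 : t.perm.range)] at h2
  obtain ⟨e, -, he⟩ := h2
  have h1 := t.perm_ne_one_of_moves hg hne hm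
  have h2' : t.perm ⟨u, hu⟩ ≠ 1 := fun h => huc (by
    have h' : (⟨u, hu⟩ : Subgroup.normalizer (V : Set G)) ∈ t.perm.ker := h
    rwa [t.ker_perm, Subgroup.mem_subgroupOf] at h')
  have ea := he ⟨_, ⟨g, hg⟩, rfl⟩ (fun h => h1 (congrArg Subtype.val h))
  have eb := he ⟨_, ⟨u, hu⟩, rfl⟩ (fun h => h2' (congrArg Subtype.val h))
  have : t.perm ⟨g, hg⟩ m = t.perm ⟨u, hu⟩ m := by
    have e' : t.perm ⟨g, hg⟩ = t.perm ⟨u, hu⟩ := congrArg Subtype.val (ea.trans eb.symm)
    rw [e']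
  rw [perm_apply, perm_apply, (t.img_eq_iff ⟨g, hg⟩ m m').2 hm,
    (t.img_eq_iff ⟨u, hu⟩ m m).2 hum] at this
  exact hne this.symm

theorem perm_surjective
    (h6 : (V ⊔ Subgroup.centralizer (V : Set G)).relIndex (Subgroup.normalizer (V : Set G)) = 6) :
    Function.Surjective t.perm := by
  rw [← MonoidHom.range_eq_top]
  apply Subgroup.eq_top_of_card_eq
  rw [← t.relIndex_eq_card_range, h6, Nat.card_eq_fintype_card, Fintype.card_perm]
  rfl

theorem transitive
    (h6 : (V ⊔ Subgroup.centralizer (V : Set G)).relIndex (Subgroup.normalizer (V : Set G)) = 6)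
    (m m' : Fin 3) :
    ∃ g : G, g * t.c m * g⁻¹ = t.c m' ∨ g * t.c m * g⁻¹ = (t.c m')⁻¹ := by
  obtain ⟨g, hg⟩ := t.perm_surjective h6 (Equiv.swap m m')
  refine ⟨g, (t.img_eq_iff g m m').1 ?_⟩
  rw [← perm_apply, hg, Equiv.swap_apply_left]

/-- A subgroup of index two in `K` contains the elements `v m`, when the odd elements of `N(V)`
rotate their classes modulo it. -/
theorem mem_of_six_gen [Finite G]
    (h6 : (V ⊔ Subgroup.centralizer (V : Set G)).relIndex (Subgroup.normalizer (V : Set G)) = 6)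
    {K : Subgroup G} (hK : ∀ w : G, Odd (orderOf w) → w ∈ K) {H : Subgroup K} (hH : H.index = 2)
    (v : Fin 3 → K) (hv : v 2 = v 0 * v 1)
    (hmove : ∀ (w : Subgroup.normalizer (V : Set G)) (hw : (w : G) ∈ K) (m : Fin 3),
      ((⟨(w : G), hw⟩ : K) * v m * (⟨(w : G), hw⟩ : K)⁻¹ ∈ H ↔ v (t.perm w m) ∈ H))
    (m : Fin 3) : v m ∈ H := by
  obtain ⟨g, hg⟩ := t.perm_surjective h6 (finRotate 3)
  obtain ⟨k, hk⟩ := exists_two_pow_odd (g : G)
  set w := g ^ 2 ^ k with hw
  have hwK : (w : G) ∈ K := hK _ (by rw [hw, SubmonoidClass.coe_pow]; exact hk)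
  have hperm : t.perm w = finRotate 3 ^ 2 ^ k := by rw [hw, map_pow, hg]
  have hinv : ∀ m, (v m ∈ H ↔ v (t.perm w m) ∈ H) := by
    intro m
    have hn := Subgroup.normal_of_index_eq_two hH
    rw [← hmove w hwK m, hn.mem_comm_iff, inv_mul_cancel_left]
  have horb : ∀ a b : Fin 3, (v a ∈ H ↔ v b ∈ H) := by
    have hfp : ∀ a, t.perm w a ≠ a ∧ t.perm w (t.perm w a) ≠ a := by
      have h3 : finRotate 3 ^ 3 = 1 := by decide
      have hmod : 2 ^ k % 3 = 1 ∨ 2 ^ k % 3 = 2 := by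
        have h1 : 2 ^ k % 3 ≠ 0 := fun h0 => by
          have := Nat.Prime.dvd_of_dvd_pow Nat.prime_three (Nat.dvd_of_mod_eq_zero h0)
          norm_num at this
        omega
      rw [hperm, pow_eq_pow_mod (2 ^ k) h3]
      rcases hmod with h | h <;> rw [h] <;> decide
    intro a b
    have key : b = a ∨ b = t.perm w a ∨ b = t.perm w (t.perm w a) := by
      obtain ⟨p1, p2⟩ := hfp a
      obtain ⟨q1, -⟩ := hfp (t.perm w a)
      omega
    rcases key with rfl | rfl | rfl
    · exact Iff.rfl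
    · exact hinv a
    · exact (hinv a).trans (hinv _)
  by_contra hm
  have hn : ∀ a, v a ∉ H := fun a ha => hm ((horb a m).1 ha)
  refine hn 2 ?_
  rw [hv]
  exact (Subgroup.mul_mem_iff_of_index_two hH).2 (iff_of_false (hn 0) (hn 1))

/-- A subgroup of index two in a subgroup containing the odd elements contains the three elements. -/
theorem mem_of_six_of_odd [Finite G]
    (h6 : (V ⊔ Subgroup.centralizer (V : Set G)).relIndex (Subgroup.normalizer (V : Set G)) = 6)
    {K : Subgroup G} (hK : ∀ w : G, Odd (orderOf w) → w ∈ K) (hmem : ∀ m, t.c m ∈ K)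
    {H : Subgroup K} (hH : H.index = 2) (m : Fin 3) : (⟨t.c m, hmem m⟩ : K) ∈ H := by
  refine t.mem_of_six_gen h6 hK hH (fun m => ⟨t.c m, hmem m⟩) (Subtype.ext t.prod) (fun w hw m => ?_) m
  rcases t.img_spec w m with e | e <;> rw [perm_apply]
  · rw [show (⟨(w : G), hw⟩ : K) * ⟨t.c m, hmem m⟩ * (⟨(w : G), hw⟩ : K)⁻¹ =
      ⟨t.c (t.img w m), hmem _⟩ from Subtype.ext e]
  · rw [show (⟨(w : G), hw⟩ : K) * ⟨t.c m, hmem m⟩ * (⟨(w : G), hw⟩ : K)⁻¹ =
      (⟨t.c (t.img w m), hmem _⟩ : K)⁻¹ from Subtype.ext e, inv_mem_iff]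

/-- A subgroup of index two in a normal subgroup of index at most two contains the three elements. -/
theorem mem_of_six [Finite G]
    (h6 : (V ⊔ Subgroup.centralizer (V : Set G)).relIndex (Subgroup.normalizer (V : Set G)) = 6)
    {K : Subgroup G} (hK : K.index = 2 ∨ K = ⊤) (hmem : ∀ m, t.c m ∈ K)
    {H : Subgroup K} (hH : H.index = 2) (m : Fin 3) : (⟨t.c m, hmem m⟩ : K) ∈ H :=
  t.mem_of_six_of_odd h6 (fun _ hw => hK.elim (fun hK => mem_of_odd_orderOf hK hw)
    fun hK => hK ▸ Subgroup.mem_top _) hmem hH m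

end Three

end Cfsg.Agent.Lib.Involutions
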