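import Mathlib
import Cfsg.Agent.Lib.Involutions.ThreeAction
import Cfsg.Agent.Lib.Involutions.OddAut
import Cfsg.Agent.Lib.FusionControl.Centric
import Cfsg.Agent.Lib.Transfer.Basic
import Cfsg.Agent.Lib.Coprime.Basic

/-!
# Tools for automisers of 2-subgroups
-/

namespace Cfsg.Agent.Lib.Involutions

variable {G : Type*} [Group G]

open Cfsg.Agent.Lib.FusionControl in
/-- A chain preserves every property preserved by its steps. -/
theorem chain_preserves {𝓕 : Set (Subgroup G)} {A : Set G} {g : G} (P : G → Prop)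
    (h : Chain 𝓕 A g)
    (hstep : ∀ T ∈ 𝓕, ∀ x ∈ Subgroup.normalizer ((T : Subgroup G) : Set G), ∀ a ∈ T, P a →
      P (x * a * x⁻¹)) : ∀ a ∈ A, P a → P (g * a * g⁻¹) := by
  induction h with
  | step T hT hA hx => exact fun a ha hP => hstep T hT _ hx a (hA ha) hP
  | @comp A x y _ _ ih1 ih2 =>
    intro a ha hP
    have := ih2 _ ⟨a, ha, rfl⟩ (ih1 a ha hP)
    rwa [show y * x * a * (y * x)⁻¹ = y * (x * a * x⁻¹) * y⁻¹ by group]

/-- `NoOddAut` is invariant under isomorphism. -/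
theorem noOddAut_congr {A B : Type*} [Group A] [Group B] (e : A ≃* B) (h : NoOddAut A) :
    NoOddAut B := by
  intro φ hφ
  have h1 : (MulAut.congr e.symm) φ = 1 := h _ (by rwa [MulEquiv.orderOf_eq])
  exact (MulEquiv.map_eq_one_iff _).1 h1

variable [Finite G]

/-- The parts of an element of a normalizer. -/
theorem normalizer_parts {V : Subgroup G} {g : G} (hg : g ∈ Subgroup.normalizer (V : Set G)) :
    ∃ a b : G, a ∈ Subgroup.zpowers g ∧ b ∈ Subgroup.zpowers g ∧
      a ∈ Subgroup.normalizer (V : Set G) ∧ b ∈ Subgroup.normalizer (V : Set G) ∧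
      Odd (orderOf a) ∧ (∃ k, orderOf b = 2 ^ k) ∧ g = a * b := by
  have : Fact (Nat.Prime 2) := ⟨Nat.prime_two⟩
  obtain ⟨a, b, ha, hb, hodd, hk, he⟩ := Cfsg.Agent.Lib.Transfer.exists_pPart_decomp (p := 2) g
  exact ⟨a, b, ha, hb, (Subgroup.zpowers_le.2 hg) ha, (Subgroup.zpowers_le.2 hg) hb,
    Nat.coprime_two_right.1 hodd, hk, he⟩

/-- A 2-element normalizing a 2-subgroup lies with it in a Sylow subgroup. -/
theorem exists_sylow_over {V : Subgroup G} (hV : IsPGroup 2 V) {b : G}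
    (hb : b ∈ Subgroup.normalizer (V : Set G)) {k : ℕ} (hk : orderOf b = 2 ^ k) :
    ∃ S' : Sylow 2 G, V ≤ (S' : Subgroup G) ∧ b ∈ (S' : Subgroup G) := by
  have hz : IsPGroup 2 (Subgroup.zpowers b) := IsPGroup.of_card (by rw [Nat.card_zpowers, hk])
  obtain ⟨S', hS'⟩ :=
    (hz.to_sup_of_normal_right' hV (Subgroup.zpowers_le.2 hb)).exists_le_sylow
  exact ⟨S', le_trans le_sup_right hS', hS' (Subgroup.mem_sup_left (Subgroup.mem_zpowers b))⟩

/-- Conjugation by an element of odd order, as an automorphism. -/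
theorem exists_odd_aut {V : Subgroup G} {a : G} (ha : a ∈ Subgroup.normalizer (V : Set G))
    (hodd : Odd (orderOf a)) :
    ∃ φ : MulAut V, Odd (orderOf φ) ∧ ∀ v : V, ((φ v : V) : G) = a * (v : G) * a⁻¹ := by
  refine ⟨Subgroup.normalizerMonoidHom V ⟨a, ha⟩, ?_, fun v => rfl⟩
  refine hodd.of_dvd_nat ?_
  rw [← Subgroup.orderOf_mk a ha]
  exact orderOf_map_dvd _ _

omit [Finite G] in
theorem centralizer_normal_in_normalizer (V : Subgroup G) :
    ((Subgroup.centralizer (V : Set G)).subgroupOf (Subgroup.normalizer (V : Set G))).Normal :=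
  (Subgroup.normal_subgroupOf_iff_le_normalizer (Subgroup.centralizer_le_normalizer _)).2
    (Cfsg.Agent.Lib.FusionControl.normalizer_le_normalizer_centralizer V)

/-- Without automorphisms of odd order the normalizer acts as its Sylow subgroup. -/
theorem acts_as_sylow_of_noOddAut {S U : Subgroup G}
    (hE : Cfsg.Agent.Lib.FusionControl.Extr 2 S U) (hA : NoOddAut U) {g : G}
    (hg : g ∈ Subgroup.normalizer (U : Set G)) :
    ∃ s ∈ S, ∀ a ∈ U, g * a * g⁻¹ = s * a * s⁻¹ := by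
  set N := Subgroup.normalizer (U : Set G)
  set C := Subgroup.centralizer (U : Set G) with hC
  have hCN : C ≤ N := Subgroup.centralizer_le_normalizer _
  have hn : (C.subgroupOf N).Normal := centralizer_normal_in_normalizer U
  have hq : IsPGroup 2 (N ⧸ C.subgroupOf N) := by
    intro q
    obtain ⟨⟨w, hw⟩, rfl⟩ := QuotientGroup.mk_surjective q
    obtain ⟨a, b, -, -, haN, hbN, hodd, ⟨k, hk⟩, rfl⟩ := normalizer_parts hw
    refine ⟨k, ?_⟩
    obtain ⟨φ, hφ, hφv⟩ := exists_odd_aut haN hodd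
    have hac : (⟨a, haN⟩ : N) ∈ C.subgroupOf N := by
      rw [Subgroup.mem_subgroupOf, Subgroup.mem_centralizer_iff]
      intro v hv
      have := hφv ⟨v, hv⟩
      rw [hA φ hφ, MulAut.one_apply] at this
      exact (mul_inv_eq_iff_eq_mul.1 this.symm).symm
    have e : (QuotientGroup.mk (⟨a * b, hw⟩ : N) : N ⧸ C.subgroupOf N) =
        QuotientGroup.mk (⟨b, hbN⟩ : N) := by
      rw [show (⟨a * b, hw⟩ : N) = ⟨a, haN⟩ * ⟨b, hbN⟩ from rfl, QuotientGroup.mk_mul,
        (QuotientGroup.eq_one_iff _).2 hac, one_mul]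
    rw [e, ← QuotientGroup.mk_pow, QuotientGroup.eq_one_iff]
    have : (⟨b, hbN⟩ : N) ^ 2 ^ k = 1 := Subtype.ext (by
      rw [SubmonoidClass.coe_pow, Subgroup.coe_one, ← hk, pow_orderOf_eq_one])
    rw [this]
    exact one_mem _
  set R := Cfsg.Agent.Lib.FusionControl.nS S U with hR
  have hRN : R ≤ N := inf_le_right
  have : Fact (Nat.Prime 2) := ⟨Nat.prime_two⟩
  obtain ⟨j, hj⟩ := IsPGroup.iff_card.1 hq
  rw [← Subgroup.index_eq_card] at hj
  have h1 : (C ⊔ R).relIndex N ∣ 2 ^ j := hj ▸ Subgroup.relIndex_dvd_of_le_left _ le_sup_left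
  have h2 : ¬ 2 ∣ (C ⊔ R).relIndex N := fun h =>
    hE.2 (h.trans (Subgroup.relIndex_dvd_of_le_left _ le_sup_right))
  obtain ⟨i, -, hi⟩ := (Nat.dvd_prime_pow Nat.prime_two).1 h1
  rw [hi] at h2
  have hi0 : i = 0 := by
    by_contra hi0
    exact h2 (dvd_pow_self 2 hi0)
  rw [hi0, pow_zero, Subgroup.relIndex_eq_one] at hi
  obtain ⟨c, hc, s, hs, rfl⟩ := Cfsg.Agent.Lib.Coprime.exists_mul_of_mem_sup
    (hRN.trans (Cfsg.Agent.Lib.FusionControl.normalizer_le_normalizer_centralizer U)) (hi hg)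
  refine ⟨s, hs.1, fun a ha => ?_⟩
  have hsa : s * a * s⁻¹ ∈ U := (Subgroup.mem_set_normalizer_iff.1 hs.2 a).1 ha
  rw [show c * s * a * (c * s)⁻¹ = c * (s * a * s⁻¹) * c⁻¹ by group,
    ← Subgroup.mem_centralizer_iff.1 hc _ hsa, mul_inv_cancel_right]

/-- If the automiser has order two modulo inner automorphisms it acts as a Sylow subgroup. -/
theorem Three.acts_as_sylow {V S : Subgroup G} (t : Three V) (hVS : V ≤ S)
    (h2 : (V ⊔ Subgroup.centralizer (V : Set G)).relIndex (Subgroup.normalizer (V : Set G)) = 2)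
    {b : G} (hbS : b ∈ S) (hbN : b ∈ Subgroup.normalizer (V : Set G)) {m m' : Fin 3}
    (hne : m ≠ m') (hm : b * t.c m * b⁻¹ = t.c m' ∨ b * t.c m * b⁻¹ = (t.c m')⁻¹)
    {g : G} (hg : g ∈ Subgroup.normalizer (V : Set G)) :
    ∃ s ∈ S, ∀ a ∈ V, g * a * g⁻¹ = s * a * s⁻¹ := by
  have hb : b ∉ V ⊔ Subgroup.centralizer (V : Set G) := fun h => by
    rcases t.fixes_of_mem hbN h m with e | e <;> rcases hm with e' | e' <;> rw [e'] at e
    · exact hne (t.sep m m' (Or.inl e.symm))
    · exact hne (t.sep m m' (Or.inr e.symm))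
    · exact hne.symm (t.sep m' m (Or.inr e))
    · exact hne.symm (t.sep m' m (Or.inl (inv_injective e)))
  have key : g ∈ V ⊔ Subgroup.centralizer (V : Set G) ∨
      g * b ∈ V ⊔ Subgroup.centralizer (V : Set G) := by
    by_contra hcon
    push Not at hcon
    exact hcon.2 ((Subgroup.mul_mem_iff_of_index_two (h := (h2 : ((V ⊔
      Subgroup.centralizer (V : Set G)).subgroupOf (Subgroup.normalizer (V : Set G))).index = 2))
      (a := ⟨g, hg⟩) (b := ⟨b, hbN⟩)).2 (iff_of_false hcon.1 hb))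
  have main : ∀ w ∈ V ⊔ Subgroup.centralizer (V : Set G), ∀ u ∈ Subgroup.normalizer (V : Set G),
      ∃ v ∈ V, ∀ a ∈ V, w * u * a * (w * u)⁻¹ = v * u * a * (v * u)⁻¹ := by
    intro w hw u hu
    rw [sup_comm] at hw
    obtain ⟨c, hc, v, hv, rfl⟩ := Cfsg.Agent.Lib.Coprime.exists_mul_of_mem_sup
      (Subgroup.le_normalizer.trans
        (Cfsg.Agent.Lib.FusionControl.normalizer_le_normalizer_centralizer V)) hw
    refine ⟨v, hv, fun a ha => ?_⟩
    have hva : v * u * a * (v * u)⁻¹ ∈ V :=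
      (Subgroup.mem_set_normalizer_iff.1 (mul_mem (Subgroup.le_normalizer hv) hu) a).1 ha
    rw [show c * v * u * a * (c * v * u)⁻¹ = c * (v * u * a * (v * u)⁻¹) * c⁻¹ by group,
      ← Subgroup.mem_centralizer_iff.1 hc _ hva, mul_inv_cancel_right]
  rcases key with h | h
  · obtain ⟨v, hv, e⟩ := main g h 1 (one_mem _)
    exact ⟨v, hVS hv, fun a ha => by simpa using e a ha⟩
  · obtain ⟨v, hv, e⟩ := main (g * b) h b⁻¹ (inv_mem hbN)
    refine ⟨v * b⁻¹, mul_mem (hVS hv) (inv_mem hbS), fun a ha => ?_⟩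
    simpa using e a ha

omit [Finite G] in
theorem centralizer_map_conj (V : Subgroup G) (g : G) :
    (Subgroup.centralizer (V : Set G)).map (MulAut.conj g).toMonoidHom =
      Subgroup.centralizer ((V.map (MulAut.conj g).toMonoidHom : Subgroup G) : Set G) := by
  ext c
  rw [Subgroup.mem_map_equiv, MulAut.conj_symm_apply, Subgroup.mem_centralizer_iff,
    Subgroup.mem_centralizer_iff]
  constructor
  · rintro hc _ ⟨v, hv, rfl⟩
    show g * v * g⁻¹ * c = c * (g * v * g⁻¹)
    have := hc v hv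
    calc g * v * g⁻¹ * c = g * (v * (g⁻¹ * c * g)) * g⁻¹ := by group
      _ = g * (g⁻¹ * c * g * v) * g⁻¹ := by rw [this]
      _ = _ := by group
  · intro hc v hv
    have := hc _ ⟨v, hv, rfl⟩
    change g * v * g⁻¹ * c = c * (g * v * g⁻¹) at this
    calc v * (g⁻¹ * c * g) = g⁻¹ * (g * v * g⁻¹ * c) * g := by group
      _ = g⁻¹ * (c * (g * v * g⁻¹)) * g := by rw [this]
      _ = _ := by group

omit [Finite G] in
theorem relIndex_automizer_conj (V : Subgroup G) (g : G) :
    ((V.map (MulAut.conj g).toMonoidHom) ⊔ Subgroup.centralizer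
        ((V.map (MulAut.conj g).toMonoidHom : Subgroup G) : Set G)).relIndex
      (Subgroup.normalizer ((V.map (MulAut.conj g).toMonoidHom : Subgroup G) : Set G)) =
    (V ⊔ Subgroup.centralizer (V : Set G)).relIndex (Subgroup.normalizer (V : Set G)) := by
  rw [← centralizer_map_conj, ← Subgroup.map_sup, ← Subgroup.map_equiv_normalizer_eq,
    Subgroup.relIndex_map_map_of_injective _ _ (MulAut.conj g).injective]

end Cfsg.Agent.Lib.Involutions
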