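import Cfsg.Agent.Lib.Involutions.Basic
import Cfsg.Agent.Lib.Transfer.Basic
import Mathlib.GroupTheory.Transfer
import Mathlib.GroupTheory.Focal

/-!
# Transfer with controlled fusion, and counting classes from representatives
-/

namespace Cfsg.Agent.Lib.Involutions

variable {G : Type*} [Group G]

/-- If `φ` does not see the fusion of the powers of `h`, the transfer of `h` is `φ h ^ index`. -/
theorem transfer_eq_pow_of_map_eq [Finite G] {A : Type*} [CommGroup A] {H : Subgroup G}
    (φ : H →* A) (h : H)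
    (key : ∀ (k : ℕ) (g₀ : G) (hk : g₀⁻¹ * (h : G) ^ k * g₀ ∈ H),
      φ ⟨g₀⁻¹ * (h : G) ^ k * g₀, hk⟩ = φ h ^ k) :
    MonoidHom.transfer φ (h : G) = φ h ^ H.index := by
  classical
  have : Fintype (Quotient (MulAction.orbitRel (Subgroup.zpowers (h : G)) (G ⧸ H))) :=
    Fintype.ofFinite _
  rw [MonoidHom.transfer_eq_prod_quotient_orbitRel_zpowers_quot,
    Subgroup.index_eq_sum_minimalPeriod H (h : G), ← Finset.prod_pow_eq_pow_sum]
  exact Finset.prod_congr rfl fun q _ => key _ _ _

/-- Counting the conjugacy classes of elements of a given order from a system of representatives. -/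
theorem card_classes_eq_of_reps {n k : ℕ} (f : Fin k → G) (hf : ∀ i, orderOf (f i) = n)
    (hinj : ∀ i j, IsConj (f i) (f j) → i = j)
    (hall : ∀ t : G, orderOf t = n → ∃ i, IsConj (f i) t) :
    Nat.card {C : ConjClasses G // ∃ t : G, orderOf t = n ∧ ConjClasses.mk t = C} = k := by
  conv_rhs => rw [← Nat.card_fin k]
  symm
  refine Nat.card_eq_of_bijective (fun i => ⟨ConjClasses.mk (f i), f i, hf i, rfl⟩) ⟨?_, ?_⟩
  · intro i j h
    exact hinj i j (ConjClasses.mk_eq_mk_iff_isConj.1 (congrArg Subtype.val h))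
  · rintro ⟨C, t, ht, rfl⟩
    obtain ⟨i, hi⟩ := hall t ht
    exact ⟨i, Subtype.ext (ConjClasses.mk_eq_mk_iff_isConj.2 hi)⟩

/-- An element of the normalizer of a Sylow subgroup has its `p`-part in that subgroup; in
particular it is the product of an element of order prime to `p` and an element of the subgroup. -/
theorem exists_coprime_mul_of_mem_normalizer [Finite G] {p : ℕ} [hp : Fact p.Prime] (P : Sylow p G)
    {g : G} (hg : g ∈ Subgroup.normalizer ((P : Subgroup G) : Set G)) :
    ∃ a b : G, a ∈ Subgroup.normalizer ((P : Subgroup G) : Set G) ∧ b ∈ P ∧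
      Nat.Coprime (orderOf a) p ∧ g = a * b := by
  obtain ⟨a, b, ha, hb, hcop, ⟨k, hk⟩, he⟩ :=
    Cfsg.Agent.Lib.Transfer.exists_pPart_decomp (p := p) g
  have hbN := (Subgroup.zpowers_le.2 hg) hb
  refine ⟨a, b, (Subgroup.zpowers_le.2 hg) ha, ?_, hcop, he⟩
  have hz : IsPGroup p (Subgroup.zpowers b) :=
    IsPGroup.iff_card.2 ⟨k, by rw [Nat.card_zpowers, hk]⟩
  have h2 : Subgroup.zpowers b ⊓ Subgroup.normalizer ((P : Subgroup G) : Set G) =
      Subgroup.zpowers b ⊓ (P : Subgroup G) := hz.inf_normalizer_sylow P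
  have h3 : b ∈ Subgroup.zpowers b ⊓ (P : Subgroup G) := h2 ▸ ⟨Subgroup.mem_zpowers b, hbN⟩
  exact h3.2

end Cfsg.Agent.Lib.Involutions
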