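import Cfsg.Prelude.Def_CaseTheorems
import Cfsg.Agent.Lib.Involutions.TwoGroupRec
import Mathlib.RingTheory.Coprime.Lemmas

/-!
# Quasi-dihedral `2`-groups: normal forms and subgroups

`QDGen x y n` says that `x`, `y` are standard generators. Elements are `x ^ i` or `x ^ i * y`.
-/

namespace Cfsg.Agent.Lib.Involutions

variable {S : Type*} [Group S]

/-- The exponent `2^(n-1) - 1`. -/
def qdExp (n : ℕ) : ℤ := 2 ^ (n - 1) - 1

/-- Standard generators of a quasi-dihedral group. -/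
structure QDGen (x y : S) (n : ℕ) : Prop where
  hn : 3 ≤ n
  card : Nat.card S = 2 ^ (n + 1)
  ox : orderOf x = 2 ^ n
  oy : orderOf y = 2
  conj : y * x * y⁻¹ = x ^ qdExp n

theorem exists_qdGen (h : Cfsg.IsQuasiDihedral S) : ∃ (x y : S) (n : ℕ), QDGen x y n := by
  obtain ⟨n, hn, hc, x, y, hx, hy, hxy⟩ := h
  refine ⟨x, y, n, hn, hc, hx, hy, ?_⟩
  rw [hxy, qdExp, ← zpow_natCast, Nat.cast_sub Nat.one_le_two_pow]
  norm_num

theorem four_dvd_two_pow {n : ℕ} (hn : 2 ≤ n) : (4 : ℤ) ∣ 2 ^ n := by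
  obtain ⟨k, rfl⟩ : ∃ k, n = k + 2 := ⟨n - 2, by omega⟩
  exact ⟨2 ^ k, by ring⟩

namespace QDGen

variable {x y : S} {n : ℕ}

theorem two_pow_eq (h : QDGen x y n) : (2 : ℤ) ^ n = 2 * 2 ^ (n - 1) ∧
    (2 : ℤ) ^ (n - 1) = 2 * 2 ^ (n - 2) := by
  have := h.hn
  constructor <;> rw [← pow_succ'] <;> congr 1 <;> omega

theorem pow_eq_iff (h : QDGen x y n) {i j : ℤ} : x ^ i = x ^ j ↔ (2 : ℤ) ^ n ∣ i - j := by
  rw [zpow_eq_iff_dvd_sub, h.ox]
  push_cast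
  rfl

theorem pow_eq_one_iff (h : QDGen x y n) {i : ℤ} : x ^ i = 1 ↔ (2 : ℤ) ^ n ∣ i := by
  rw [← zpow_zero x, h.pow_eq_iff, sub_zero]

theorem y_mul_zpow (h : QDGen x y n) (i : ℤ) : y * x ^ i = x ^ (qdExp n * i) * y := by
  rw [zpow_mul, ← h.conj, conj_zpow, inv_mul_cancel_right]

theorem qdExp_sub_one (h : QDGen x y n) : qdExp n - 1 = 2 * (2 ^ (n - 2) - 1) := by
  rw [qdExp, h.two_pow_eq.2]; ring

theorem odd_c (h : QDGen x y n) : Odd ((2 : ℤ) ^ (n - 2) - 1) := by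
  obtain ⟨k, hk⟩ : ∃ k, n - 2 = k + 1 := ⟨n - 3, by have := h.hn; omega⟩
  exact ⟨2 ^ k - 1, by rw [hk]; ring⟩

theorem y_not_mem (h : QDGen x y n) : y ∉ Subgroup.zpowers x := by
  rintro ⟨i, hi⟩
  have h1 : y * x = x * y := by
    rw [← hi]
    show x ^ i * x = x * x ^ i
    rw [← zpow_add_one, ← zpow_one_add, add_comm]
  have h2 := h.y_mul_zpow 1
  rw [zpow_one, mul_one, h1] at h2
  have h3 : x ^ (1 : ℤ) = x ^ qdExp n := by rw [zpow_one]; exact mul_right_cancel h2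
  rw [h.pow_eq_iff] at h3
  have h4 : (4 : ℤ) ∣ 2 ^ n := four_dvd_two_pow (by have := h.hn; omega)
  have h5 := dvd_trans h4 h3
  rw [show (1 : ℤ) - qdExp n = -(qdExp n - 1) by ring, dvd_neg, h.qdExp_sub_one] at h5
  obtain ⟨k, hk⟩ := h.odd_c
  rw [hk] at h5
  omega

theorem zpow_y_ne_zpow (h : QDGen x y n) (i j : ℤ) : x ^ i * y ≠ x ^ j := fun he => h.y_not_mem (by
  rw [eq_inv_mul_of_mul_eq he, ← zpow_neg, ← zpow_add]
  exact Subgroup.zpow_mem_zpowers _ _)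

theorem finite (h : QDGen x y n) : Finite S :=
  Nat.finite_of_card_ne_zero (by rw [h.card]; positivity)

theorem normal_form (h : QDGen x y n) (g : S) : ∃ i : ℤ, g = x ^ i ∨ g = x ^ i * y := by
  have hfin := h.finite
  have hidx : (Subgroup.zpowers x).index = 2 := by
    have h2 := (Subgroup.zpowers x).card_mul_index
    rw [Nat.card_zpowers, h.ox, h.card, pow_succ] at h2
    exact Nat.eq_of_mul_eq_mul_left (by positivity) h2
  rcases em (g ∈ Subgroup.zpowers x) with hg | hg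
  · obtain ⟨i, rfl⟩ := hg
    exact ⟨i, Or.inl rfl⟩
  · obtain ⟨i, hi⟩ := (Subgroup.mul_mem_iff_of_index_two hidx (a := g) (b := y⁻¹)).2
      (iff_of_false hg fun hy => h.y_not_mem (by simpa using inv_mem hy))
    exact ⟨i, Or.inr (by rw [show x ^ i = g * y⁻¹ from hi, inv_mul_cancel_right])⟩

theorem y_inv (h : QDGen x y n) : y⁻¹ = y := invol_inv h.oy

theorem mul_yy (h : QDGen x y n) (i j : ℤ) :
    x ^ i * y * (x ^ j * y) = x ^ (i + qdExp n * j) := by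
  rw [mul_assoc, ← mul_assoc y, h.y_mul_zpow, mul_assoc _ y y, invol_mul_self h.oy, mul_one,
    zpow_add]

theorem mul_yx (h : QDGen x y n) (i j : ℤ) :
    x ^ i * y * x ^ j = x ^ (i + qdExp n * j) * y := by
  rw [mul_assoc, h.y_mul_zpow, ← mul_assoc, zpow_add]

theorem mul_xy (_h : QDGen x y n) (i j : ℤ) : x ^ i * (x ^ j * y) = x ^ (i + j) * y := by
  rw [← mul_assoc, zpow_add]

theorem sq_y (h : QDGen x y n) (i : ℤ) : x ^ i * y * (x ^ i * y) = x ^ (2 ^ (n - 1) * i) := by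
  rw [h.mul_yy, qdExp]
  congr 1
  ring

theorem zpow_half_mul (h : QDGen x y n) (i : ℤ) :
    x ^ (2 ^ (n - 1) * i) = if Even i then 1 else x ^ ((2 : ℤ) ^ (n - 1)) := by
  rcases Int.even_or_odd i with ⟨k, hk⟩ | ⟨k, hk⟩
  · rw [if_pos ⟨k, hk⟩, h.pow_eq_one_iff, hk]
    exact ⟨k, by rw [h.two_pow_eq.1]; ring⟩
  · rw [if_neg (by rw [Int.not_even_iff_odd]; exact ⟨k, hk⟩), h.pow_eq_iff, hk]
    exact ⟨k, by rw [h.two_pow_eq.1]; ring⟩

/-- The central involution `z = x ^ 2^(n-1)` is nontrivial. -/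
theorem z_ne_one (h : QDGen x y n) : x ^ ((2 : ℤ) ^ (n - 1)) ≠ 1 := by
  rw [Ne, h.pow_eq_one_iff, h.two_pow_eq.1]
  intro hd
  have := Int.le_of_dvd (by positivity) hd
  have : (0 : ℤ) < 2 ^ (n - 1) := by positivity
  omega

theorem z_mul_self (h : QDGen x y n) :
    x ^ ((2 : ℤ) ^ (n - 1)) * x ^ ((2 : ℤ) ^ (n - 1)) = 1 := by
  rw [← zpow_add, h.pow_eq_one_iff, h.two_pow_eq.1]
  exact ⟨1, by ring⟩

theorem sq_y_even (h : QDGen x y n) {i : ℤ} (hi : Even i) : x ^ i * y * (x ^ i * y) = 1 := by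
  rw [h.sq_y, h.zpow_half_mul, if_pos hi]

theorem sq_y_odd (h : QDGen x y n) {i : ℤ} (hi : Odd i) :
    x ^ i * y * (x ^ i * y) = x ^ ((2 : ℤ) ^ (n - 1)) := by
  rw [h.sq_y, h.zpow_half_mul, if_neg (Int.not_even_iff_odd.2 hi)]

theorem orderOf_y_even (h : QDGen x y n) {i : ℤ} (hi : Even i) : orderOf (x ^ i * y) = 2 :=
  orderOf_eq_two_of_mul_self (h.sq_y_even hi) fun he => h.zpow_y_ne_zpow i 0 (by rw [he, zpow_zero])

theorem orderOf_y_odd (h : QDGen x y n) {i : ℤ} (hi : Odd i) : orderOf (x ^ i * y) = 4 := by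
  have : Fact (Nat.Prime 2) := ⟨Nat.prime_two⟩
  have h2 : (x ^ i * y) ^ 2 = x ^ ((2 : ℤ) ^ (n - 1)) := by rw [sq, h.sq_y_odd hi]
  refine orderOf_eq_prime_pow (p := 2) (n := 1) ?_ ?_
  · rw [pow_one, h2]
    exact h.z_ne_one
  · rw [show 2 ^ (1 + 1) = 2 * 2 by rfl, pow_mul, h2, sq, h.z_mul_self]

theorem dvd_mul_c (h : QDGen x y n) {k : ℕ} {j : ℤ} :
    (2 : ℤ) ^ k ∣ j * (2 ^ (n - 2) - 1) ↔ (2 : ℤ) ^ k ∣ j := by
  refine ⟨fun hd => ?_, fun hd => hd.mul_right _⟩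
  have hcop : IsCoprime ((2 : ℤ) ^ k) (2 ^ (n - 2) - 1) := by
    refine IsCoprime.pow_left ?_
    obtain ⟨m, hm⟩ := h.odd_c
    rw [hm]
    exact ⟨-m, 1, by ring⟩
  exact hcop.dvd_of_dvd_mul_right hd

/-- Which powers of `x` commute with `x ^ i * y`. -/
theorem commute_zpow_iff (h : QDGen x y n) (i j : ℤ) :
    Commute (x ^ j) (x ^ i * y) ↔ (2 : ℤ) ^ (n - 1) ∣ j := by
  rw [Commute, SemiconjBy, h.mul_xy, h.mul_yx, mul_left_inj, h.pow_eq_iff,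
    show j + i - (i + qdExp n * j) = -(j * (qdExp n - 1)) by ring, dvd_neg, h.qdExp_sub_one,
    h.two_pow_eq.1, ← mul_assoc, mul_comm j 2, mul_assoc,
    mul_dvd_mul_iff_left (two_ne_zero), h.dvd_mul_c]

/-- The conjugate of `x ^ i * y` by `x ^ j`. -/
theorem conj_zpow_y (h : QDGen x y n) (i j : ℤ) :
    x ^ j * (x ^ i * y) * (x ^ j)⁻¹ = x ^ (i + j * (2 * (1 - 2 ^ (n - 2)))) * y := by
  rw [h.mul_xy, ← zpow_neg, h.mul_yx]
  congr 2
  rw [show qdExp n = 2 * 2 ^ (n - 2) - 1 by rw [qdExp, h.two_pow_eq.2]]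
  ring

/-- Conjugation reaches every exponent of the same parity. -/
theorem exists_conj_zpow_y (h : QDGen x y n) {i i' : ℤ} (hp : Even (i' - i)) :
    ∃ j : ℤ, x ^ j * (x ^ i * y) * (x ^ j)⁻¹ = x ^ i' * y := by
  obtain ⟨d, hd⟩ := hp
  refine ⟨d * (1 - 2 ^ (n - 2)), ?_⟩
  rw [h.conj_zpow_y]
  congr 1
  rw [h.pow_eq_iff]
  obtain ⟨k, hk⟩ : ∃ k : ℕ, n = k + 3 := ⟨n - 3, by have := h.hn; omega⟩
  subst hk
  refine ⟨d * (2 ^ k - 1), ?_⟩
  rw [show k + 3 - 2 = k + 1 by omega, show i' = i + (d + d) by omega]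
  ring

theorem center_le_iff (h : QDGen x y n) (g : S) :
    g ∈ Subgroup.center S ↔ g = 1 ∨ g = x ^ ((2 : ℤ) ^ (n - 1)) := by
  constructor
  · intro hg
    obtain ⟨i, rfl | rfl⟩ := h.normal_form g
    · have h2 : Commute (x ^ i) (x ^ (0 : ℤ) * y) := (Subgroup.mem_center_iff.1 hg _).symm
      rw [h.commute_zpow_iff] at h2
      obtain ⟨k, rfl⟩ := h2
      rw [h.zpow_half_mul]
      split_ifs <;> simp
    · exfalso
      have h2 : Commute (x ^ (1 : ℤ)) (x ^ i * y) := Subgroup.mem_center_iff.1 hg _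
      rw [h.commute_zpow_iff, h.two_pow_eq.2] at h2
      have := (dvd_mul_right (2 : ℤ) _).trans h2
      omega
  · intro hg
    rw [Subgroup.mem_center_iff]
    intro u
    rcases hg with rfl | rfl
    · simp
    obtain ⟨i, rfl | rfl⟩ := h.normal_form u
    · rw [← zpow_add, ← zpow_add, add_comm]
    · exact (((h.commute_zpow_iff i _).2 dvd_rfl).symm).eq

/-- The elements of `⟨x⟩` of order two. -/
theorem orderOf_zpow_two (h : QDGen x y n) {i : ℤ} (hi : orderOf (x ^ i) = 2) :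
    x ^ i = x ^ ((2 : ℤ) ^ (n - 1)) := by
  have h2 := invol_mul_self hi
  rw [← zpow_add, h.pow_eq_one_iff, h.two_pow_eq.1, ← two_mul,
    mul_dvd_mul_iff_left two_ne_zero] at h2
  obtain ⟨k, rfl⟩ := h2
  have h3 := h.zpow_half_mul k
  split_ifs at h3 with hk
  · exact absurd h3 (invol_ne_one hi)
  · exact h3

/-- The elements of `⟨x⟩` of order four. -/
theorem orderOf_zpow_four (h : QDGen x y n) {i : ℤ} (hi : orderOf (x ^ i) = 4) :
    x ^ i = x ^ ((2 : ℤ) ^ (n - 2)) ∨ x ^ i = x ^ (-(2 : ℤ) ^ (n - 2)) := by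
  have h4 : x ^ (i * 4) = 1 := by
    rw [zpow_mul]
    norm_cast
    rw [← hi, pow_orderOf_eq_one]
  rw [h.pow_eq_one_iff, h.two_pow_eq.1, h.two_pow_eq.2, ← mul_assoc, show (2 : ℤ) * 2 = 4 by rfl,
    mul_comm i, mul_dvd_mul_iff_left (by norm_num)] at h4
  obtain ⟨k, rfl⟩ := h4
  have hodd : ¬ Even k := by
    rintro ⟨m, rfl⟩
    have h2 : (x ^ ((2 : ℤ) ^ (n - 2) * (m + m))) ^ 2 = 1 := by
      rw [← zpow_natCast, ← zpow_mul, h.pow_eq_one_iff, h.two_pow_eq.1, h.two_pow_eq.2]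
      exact ⟨m, by push_cast; ring⟩
    have := orderOf_dvd_of_pow_eq_one h2
    rw [hi] at this
    norm_num at this
  rw [Int.not_even_iff_odd] at hodd
  obtain ⟨m, rfl⟩ := hodd
  rcases Int.even_or_odd m with ⟨l, rfl⟩ | ⟨l, rfl⟩
  · left
    rw [h.pow_eq_iff, h.two_pow_eq.1, h.two_pow_eq.2]
    exact ⟨l, by ring⟩
  · right
    rw [h.pow_eq_iff, h.two_pow_eq.1, h.two_pow_eq.2]
    exact ⟨l + 1, by ring⟩

theorem orderOf_a (h : QDGen x y n) : orderOf (x ^ ((2 : ℤ) ^ (n - 2))) = 4 := by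
  have : Fact (Nat.Prime 2) := ⟨Nat.prime_two⟩
  have h2 : (x ^ ((2 : ℤ) ^ (n - 2))) ^ 2 = x ^ ((2 : ℤ) ^ (n - 1)) := by
    rw [sq, ← zpow_add, h.two_pow_eq.2, two_mul]
  refine orderOf_eq_prime_pow (p := 2) (n := 1) ?_ ?_
  · rw [pow_one, h2]
    exact h.z_ne_one
  · rw [show 2 ^ (1 + 1) = 2 * 2 by rfl, pow_mul, h2, sq, h.z_mul_self]

/-- `y` inverts the element of order four of `⟨x⟩`. -/
theorem conj_a (h : QDGen x y n) (i : ℤ) :
    x ^ i * y * x ^ ((2 : ℤ) ^ (n - 2)) * (x ^ i * y)⁻¹ = (x ^ ((2 : ℤ) ^ (n - 2)))⁻¹ := by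
  rw [mul_inv_eq_iff_eq_mul, h.mul_yx, ← zpow_neg, h.mul_xy, mul_left_inj, h.pow_eq_iff,
    h.two_pow_eq.1, h.two_pow_eq.2]
  obtain ⟨k, hk⟩ : ∃ k : ℕ, n = k + 3 := ⟨n - 3, by have := h.hn; omega⟩
  subst hk
  rw [show k + 3 - 2 = k + 1 by omega, qdExp, show k + 3 - 1 = k + 2 by omega]
  exact ⟨2 ^ k, by ring⟩

/-- The subgroup `⟨x ^ 2, x ^ e * y⟩`. -/
def halfSub (h : QDGen x y n) (e : ℤ) : Subgroup S where
  carrier := {g | ∃ k : ℤ, g = x ^ (2 * k) ∨ g = x ^ (2 * k + e) * y}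
  one_mem' := ⟨0, Or.inl (by simp)⟩
  mul_mem' := by
    have hA := h.two_pow_eq.2
    rintro a b ⟨k, rfl | rfl⟩ ⟨l, rfl | rfl⟩
    · exact ⟨k + l, Or.inl (by rw [← zpow_add]; congr 1; ring)⟩
    · exact ⟨k + l, Or.inr (by rw [h.mul_xy]; congr 2; ring)⟩
    · exact ⟨k + qdExp n * l, Or.inr (by rw [h.mul_yx]; congr 2; ring)⟩
    · exact ⟨k + qdExp n * l + e * 2 ^ (n - 2), Or.inl (by
        rw [h.mul_yy]; congr 1; rw [qdExp, hA]; ring)⟩
  inv_mem' := by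
    rintro a ⟨k, rfl | rfl⟩
    · exact ⟨-k, Or.inl (by rw [← zpow_neg]; congr 1; ring)⟩
    · refine ⟨k - (2 * k + e) * 2 ^ (n - 2), Or.inr ?_⟩
      rw [inv_eq_iff_mul_eq_one, h.mul_yy, h.pow_eq_one_iff, qdExp, h.two_pow_eq.1, h.two_pow_eq.2]
      refine ⟨(2 * k + e) * (1 - 2 ^ (n - 2)) + 0, ?_⟩
      obtain ⟨m, hm⟩ : ∃ m : ℕ, n = m + 3 := ⟨n - 3, by have := h.hn; omega⟩
      subst hm
      rw [show m + 3 - 2 = m + 1 by omega]
      ring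

theorem mem_halfSub (h : QDGen x y n) {e : ℤ} {g : S} :
    g ∈ h.halfSub e ↔ ∃ k : ℤ, g = x ^ (2 * k) ∨ g = x ^ (2 * k + e) * y :=
  Iff.rfl

theorem zpow_mem_halfSub_iff (h : QDGen x y n) {e i : ℤ} : x ^ i ∈ h.halfSub e ↔ Even i := by
  constructor
  · rintro ⟨k, hk | hk⟩
    · rw [h.pow_eq_iff, h.two_pow_eq.1] at hk
      obtain ⟨c, hc⟩ := hk
      exact ⟨k + 2 ^ (n - 1) * c / 1, by rw [Int.ediv_one]; linarith⟩
    · exact absurd hk.symm (h.zpow_y_ne_zpow _ _)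
  · rintro ⟨k, rfl⟩
    exact ⟨k, Or.inl (by rw [two_mul])⟩

theorem zpow_y_mem_halfSub_iff (h : QDGen x y n) {e i : ℤ} :
    x ^ i * y ∈ h.halfSub e ↔ Even (i - e) := by
  constructor
  · rintro ⟨k, hk | hk⟩
    · exact absurd hk (h.zpow_y_ne_zpow _ _)
    · rw [mul_left_inj, h.pow_eq_iff, h.two_pow_eq.1] at hk
      obtain ⟨c, hc⟩ := hk
      exact ⟨k + 2 ^ (n - 1) * c, by linarith⟩
  · rintro ⟨k, hk⟩
    exact ⟨k, Or.inr (by rw [show i = 2 * k + e by omega])⟩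

theorem index_halfSub (h : QDGen x y n) (e : ℤ) : (h.halfSub e).index = 2 := by
  rw [Subgroup.index_eq_two_iff]
  refine ⟨x ^ (1 : ℤ), fun b => ?_⟩
  rw [xor_iff_iff_not]
  obtain ⟨i, rfl | rfl⟩ := h.normal_form b
  · rw [← zpow_add, h.zpow_mem_halfSub_iff, h.zpow_mem_halfSub_iff, Int.even_add_one]
  · rw [h.mul_yx, h.zpow_y_mem_halfSub_iff, h.zpow_y_mem_halfSub_iff, mul_one,
      show i + qdExp n - e = (i - e) + qdExp n by ring, Int.even_add]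
    have hodd : ¬ Even (qdExp n) := by
      rw [qdExp, h.two_pow_eq.2, Int.even_sub_one, not_not]
      exact even_two_mul _
    simp [hodd]

theorem card_halfSub (h : QDGen x y n) (e : ℤ) : Nat.card (h.halfSub e) = 2 ^ n := by
  have h2 := (h.halfSub e).card_mul_index
  rw [h.index_halfSub, h.card, pow_succ] at h2
  exact Nat.eq_of_mul_eq_mul_right two_pos h2

theorem orderOf_sq (h : QDGen x y n) : orderOf (x ^ (2 : ℤ)) = 2 ^ (n - 1) := by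
  have := h.finite
  have h1 : (2 : ℕ) ^ n = 2 * 2 ^ (n - 1) := by
    rw [← pow_succ']; congr 1; have := h.hn; omega
  rw [show (2 : ℤ) = ((2 : ℕ) : ℤ) from rfl, zpow_natCast, orderOf_pow, h.ox, h1,
    Nat.gcd_mul_right_left, Nat.mul_div_cancel_left _ two_pos]

theorem conj_sq (h : QDGen x y n) (i : ℤ) :
    x ^ i * y * x ^ (2 : ℤ) * (x ^ i * y)⁻¹ = (x ^ (2 : ℤ))⁻¹ := by
  rw [mul_inv_eq_iff_eq_mul, h.mul_yx, ← zpow_neg, h.mul_xy, mul_left_inj, h.pow_eq_iff, qdExp,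
    h.two_pow_eq.1]
  exact ⟨1, by ring⟩

theorem halfSub_dihedral (h : QDGen x y n) :
    Nonempty (h.halfSub 0 ≃* DihedralGroup (2 ^ (n - 1))) := by
  refine nonempty_mulEquiv_dihedral (x := x ^ (2 : ℤ)) (y := x ^ (0 : ℤ) * y) ?_ ⟨1, Or.inl rfl⟩
    ⟨0, Or.inr rfl⟩ h.orderOf_sq (h.sq_y_even Even.zero) ?_ (h.conj_sq 0)
  · rw [h.card_halfSub, ← pow_succ']; congr 1; have := h.hn; omega
  · rintro ⟨k, hk⟩
    exact h.zpow_y_ne_zpow 0 (2 * k) (by rw [zpow_mul]; exact hk.symm)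

theorem halfSub_quaternion (h : QDGen x y n) :
    Nonempty (h.halfSub 1 ≃* QuaternionGroup (2 ^ (n - 2))) := by
  refine nonempty_mulEquiv_quaternion (x := x ^ (2 : ℤ)) (y := x ^ (1 : ℤ) * y) ?_ ⟨1, Or.inl rfl⟩
    ⟨0, Or.inr rfl⟩ ?_ ?_ ?_ (h.conj_sq 1)
  · rw [h.card_halfSub, show (4 : ℕ) = 2 ^ 2 by rfl, ← pow_add]; congr 1; have := h.hn; omega
  · rw [h.orderOf_sq, ← pow_succ']; congr 1; have := h.hn; omega
  · rw [h.sq_y_odd odd_one, ← zpow_mul]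
    push_cast
    rw [h.two_pow_eq.2]
  · rintro ⟨k, hk⟩
    exact h.zpow_y_ne_zpow 1 (2 * k) (by rw [zpow_mul]; exact hk.symm)

end QDGen

end Cfsg.Agent.Lib.Involutions
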