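import Mathlib
import Cfsg.Agent.Lib.Involutions.QuasiDihedral
import Cfsg.Agent.Lib.Involutions.Dihedral

/-!
# More facts inside a quasi-dihedral group
-/

namespace Cfsg.Agent.Lib.Involutions

variable {D : Type*} [Group D]

namespace QDGen

variable {x y : D} {n : ℕ}

theorem a_sq (h : QDGen x y n) :
    x ^ ((2 : ℤ) ^ (n - 2)) * x ^ ((2 : ℤ) ^ (n - 2)) = x ^ ((2 : ℤ) ^ (n - 1)) := by
  rw [← zpow_add, h.two_pow_eq.2, two_mul]

theorem orderOf_z (h : QDGen x y n) : orderOf (x ^ ((2 : ℤ) ^ (n - 1))) = 2 :=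
  orderOf_eq_two_of_mul_self h.z_mul_self h.z_ne_one

theorem invol_cases (h : QDGen x y n) {u : D} (hu : orderOf u = 2) :
    u = x ^ ((2 : ℤ) ^ (n - 1)) ∨ ∃ e : ℤ, Even e ∧ u = x ^ e * y := by
  obtain ⟨i, rfl | rfl⟩ := h.normal_form u
  · exact Or.inl (h.orderOf_zpow_two hu)
  · refine Or.inr ⟨i, ?_, rfl⟩
    by_contra hi
    rw [h.orderOf_y_odd (Int.not_even_iff_odd.1 hi)] at hu
    norm_num at hu

theorem four_cases (h : QDGen x y n) {u : D} (hu : orderOf u = 4) :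
    (u = x ^ ((2 : ℤ) ^ (n - 2)) ∨ u = (x ^ ((2 : ℤ) ^ (n - 2)))⁻¹) ∨
      ∃ o : ℤ, Odd o ∧ u = x ^ o * y := by
  obtain ⟨i, rfl | rfl⟩ := h.normal_form u
  · exact Or.inl ((h.orderOf_zpow_four hu).imp id fun e => by rw [e, zpow_neg])
  · refine Or.inr ⟨i, ?_, rfl⟩
    by_contra hi
    rw [h.orderOf_y_even (Int.not_odd_iff_even.1 hi)] at hu
    norm_num at hu

theorem isConj_zpow_y (h : QDGen x y n) {i i' : ℤ} (hp : Even (i' - i)) :
    IsConj (x ^ i * y) (x ^ i' * y) := by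
  obtain ⟨j, hj⟩ := h.exists_conj_zpow_y hp
  exact isConj_iff.2 ⟨x ^ j, hj⟩

theorem isConj_a_inv (h : QDGen x y n) :
    IsConj (x ^ ((2 : ℤ) ^ (n - 2))) (x ^ ((2 : ℤ) ^ (n - 2)))⁻¹ :=
  isConj_iff.2 ⟨_, h.conj_a 0⟩

/-- `a` maps `x ^ e y` to `z x ^ e y`. -/
theorem conj_a_y (h : QDGen x y n) (e : ℤ) :
    x ^ ((2 : ℤ) ^ (n - 2)) * (x ^ e * y) * (x ^ ((2 : ℤ) ^ (n - 2)))⁻¹ =
      x ^ ((2 : ℤ) ^ (n - 1)) * (x ^ e * y) := by
  rw [h.conj_zpow_y, h.mul_xy, mul_left_inj, h.pow_eq_iff]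
  obtain ⟨k, hk⟩ : ∃ k : ℕ, n = k + 3 := ⟨n - 3, by have := h.hn; omega⟩
  subst hk
  rw [show k + 3 - 2 = k + 1 by omega, show k + 3 - 1 = k + 2 by omega]
  exact ⟨-2 ^ k, by ring⟩

/-- `x ^ (2^(n-3))` multiplies `x ^ o y` on the left by a generator of `⟨a⟩`. -/
theorem conj_r_y (h : QDGen x y n) (o : ℤ) :
    x ^ ((2 : ℤ) ^ (n - 3)) * (x ^ o * y) * (x ^ ((2 : ℤ) ^ (n - 3)))⁻¹ =
      (x ^ ((2 : ℤ) ^ (n - 2))) ^ (1 - (2 : ℤ) ^ (n - 2)) * (x ^ o * y) := by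
  rw [h.conj_zpow_y, ← zpow_mul, h.mul_xy]
  congr 2
  obtain ⟨k, hk⟩ : ∃ k : ℕ, n = k + 3 := ⟨n - 3, by have := h.hn; omega⟩
  subst hk
  rw [show k + 3 - 2 = k + 1 by omega, show k + 3 - 3 = k by omega]
  ring

/-- The element `x ^ (2^(n-3))` moves the subgroup generated by `x ^ o y`. -/
theorem conj_r_y_ne (h : QDGen x y n) (o : ℤ) :
    x ^ ((2 : ℤ) ^ (n - 3)) * (x ^ o * y) * (x ^ ((2 : ℤ) ^ (n - 3)))⁻¹ ≠ x ^ o * y ∧
    x ^ ((2 : ℤ) ^ (n - 3)) * (x ^ o * y) * (x ^ ((2 : ℤ) ^ (n - 3)))⁻¹ ≠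
      x ^ ((2 : ℤ) ^ (n - 1)) * (x ^ o * y) := by
  obtain ⟨k, hk⟩ : ∃ k : ℕ, n = k + 3 := ⟨n - 3, by have := h.hn; omega⟩
  subst hk
  rw [h.conj_r_y, ← zpow_mul]
  have e1 : (2 : ℤ) ^ (k + 3) = 2 ^ (k + 1) * 4 := by ring
  refine ⟨fun he => ?_, fun he => ?_⟩
  · rw [mul_eq_right, h.pow_eq_one_iff, show k + 3 - 2 = k + 1 by omega, e1,
      mul_dvd_mul_iff_left (by positivity), pow_succ] at he
    omega
  · rw [mul_left_inj, h.pow_eq_iff, show k + 3 - 2 = k + 1 by omega,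
      show k + 3 - 1 = k + 2 by omega, e1,
      show (2 : ℤ) ^ (k + 1) * (1 - 2 ^ (k + 1)) - 2 ^ (k + 2) =
        2 ^ (k + 1) * (-1 - 2 ^ (k + 1)) by ring,
      mul_dvd_mul_iff_left (by positivity), pow_succ] at he
    omega

theorem y_odd_inv (h : QDGen x y n) {o : ℤ} (ho : Odd o) :
    (x ^ o * y)⁻¹ = x ^ ((2 : ℤ) ^ (n - 1)) * (x ^ o * y) := by
  refine inv_eq_of_mul_eq_one_left ?_
  rw [mul_assoc, h.sq_y_odd ho, h.z_mul_self]

/-- A four-group contains `z` and some `x ^ e y`. -/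
theorem klein_data (h : QDGen x y n) {T : Subgroup D} (hT : IsKleinFour T) :
    x ^ ((2 : ℤ) ^ (n - 1)) ∈ T ∧ ∃ e : ℤ, Even e ∧ x ^ e * y ∈ T := by
  classical
  have := h.finite
  have hord : ∀ u ∈ T, u ≠ 1 → orderOf u = 2 := fun u hu hu1 =>
    orderOf_eq_two_of_mul_self (isKleinFour_sq hT hu) hu1
  obtain ⟨e, he, heT⟩ : ∃ e : ℤ, Even e ∧ x ^ e * y ∈ T := by
    by_contra hcon
    push Not at hcon
    have hsub : (T : Set D) ⊆ {1, x ^ ((2 : ℤ) ^ (n - 1))} := by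
      intro u hu
      by_cases hu1 : u = 1
      · exact Or.inl hu1
      rcases h.invol_cases (hord u hu hu1) with h' | ⟨e, he, rfl⟩
      · exact Or.inr h'
      · exact absurd hu (hcon e he)
    have := (Set.ncard_le_ncard hsub).trans (Set.ncard_insert_le _ _)
    rw [← Nat.card_coe_set_eq, Set.ncard_singleton] at this
    have h4 : Nat.card (T : Set D) = 4 := hT.card_four
    omega
  refine ⟨?_, e, he, heT⟩
  by_contra hz
  have hsub : (T : Set D) ⊆ {1, x ^ e * y} := by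
    intro u hu
    by_cases hu1 : u = 1
    · exact Or.inl hu1
    rcases h.invol_cases (hord u hu hu1) with rfl | ⟨e', he', rfl⟩
    · exact absurd hu hz
    by_cases hp : x ^ e' * y * (x ^ e * y) = 1
    · right
      rw [Set.mem_singleton_iff, eq_inv_of_mul_eq_one_left hp]
      exact invol_inv (hord _ heT fun h1 => h.zpow_y_ne_zpow e 0 (by rw [h1, zpow_zero]))
    · exfalso
      have hm := mul_mem hu heT
      have ho := hord _ hm hp
      rw [h.mul_yy] at ho hm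
      rw [h.orderOf_zpow_two ho] at hm
      exact hz hm
  have := (Set.ncard_le_ncard hsub).trans (Set.ncard_insert_le _ _)
  rw [← Nat.card_coe_set_eq, Set.ncard_singleton] at this
  have h4 : Nat.card (T : Set D) = 4 := hT.card_four
  omega

theorem q8_orderOf : ∀ u : QuaternionGroup 2, u * u ≠ 1 → orderOf u = 4 := by
  intro u hu
  have : Fact (Nat.Prime 2) := ⟨Nat.prime_two⟩
  have h4 : ∀ w : QuaternionGroup 2, w ^ 4 = 1 := by decide
  exact orderOf_eq_prime_pow (p := 2) (n := 1) (by rwa [pow_one, sq]) (h4 u)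

/-- A quaternion subgroup of order eight contains `a` and some `x ^ o y`. -/
theorem quat_data (h : QDGen x y n) {Q : Subgroup D} (eQ : Q ≃* QuaternionGroup 2) :
    x ^ ((2 : ℤ) ^ (n - 2)) ∈ Q ∧ ∃ o : ℤ, Odd o ∧ x ^ o * y ∈ Q := by
  have e4 : ∀ u : QuaternionGroup 2, u * u ≠ 1 → orderOf ((eQ.symm u : Q) : D) = 4 := fun u hu => by
    rw [Subgroup.orderOf_coe, MulEquiv.orderOf_eq, q8_orderOf u hu]
  have h1 := h.four_cases (e4 (.a 1) (by decide))
  have h2 := h.four_cases (e4 (.xa 0) (by decide))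
  have h3 := h.four_cases (e4 (.a 1 * .xa 0) (by decide))
  have hin : ∀ u : QuaternionGroup 2, ((eQ.symm u : Q) : D) ∈ Q := fun u => (eQ.symm u).2
  have hne : ∀ u v : QuaternionGroup 2, u ≠ v → u ≠ v⁻¹ →
      ((eQ.symm u : Q) : D) ≠ ((eQ.symm v : Q) : D) ∧ ((eQ.symm u : Q) : D) ≠ ((eQ.symm v : Q) : D)⁻¹ :=
    fun u v huv huv' => ⟨fun hh => huv (eQ.symm.injective (Subtype.ext hh)), fun hh => huv' (by
      have : eQ.symm u = (eQ.symm v)⁻¹ := Subtype.ext hh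
      rw [← map_inv] at this
      exact eQ.symm.injective this)⟩
  constructor
  · rcases h1 with h1 | ⟨i, hi, h1⟩
    · rcases h1 with h1 | h1
      · exact h1 ▸ hin _
      · exact inv_mem_iff.1 (h1 ▸ hin _)
    rcases h2 with h2 | ⟨j, hj, h2⟩
    · rcases h2 with h2 | h2
      · exact h2 ▸ hin _
      · exact inv_mem_iff.1 (h2 ▸ hin _)
    rcases h3 with h3 | ⟨k, hk, h3⟩
    · rcases h3 with h3 | h3
      · exact h3 ▸ hin _
      · exact inv_mem_iff.1 (h3 ▸ hin _)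
    exfalso
    rw [map_mul, Subgroup.coe_mul, h1, h2, h.mul_yy] at h3
    exact h.zpow_y_ne_zpow _ _ h3.symm
  · rcases h1 with h1 | ⟨i, hi, h1⟩
    swap; · exact ⟨i, hi, h1 ▸ hin _⟩
    rcases h2 with h2 | ⟨j, hj, h2⟩
    swap; · exact ⟨j, hj, h2 ▸ hin _⟩
    exfalso
    obtain ⟨n1, n2⟩ := hne (.a 1) (.xa 0) (by decide) (by decide)
    rcases h1 with h1 | h1 <;> rcases h2 with h2 | h2 <;> rw [h1, h2] at n1 n2 <;>
      first | exact n1 rfl | exact n2 rfl | exact n2 (inv_inv _).symm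

/-- The elements outside the maximal subgroup `halfSub e`. -/
theorem not_mem_halfSub (h : QDGen x y n) {e : ℤ} {u : D} (hu : u ∉ h.halfSub e) :
    orderOf u = 2 ^ n ∨ ∃ i : ℤ, Odd (i - e) ∧ u = x ^ i * y := by
  have := h.finite
  obtain ⟨i, rfl | rfl⟩ := h.normal_form u
  · rw [h.zpow_mem_halfSub_iff, Int.not_even_iff_odd] at hu
    left
    have : Fact (Nat.Prime 2) := ⟨Nat.prime_two⟩
    rw [show n = (n - 1) + 1 by have := h.hn; omega]
    refine orderOf_eq_prime_pow ?_ ?_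
    · rw [← zpow_natCast, ← zpow_mul]
      push_cast
      rw [mul_comm, h.zpow_half_mul, if_neg (Int.not_even_iff_odd.2 hu)]
      exact h.z_ne_one
    · rw [show n - 1 + 1 = n by have := h.hn; omega, ← zpow_natCast, ← zpow_mul, h.pow_eq_one_iff]
      push_cast
      exact dvd_mul_left _ _
  · rw [h.zpow_y_mem_halfSub_iff, Int.not_even_iff_odd] at hu
    exact Or.inr ⟨i, hu, rfl⟩

theorem orderOf_ne_top (h : QDGen x y n) {e : ℤ} {u : D} (hu : u ∈ h.halfSub e) :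
    orderOf u ≠ 2 ^ n := by
  have := h.finite
  obtain ⟨k, rfl | rfl⟩ := hu
  · intro ho
    have h1 : (x ^ (2 * k)) ^ (2 : ℕ) ^ (n - 1) = 1 := by
      rw [← zpow_natCast, ← zpow_mul, h.pow_eq_one_iff, h.two_pow_eq.1]
      push_cast
      exact ⟨k, by ring⟩
    have := Nat.le_of_dvd (by positivity) (ho ▸ orderOf_dvd_of_pow_eq_one h1)
    have := Nat.pow_lt_pow_right (show 1 < 2 by norm_num) (show n - 1 < n by have := h.hn; omega)
    omega
  · have h8 : 2 ^ 3 ≤ 2 ^ n := Nat.pow_le_pow_right two_pos h.hn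
    rcases Int.even_or_odd (2 * k + e) with hp | hp
    · rw [h.orderOf_y_even hp]; omega
    · rw [h.orderOf_y_odd hp]; omega

end QDGen

end Cfsg.Agent.Lib.Involutions
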