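import Mathlib
import Cfsg.Agent.Lib.Involutions.ThreeAction
import Cfsg.Agent.Lib.Involutions.Dihedral

/-!
# Four-groups and quaternion groups as instances of `Three`
-/

namespace Cfsg.Agent.Lib.Involutions

variable {G : Type*} [Group G]

theorem mem_normalizer_of_maps [Finite G] {V : Subgroup G} {g : G}
    (h : ∀ v ∈ V, g * v * g⁻¹ ∈ V) : g ∈ Subgroup.normalizer (V : Set G) := by
  rw [mem_normalizer_iff_map_conj]
  refine Subgroup.eq_of_le_of_card_ge ?_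
    (Subgroup.card_map_of_injective (MulAut.conj g).injective).ge
  rintro _ ⟨v, hv, rfl⟩
  exact h v hv

theorem klein_elements {V : Subgroup G} (hV : IsKleinFour V) {z t : G} (hz : z ∈ V) (ht : t ∈ V)
    (hz1 : z ≠ 1) (ht1 : t ≠ 1) (hzt : z ≠ t) {v : G} (hv : v ∈ V) :
    v = 1 ∨ v = z ∨ v = t ∨ v = z * t := by
  have hfin : (V : Set G).Finite := Set.finite_coe_iff.1
    (Nat.finite_of_card_ne_zero (α := (V : Set G)) (by
      show Nat.card V ≠ 0
      rw [hV.card_four]; norm_num))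
  have hsub : ({1, z, t, z * t} : Set G) ⊆ V := by
    rintro a (rfl | rfl | rfl | rfl)
    exacts [one_mem V, hz, ht, mul_mem hz ht]
  have h3 : z * t ≠ 1 := fun he => hzt (by
    rw [← mul_left_inj t, he, isKleinFour_sq hV ht])
  have hcard : ({1, z, t, z * t} : Set G).ncard = 4 := by
    rw [Set.ncard_insert_of_notMem (by simp [hz1.symm, ht1.symm, h3.symm]),
      Set.ncard_insert_of_notMem (by simp [hzt, ht1]),
      Set.ncard_insert_of_notMem (by simp [hz1]), Set.ncard_singleton]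
  have heq := Set.eq_of_subset_of_ncard_le hsub (by
    rw [hcard, ← Nat.card_coe_set_eq]
    exact le_of_eq hV.card_four) hfin
  have hv' : v ∈ ({1, z, t, z * t} : Set G) := by rw [heq]; exact hv
  exact hv'

/-- A four-group as an instance of `Three`. -/
def threeKlein {V : Subgroup G} (hV : IsKleinFour V) {z t : G} (hz : z ∈ V) (ht : t ∈ V)
    (hz1 : z ≠ 1) (ht1 : t ≠ 1) (hzt : z ≠ t) : Three V where
  c := ![z, t, z * t]
  mem := by intro m; fin_cases m; exacts [hz, ht, mul_mem hz ht]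
  sep := by
    have hi : ∀ {v}, v ∈ V → v⁻¹ = v := fun hv => inv_eq_of_mul_eq_one_left (isKleinFour_sq hV hv)
    intro m m' h
    have hm' : (![z, t, z * t] : Fin 3 → G) m' ∈ V := by
      fin_cases m'; exacts [hz, ht, mul_mem hz ht]
    rw [hi hm', or_self] at h
    fin_cases m <;> fin_cases m' <;>
      first
      | rfl
      | exact absurd h hzt
      | exact absurd h.symm hzt
      | exact absurd (left_eq_mul.1 h) ht1
      | exact absurd (left_eq_mul.1 h.symm) ht1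
      | exact absurd (right_eq_mul.1 h) hz1
      | exact absurd (right_eq_mul.1 h.symm) hz1
  cases := by
    intro g hg m
    have hcm : (![z, t, z * t] : Fin 3 → G) m ∈ V ∧ (![z, t, z * t] : Fin 3 → G) m ≠ 1 := by
      fin_cases m
      · exact ⟨hz, hz1⟩
      · exact ⟨ht, ht1⟩
      · exact ⟨mul_mem hz ht, fun he => hzt (by
          rw [← mul_left_inj t, isKleinFour_sq hV ht]; exact he)⟩
    have hmem := (Subgroup.mem_set_normalizer_iff.1 hg _).1 hcm.1
    rcases klein_elements hV hz ht hz1 ht1 hzt hmem with h | h | h | h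
    · exact absurd (conj_eq_one_iff.1 h) hcm.2
    · exact ⟨0, Or.inl h⟩
    · exact ⟨1, Or.inl h⟩
    · exact ⟨2, Or.inl h⟩
  inner := fun v hv m => Or.inl (by
    have hm : (![z, t, z * t] : Fin 3 → G) m ∈ V := by fin_cases m; exacts [hz, ht, mul_mem hz ht]
    rw [isKleinFour_comm hV hv hm, mul_inv_cancel_right])
  faithful := by
    intro g hg h
    refine Subgroup.mem_sup_right (Subgroup.mem_centralizer_iff.2 fun v hv => ?_)
    have hi : ∀ {v}, v ∈ V → v⁻¹ = v := fun hv => inv_eq_of_mul_eq_one_left (isKleinFour_sq hV hv)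
    have hc : ∀ m, g * (![z, t, z * t] : Fin 3 → G) m * g⁻¹ = (![z, t, z * t] : Fin 3 → G) m := by
      intro m
      have hm : (![z, t, z * t] : Fin 3 → G) m ∈ V := by fin_cases m; exacts [hz, ht, mul_mem hz ht]
      rcases h m with h' | h'
      · exact h'
      · rw [h', hi hm]
    rcases klein_elements hV hz ht hz1 ht1 hzt hv with rfl | rfl | rfl | rfl
    · simp
    · exact (mul_inv_eq_iff_eq_mul.1 (hc 0)).symm
    · exact (mul_inv_eq_iff_eq_mul.1 (hc 1)).symm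
    · exact (mul_inv_eq_iff_eq_mul.1 (hc 2)).symm
  prod := rfl

theorem klein_sup_centralizer {V : Subgroup G} (hV : IsKleinFour V) :
    V ⊔ Subgroup.centralizer (V : Set G) = Subgroup.centralizer (V : Set G) :=
  sup_eq_right.2 fun _v hv => Subgroup.mem_centralizer_iff.2 fun _w hw => isKleinFour_comm hV hw hv

section Quaternion

private abbrev Q8 := QuaternionGroup 2

theorem q8_cover : ∀ u v : Q8, u * u ≠ 1 → v * v ≠ 1 → v ≠ u → v ≠ u⁻¹ → ∀ w, w * w ≠ 1 →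
    w = u ∨ w = u⁻¹ ∨ w = v ∨ w = v⁻¹ ∨ w = u * v ∨ w = (u * v)⁻¹ := by decide

theorem q8_sep : ∀ u v : Q8, u * u ≠ 1 → v * v ≠ 1 → v ≠ u → v ≠ u⁻¹ → u * v * (u * v) ≠ 1 ∧
    u * v ≠ u ∧ u * v ≠ u⁻¹ ∧ u * v ≠ v ∧ u * v ≠ v⁻¹ := by decide

theorem q8_conj : ∀ u w : Q8, w * u * w⁻¹ = u ∨ w * u * w⁻¹ = u⁻¹ := by decide

theorem q8_signs' : ∀ u v : Q8, (u * u ≠ 1 ∧ v * v ≠ 1 ∧ v ≠ u ∧ v ≠ u⁻¹) → ∀ a b : Bool,
    ∃ w : Q8, w * u * w⁻¹ = (if a then u else u⁻¹) ∧ w * v * w⁻¹ = (if b then v else v⁻¹) := by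
  decide

theorem q8_signs (u v : Q8) (h1 : u * u ≠ 1) (h2 : v * v ≠ 1) (h3 : v ≠ u) (h4 : v ≠ u⁻¹)
    (u' v' : Q8) (hu : u' = u ∨ u' = u⁻¹) (hv : v' = v ∨ v' = v⁻¹) :
    ∃ w, w * u * w⁻¹ = u' ∧ w * v * w⁻¹ = v' := by
  rcases hu with rfl | rfl <;> rcases hv with rfl | rfl
  · simpa using q8_signs' u' v' ⟨h1, h2, h3, h4⟩ true true
  · simpa using q8_signs' u' v ⟨h1, h2, h3, h4⟩ true false
  · simpa using q8_signs' u v' ⟨h1, h2, h3, h4⟩ false true
  · simpa using q8_signs' u v ⟨h1, h2, h3, h4⟩ false false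

theorem q8_gen : ∀ u v : Q8, u * u ≠ 1 → v * v ≠ 1 → v ≠ u → v ≠ u⁻¹ → ∀ w,
    ∃ i j : Fin 4, w = u ^ (i : ℕ) * v ^ (j : ℕ) := by decide

variable {Q : Subgroup G} (eQ : Q ≃* QuaternionGroup 2) {u v : G}

include eQ in
theorem quat_gen (hu : u ∈ Q) (hv : v ∈ Q) (hu2 : u * u ≠ 1) (hv2 : v * v ≠ 1) (hne : v ≠ u)
    (hne' : v ≠ u⁻¹) {w : G} (hw : w ∈ Q) : ∃ i j : ℕ, w = u ^ i * v ^ j := by
  obtain ⟨i, j, hij⟩ := q8_gen (eQ ⟨u, hu⟩) (eQ ⟨v, hv⟩)
    (by rw [← map_mul, Ne, MulEquiv.map_eq_one_iff]; exact fun h => hu2 (congrArg Subtype.val h))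
    (by rw [← map_mul, Ne, MulEquiv.map_eq_one_iff]; exact fun h => hv2 (congrArg Subtype.val h))
    (fun h => hne (congrArg Subtype.val (eQ.injective h)))
    (fun h => hne' (by
      rw [← map_inv] at h; exact congrArg Subtype.val (eQ.injective h))) (eQ ⟨w, hw⟩)
  rw [← map_pow, ← map_pow, ← map_mul] at hij
  exact ⟨i, j, congrArg Subtype.val (eQ.injective hij)⟩

include eQ in
theorem quat_mem_normalizer [Finite G] (hu : u ∈ Q) (hv : v ∈ Q) (hu2 : u * u ≠ 1)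
    (hv2 : v * v ≠ 1) (hne : v ≠ u) (hne' : v ≠ u⁻¹) {g : G} (hgu : g * u * g⁻¹ ∈ Q)
    (hgv : g * v * g⁻¹ ∈ Q) : g ∈ Subgroup.normalizer (Q : Set G) := by
  refine mem_normalizer_of_maps fun w hw => ?_
  obtain ⟨i, j, rfl⟩ := quat_gen eQ hu hv hu2 hv2 hne hne' hw
  rw [← conj_mul, ← conj_pow, ← conj_pow]
  exact mul_mem (pow_mem hgu i) (pow_mem hgv j)

include eQ in
/-- An element fixing `⟨u⟩` and `⟨v⟩` is a product of an element of `Q` and one centralizing `Q`. -/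
theorem quat_split (hu : u ∈ Q) (hv : v ∈ Q) (hu2 : u * u ≠ 1) (hv2 : v * v ≠ 1) (hne : v ≠ u)
    (hne' : v ≠ u⁻¹) {g : G} (h0 : g * u * g⁻¹ = u ∨ g * u * g⁻¹ = u⁻¹)
    (h1 : g * v * g⁻¹ = v ∨ g * v * g⁻¹ = v⁻¹) :
    ∃ w ∈ Q, w⁻¹ * g ∈ Subgroup.centralizer (Q : Set G) := by
  have hu' : eQ ⟨u, hu⟩ * eQ ⟨u, hu⟩ ≠ 1 := by
    rw [← map_mul, Ne, MulEquiv.map_eq_one_iff]; exact fun h => hu2 (congrArg Subtype.val h)
  have hv' : eQ ⟨v, hv⟩ * eQ ⟨v, hv⟩ ≠ 1 := by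
    rw [← map_mul, Ne, MulEquiv.map_eq_one_iff]; exact fun h => hv2 (congrArg Subtype.val h)
  have hn : eQ ⟨v, hv⟩ ≠ eQ ⟨u, hu⟩ := fun h => hne (congrArg Subtype.val (eQ.injective h))
  have hn' : eQ ⟨v, hv⟩ ≠ (eQ ⟨u, hu⟩)⁻¹ := fun h => hne' (by
    rw [← map_inv] at h; exact congrArg Subtype.val (eQ.injective h))
  have hgu : g * u * g⁻¹ ∈ Q := by rcases h0 with e | e <;> rw [e] <;> simp [hu]
  have hgv : g * v * g⁻¹ ∈ Q := by rcases h1 with e | e <;> rw [e] <;> simp [hv]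
  obtain ⟨w, hwu, hwv⟩ := q8_signs _ _ hu' hv' hn hn' (eQ ⟨_, hgu⟩) (eQ ⟨_, hgv⟩)
    (h0.imp (fun e => congrArg eQ (Subtype.ext e)) fun e => by
      rw [← map_inv]; exact congrArg eQ (Subtype.ext e))
    (h1.imp (fun e => congrArg eQ (Subtype.ext e)) fun e => by
      rw [← map_inv]; exact congrArg eQ (Subtype.ext e))
  obtain ⟨⟨w, hwQ⟩, rfl⟩ := eQ.surjective w
  rw [← map_inv, ← map_mul, ← map_mul] at hwu hwv
  have eu : w * u * w⁻¹ = g * u * g⁻¹ := congrArg Subtype.val (eQ.injective hwu)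
  have ev : w * v * w⁻¹ = g * v * g⁻¹ := congrArg Subtype.val (eQ.injective hwv)
  have hcu : Commute (w⁻¹ * g) u := by
    have : w⁻¹ * g * u * (w⁻¹ * g)⁻¹ = u := by
      rw [show w⁻¹ * g * u * (w⁻¹ * g)⁻¹ = w⁻¹ * (g * u * g⁻¹) * w by group, ← eu]; group
    exact mul_inv_eq_iff_eq_mul.1 this
  have hcv : Commute (w⁻¹ * g) v := by
    have : w⁻¹ * g * v * (w⁻¹ * g)⁻¹ = v := by
      rw [show w⁻¹ * g * v * (w⁻¹ * g)⁻¹ = w⁻¹ * (g * v * g⁻¹) * w by group, ← ev]; group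
    exact mul_inv_eq_iff_eq_mul.1 this
  refine ⟨w, hwQ, Subgroup.mem_centralizer_iff.2 fun w' hw' => ?_⟩
  obtain ⟨i, j, rfl⟩ := quat_gen eQ hu hv hu2 hv2 hne hne' hw'
  exact ((hcu.pow_right i).mul_right (hcv.pow_right j)).symm.eq

/-- A quaternion group of order eight as an instance of `Three`. -/
def threeQuat (hu : u ∈ Q) (hv : v ∈ Q) (hu2 : u * u ≠ 1) (hv2 : v * v ≠ 1) (hne : v ≠ u)
    (hne' : v ≠ u⁻¹) : Three Q :=
  have hu' : eQ ⟨u, hu⟩ * eQ ⟨u, hu⟩ ≠ 1 := by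
    rw [← map_mul, Ne, MulEquiv.map_eq_one_iff]; exact fun h => hu2 (congrArg Subtype.val h)
  have hv' : eQ ⟨v, hv⟩ * eQ ⟨v, hv⟩ ≠ 1 := by
    rw [← map_mul, Ne, MulEquiv.map_eq_one_iff]; exact fun h => hv2 (congrArg Subtype.val h)
  have hn : eQ ⟨v, hv⟩ ≠ eQ ⟨u, hu⟩ := fun h => hne (congrArg Subtype.val (eQ.injective h))
  have hn' : eQ ⟨v, hv⟩ ≠ (eQ ⟨u, hu⟩)⁻¹ := fun h => hne' (by
    rw [← map_inv] at h; exact congrArg Subtype.val (eQ.injective h))
  have hm : ∀ m, (![u, v, u * v] : Fin 3 → G) m ∈ Q := by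
    intro m; fin_cases m; exacts [hu, hv, mul_mem hu hv]
  have hm2 : ∀ m, (![u, v, u * v] : Fin 3 → G) m * (![u, v, u * v] : Fin 3 → G) m ≠ 1 := by
    intro m
    fin_cases m
    · exact hu2
    · exact hv2
    · intro h
      exact (q8_sep _ _ hu' hv' hn hn').1 (by
        rw [← map_mul, ← map_mul, MulEquiv.map_eq_one_iff]; exact Subtype.ext h)
  { c := ![u, v, u * v]
    mem := hm
    sep := by
      obtain ⟨-, s1, s2, s3, s4⟩ := q8_sep _ _ hu' hv' hn hn'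
      rw [← map_mul] at s1 s2 s3 s4
      rw [← map_inv] at s2 s4
      have t1 : u * v ≠ u := fun h => s1 (congrArg eQ (Subtype.ext h))
      have t2 : u * v ≠ u⁻¹ := fun h => s2 (congrArg eQ (Subtype.ext h))
      have t3 : u * v ≠ v := fun h => s3 (congrArg eQ (Subtype.ext h))
      have t4 : u * v ≠ v⁻¹ := fun h => s4 (congrArg eQ (Subtype.ext h))
      have r1 : u ≠ v⁻¹ := fun e => hne' (by rw [e, inv_inv])
      have r2 : u ≠ (u * v)⁻¹ := fun e => t2 (inv_eq_iff_eq_inv.1 e.symm)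
      have r3 : v ≠ (u * v)⁻¹ := fun e => t4 (inv_eq_iff_eq_inv.1 e.symm)
      intro m m' h
      fin_cases m <;> fin_cases m' <;>
        first
        | rfl
        | exact absurd h (not_or.2 ⟨hne, hne'⟩)
        | exact absurd h (not_or.2 ⟨hne.symm, r1⟩)
        | exact absurd h (not_or.2 ⟨t1, t2⟩)
        | exact absurd h (not_or.2 ⟨t3, t4⟩)
        | exact absurd h (not_or.2 ⟨t1.symm, r2⟩)
        | exact absurd h (not_or.2 ⟨t3.symm, r3⟩)
    cases := by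
      intro g hg m
      have hw := (Subgroup.mem_set_normalizer_iff.1 hg _).1 (hm m)
      have hw2 : eQ ⟨_, hw⟩ * eQ ⟨_, hw⟩ ≠ 1 := by
        rw [← map_mul, Ne, MulEquiv.map_eq_one_iff]
        intro h
        refine hm2 m ?_
        have h' := congrArg Subtype.val h
        simp only [Subgroup.coe_mul, Subgroup.coe_one, conj_mul, conj_eq_one_iff] at h'
        exact h'
      rcases q8_cover _ _ hu' hv' hn hn' _ hw2 with h | h | h | h | h | h
      · exact ⟨0, Or.inl (congrArg Subtype.val (eQ.injective h))⟩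
      · rw [← map_inv] at h
        exact ⟨0, Or.inr (congrArg Subtype.val (eQ.injective h))⟩
      · exact ⟨1, Or.inl (congrArg Subtype.val (eQ.injective h))⟩
      · rw [← map_inv] at h
        exact ⟨1, Or.inr (congrArg Subtype.val (eQ.injective h))⟩
      · rw [← map_mul] at h
        exact ⟨2, Or.inl (congrArg Subtype.val (eQ.injective h))⟩
      · rw [← map_mul, ← map_inv] at h
        exact ⟨2, Or.inr (congrArg Subtype.val (eQ.injective h))⟩
    inner := by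
      intro w hw m
      rcases q8_conj (eQ ⟨_, hm m⟩) (eQ ⟨w, hw⟩) with h | h
      · rw [← map_inv, ← map_mul, ← map_mul] at h
        exact Or.inl (congrArg Subtype.val (eQ.injective h))
      · rw [← map_inv, ← map_inv, ← map_mul, ← map_mul] at h
        exact Or.inr (congrArg Subtype.val (eQ.injective h))
    faithful := by
      intro g _ h
      obtain ⟨w, hw, hc⟩ := quat_split eQ hu hv hu2 hv2 hne hne' (h 0) (h 1)
      rw [show g = w * (w⁻¹ * g) by rw [mul_inv_cancel_left]]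
      exact mul_mem (Subgroup.mem_sup_left hw) (Subgroup.mem_sup_right hc)
    prod := rfl }

end Quaternion

end Cfsg.Agent.Lib.Involutions
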