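import Mathlib
import Cfsg.Agent.Lib.Involutions.QDFacts
import Cfsg.Agent.Lib.Involutions.ThreeInstances
import Cfsg.Agent.Lib.Involutions.Fusion
import Cfsg.Agent.Lib.Involutions.DihedralKlein
import Cfsg.Agent.Lib.LocalEven2.Basic
import Cfsg.Agent.Lib.Fusion.GroupSystem
import Cfsg.Agent.S1190
import Cfsg.Agent.S1191

/-!
# Fusion in groups with quasi-dihedral Sylow 2-subgroups
-/

namespace Cfsg.Agent.Lib.Involutions

variable {G : Type*} [Group G]

theorem isQuasiDihedral_of_mulEquiv {A B : Type*} [Group A] [Group B] (e : A ≃* B)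
    (h : Cfsg.IsQuasiDihedral A) : Cfsg.IsQuasiDihedral B := by
  obtain ⟨n, hn, hc, x, y, hx, hy, hxy⟩ := h
  refine ⟨n, hn, by rw [← Nat.card_congr e.toEquiv, hc], e x, e y, ?_, ?_, ?_⟩
  · rw [MulEquiv.orderOf_eq, hx]
  · rw [MulEquiv.orderOf_eq, hy]
  · rw [← map_inv, ← map_mul, ← map_mul, hxy, map_pow]

variable [Finite G]

/-- In a group with quasi-dihedral Sylow subgroups a four-group is self-centralizing in 2-groups. -/
theorem klein_two_centralizer (S : Sylow 2 G) (hS : Cfsg.IsQuasiDihedral (S : Subgroup G))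
    {T R : Subgroup G} (hT : IsKleinFour T) (hR : IsPGroup 2 R) (hTR : T ≤ R) {u : G} (hu : u ∈ R)
    (hc : u ∈ Subgroup.centralizer (T : Set G)) : u ∈ T := by
  obtain ⟨S', hS'⟩ := hR.exists_le_sylow
  have hqd := isQuasiDihedral_of_mulEquiv (Sylow.equiv S S') hS
  have hT' : IsKleinFour (T.subgroupOf (S' : Subgroup G)) := isKleinFour_of_sq
    (by rw [Nat.card_congr (Subgroup.subgroupOfEquivOfLe (hTR.trans hS')).toEquiv, hT.card_four])
    (fun g hg => Subtype.ext (isKleinFour_sq hT hg))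
  have := (((Cfsg.Agent.S1190.result hqd).2 _ hT').1).le
    (show (⟨u, hS' hu⟩ : (S' : Subgroup G)) ∈ Subgroup.centralizer _ from
      Subgroup.mem_centralizer_iff.2 fun v hv =>
        Subtype.ext (Subgroup.mem_centralizer_iff.1 hc v hv))
  exact this

theorem quat_two_centralizer (S : Sylow 2 G) (hS : Cfsg.IsQuasiDihedral (S : Subgroup G))
    {Q R : Subgroup G} (eQ : Q ≃* QuaternionGroup 2) (hR : IsPGroup 2 R) (hQR : Q ≤ R) {u : G}
    (hu : u ∈ R) (hc : u ∈ Subgroup.centralizer (Q : Set G)) : u ∈ Q := by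
  obtain ⟨S', hS'⟩ := hR.exists_le_sylow
  have hqd := isQuasiDihedral_of_mulEquiv (Sylow.equiv S S') hS
  have h1 := (((Cfsg.Agent.S1191.result hqd).2 (Q.subgroupOf (S' : Subgroup G))
    ⟨(Subgroup.subgroupOfEquivOfLe (hQR.trans hS')).trans eQ⟩).1).le
    (show (⟨u, hS' hu⟩ : (S' : Subgroup G)) ∈ Subgroup.centralizer _ from
      Subgroup.mem_centralizer_iff.2 fun v hv =>
        Subtype.ext (Subgroup.mem_centralizer_iff.1 hc v hv))
  obtain ⟨w, -, hw⟩ := h1
  have := congrArg Subtype.val hw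
  exact (show u = ((w : (S' : Subgroup G)) : G) from this.symm) ▸ w.2

/-- A 2-subgroup grows inside a subgroup whose 2-part is bigger. -/
theorem exists_grow (S : Sylow 2 G) {T C : Subgroup G} (hT : IsPGroup 2 T) (hTC : T ≤ C)
    (hlt : Nat.card T < Nat.card (S : Subgroup G)) {P : Subgroup G} (hP : IsPGroup 2 P)
    (hPC : P ≤ C) (hPc : Nat.card P = Nat.card (S : Subgroup G)) :
    ∃ R : Subgroup G, IsPGroup 2 R ∧ R ≤ C ∧ T ≤ R ∧
      ∃ u ∈ R, u ∉ T ∧ u ∈ Subgroup.normalizer (T : Set G) := by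
  have : Fact (Nat.Prime 2) := ⟨Nat.prime_two⟩
  obtain ⟨R₀, hR₀⟩ := (hT.comap_of_injective C.subtype Subtype.val_injective).exists_le_sylow
  obtain ⟨R₁, hR₁⟩ := (hP.comap_of_injective C.subtype Subtype.val_injective).exists_le_sylow
  have hTR : T ≤ (R₀ : Subgroup C).map C.subtype := fun g hg => ⟨⟨g, hTC hg⟩, hR₀ hg, rfl⟩
  have hPR : P ≤ (R₁ : Subgroup C).map C.subtype := fun g hg => ⟨⟨g, hPC hg⟩, hR₁ hg, rfl⟩
  have hne : T ≠ (R₀ : Subgroup C).map C.subtype := fun he => by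
    have h1 := Subgroup.card_le_of_le hPR
    rw [Subgroup.card_map_of_injective Subtype.val_injective,
      Nat.card_congr (Sylow.equiv R₁ R₀).toEquiv] at h1
    rw [he, Subgroup.card_map_of_injective Subtype.val_injective] at hlt
    omega
  obtain ⟨u, hu, huT, huN⟩ := Cfsg.Agent.Lib.LocalEven2.exists_normalizer_not_mem
    (R₀.isPGroup'.map C.subtype) (lt_of_le_of_ne hTR hne)
  exact ⟨_, R₀.isPGroup'.map _, Subgroup.map_subtype_le _, hTR, u, hu, huT, huN⟩

/-- A 2-element is a root of unity of 2-power order. -/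
theorem exists_pow_two_pow (S : Sylow 2 G) (g : (S : Subgroup G)) :
    ∃ k : ℕ, (g : G) ^ 2 ^ k = 1 := by
  obtain ⟨k, hk⟩ := S.isPGroup' g
  exact ⟨k, congrArg Subtype.val hk⟩

theorem isConj_coe {H : Subgroup G} {u v : H} (h : IsConj u v) : IsConj (u : G) (v : G) :=
  H.subtype.map_isConj h

theorem orderOf_eq_of_isConj {u v : G} (h : IsConj u v) : orderOf u = orderOf v := by
  obtain ⟨g, rfl⟩ := isConj_iff.1 h
  rw [orderOf_conj_eq]

namespace QDFusion

variable (S : Sylow 2 G) {x y : (S : Subgroup G)} {n : ℕ} (h : QDGen x y n)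

/-- `z` and `y` are fused. -/
def InvolFused (_h : QDGen x y n) : Prop :=
  IsConj ((x ^ ((2 : ℤ) ^ (n - 1)) : (S : Subgroup G)) : G) ((x ^ (0 : ℤ) * y : (S : Subgroup G)) : G)

/-- `a` and `x y` are fused. -/
def FourFused (_h : QDGen x y n) : Prop :=
  IsConj ((x ^ ((2 : ℤ) ^ (n - 2)) : (S : Subgroup G)) : G) ((x ^ (1 : ℤ) * y : (S : Subgroup G)) : G)

include h

theorem isQD : Cfsg.IsQuasiDihedral (S : Subgroup G) := by
  refine ⟨n, h.hn, h.card, x, y, h.ox, h.oy, ?_⟩
  rw [h.conj, qdExp, ← zpow_natCast, Nat.cast_sub Nat.one_le_two_pow]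
  norm_num

theorem involFused_iff {e : ℤ} (he : Even e) : InvolFused S h ↔
    IsConj ((x ^ ((2 : ℤ) ^ (n - 1)) : (S : Subgroup G)) : G) ((x ^ e * y : (S : Subgroup G)) : G) := by
  have := isConj_coe (h.isConj_zpow_y (i := e) (i' := 0) (by simpa using he))
  exact ⟨fun h1 => h1.trans this.symm, fun h1 => h1.trans this⟩

theorem fourFused_iff {o : ℤ} (ho : Odd o) : FourFused S h ↔
    IsConj ((x ^ ((2 : ℤ) ^ (n - 2)) : (S : Subgroup G)) : G) ((x ^ o * y : (S : Subgroup G)) : G) := by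
  have := isConj_coe (h.isConj_zpow_y (i := o) (i' := 1) (odd_one.sub_odd ho))
  exact ⟨fun h1 => h1.trans this.symm, fun h1 => h1.trans this⟩

/-- The automiser of a four-group. -/
theorem klein_main {T : Subgroup G} (hT : IsKleinFour T) (hTS : T ≤ (S : Subgroup G)) :
    ∃ t : Three T, t.c 0 = ((x ^ ((2 : ℤ) ^ (n - 1)) : (S : Subgroup G)) : G) ∧
      (∃ e : ℤ, Even e ∧ t.c 1 = ((x ^ e * y : (S : Subgroup G)) : G)) ∧
      ((T ⊔ Subgroup.centralizer (T : Set G)).relIndex (Subgroup.normalizer (T : Set G)) = 2 ∨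
        (T ⊔ Subgroup.centralizer (T : Set G)).relIndex (Subgroup.normalizer (T : Set G)) = 6) ∧
      ((T ⊔ Subgroup.centralizer (T : Set G)).relIndex (Subgroup.normalizer (T : Set G)) = 6 ↔
        InvolFused S h) := by
  have hT' : IsKleinFour (T.subgroupOf (S : Subgroup G)) := isKleinFour_of_sq
    (by rw [Nat.card_congr (Subgroup.subgroupOfEquivOfLe hTS).toEquiv, hT.card_four])
    (fun g hg => Subtype.ext (isKleinFour_sq hT hg))
  obtain ⟨hz, e, he, ht⟩ := h.klein_data hT'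
  rw [Subgroup.mem_subgroupOf] at hz ht
  have hz1 : ((x ^ ((2 : ℤ) ^ (n - 1)) : (S : Subgroup G)) : G) ≠ 1 := fun h1 =>
    h.z_ne_one (Subtype.ext h1)
  have ho := h.orderOf_y_even he
  have ht1 : ((x ^ e * y : (S : Subgroup G)) : G) ≠ 1 := fun h1 =>
    invol_ne_one ho (Subtype.ext h1)
  have hzt : ((x ^ ((2 : ℤ) ^ (n - 1)) : (S : Subgroup G)) : G) ≠
      ((x ^ e * y : (S : Subgroup G)) : G) := fun h1 => h.zpow_y_ne_zpow _ _ (Subtype.ext h1.symm)
  let t := threeKlein hT hz ht hz1 ht1 hzt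
  -- `a` normalizes `T` and exchanges the two non-central involutions
  set A : G := ((x ^ ((2 : ℤ) ^ (n - 2)) : (S : Subgroup G)) : G) with hA
  have hAz : A * t.c 0 * A⁻¹ = t.c 0 := by
    show ((x ^ ((2 : ℤ) ^ (n - 2)) * x ^ ((2 : ℤ) ^ (n - 1)) * (x ^ ((2 : ℤ) ^ (n - 2)))⁻¹ :
      (S : Subgroup G)) : G) = _
    rw [← zpow_add, ← zpow_neg, ← zpow_add, add_neg_cancel_comm]
    rfl
  have hAt : A * t.c 1 * A⁻¹ = t.c 2 :=
    congrArg Subtype.val (h.conj_a_y e)
  have hAN : A ∈ Subgroup.normalizer (T : Set G) := by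
    refine mem_normalizer_of_maps fun v hv => ?_
    rcases klein_elements hT hz ht hz1 ht1 hzt hv with rfl | rfl | rfl | rfl
    · simp
    · show A * t.c 0 * A⁻¹ ∈ T
      rw [hAz]; exact t.mem 0
    · show A * t.c 1 * A⁻¹ ∈ T
      rw [hAt]; exact t.mem 2
    · rw [← conj_mul]
      show A * t.c 0 * A⁻¹ * (A * t.c 1 * A⁻¹) ∈ T
      rw [hAz, hAt]
      exact mul_mem (t.mem 0) (t.mem 2)
  obtain ⟨k, hk⟩ := exists_pow_two_pow S (x ^ ((2 : ℤ) ^ (n - 2)))
  refine ⟨t, rfl, ⟨e, he, rfl⟩, t.two_or_six hAN hk (show (1 : Fin 3) ≠ 2 by decide) (Or.inl hAt),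
    fun h6 => ?_, fun hf => ?_⟩
  · obtain ⟨g, hg | hg⟩ := t.transitive h6 0 1
    · exact (involFused_iff S h he).2 (isConj_iff.2 ⟨g, hg⟩)
    · refine (involFused_iff S h he).2 (isConj_iff.2 ⟨g, hg.trans ?_⟩)
      show (((x ^ e * y : (S : Subgroup G))⁻¹ : (S : Subgroup G)) : G) = _
      rw [invol_inv ho]
  · obtain ⟨g, hg⟩ := isConj_iff.1 ((involFused_iff S h he).1 hf)
    -- a conjugate of `S` centralizes the involution `t.c 1`
    have hSz : (S : Subgroup G).map (MulAut.conj g).toMonoidHom ≤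
        Subgroup.centralizer ({t.c 1} : Set G) := by
      rintro _ ⟨s, hs, rfl⟩
      have hcs := Subgroup.mem_center_iff.1 ((h.center_le_iff _).2 (Or.inr rfl)) ⟨s, hs⟩
      rw [Subgroup.mem_centralizer_singleton_iff]
      show g * s * g⁻¹ * t.c 1 = t.c 1 * (g * s * g⁻¹)
      have hcs' : s * t.c 0 = t.c 0 * s := congrArg Subtype.val hcs
      rw [show t.c 1 = g * t.c 0 * g⁻¹ from hg.symm, conj_mul, conj_mul, hcs']
    obtain ⟨R, hR, hRC, hTR, u, huR, huT, huN⟩ := exists_grow S (klein_isPGroup hT)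
      (show T ≤ Subgroup.centralizer ({t.c 1} : Set G) from fun v hv =>
        Subgroup.mem_centralizer_singleton_iff.2 (isKleinFour_comm hT hv (t.mem 1)))
      (by
        rw [hT.card_four, h.card]
        have := Nat.pow_lt_pow_right (show 1 < 2 by norm_num) (show 2 < n + 1 by have := h.hn; omega)
        omega)
      (S.isPGroup'.map _) hSz (Subgroup.card_map_of_injective (MulAut.conj g).injective)
    refine t.eq_six hAN huN hk (show (1 : Fin 3) ≠ 2 by decide) (Or.inl hAt) ?_ (Or.inl ?_)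
    · rw [klein_sup_centralizer hT]
      exact fun hc => huT (klein_two_centralizer S (isQD S h) hT hR hTR huR hc)
    · rw [Subgroup.mem_centralizer_singleton_iff.1 (hRC huR), mul_inv_cancel_right]

/-- The automiser of a quaternion subgroup of order eight. -/
theorem quat_main {Q : Subgroup G} (hQS : Q ≤ (S : Subgroup G)) (eQ : Q ≃* QuaternionGroup 2) :
    ∃ t : Three Q, t.c 0 = ((x ^ ((2 : ℤ) ^ (n - 2)) : (S : Subgroup G)) : G) ∧
      (∃ o : ℤ, Odd o ∧ t.c 1 = ((x ^ o * y : (S : Subgroup G)) : G)) ∧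
      ((Q ⊔ Subgroup.centralizer (Q : Set G)).relIndex (Subgroup.normalizer (Q : Set G)) = 2 ∨
        (Q ⊔ Subgroup.centralizer (Q : Set G)).relIndex (Subgroup.normalizer (Q : Set G)) = 6) ∧
      ((Q ⊔ Subgroup.centralizer (Q : Set G)).relIndex (Subgroup.normalizer (Q : Set G)) = 6 ↔
        FourFused S h) := by
  obtain ⟨ha, o, ho, hb⟩ := h.quat_data ((Subgroup.subgroupOfEquivOfLe hQS).trans eQ)
  rw [Subgroup.mem_subgroupOf] at ha hb
  set a : (S : Subgroup G) := x ^ ((2 : ℤ) ^ (n - 2)) with haDef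
  set b : (S : Subgroup G) := x ^ o * y with hbDef
  have hbb := h.sq_y_odd ho
  have ha2 : (a : G) * a ≠ 1 := fun h1 => h.z_ne_one (h.a_sq ▸ Subtype.ext h1)
  have hb2 : (b : G) * b ≠ 1 := fun h1 => h.z_ne_one (hbb ▸ Subtype.ext h1)
  have hne : (b : G) ≠ a := fun h1 => h.zpow_y_ne_zpow _ _ (Subtype.ext h1)
  have hne' : (b : G) ≠ (a : G)⁻¹ := fun h1 => h.zpow_y_ne_zpow o (-(2 : ℤ) ^ (n - 2))
    (Subtype.ext (by rw [zpow_neg]; exact h1))
  let t := threeQuat eQ ha hb ha2 hb2 hne hne'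
  set r : (S : Subgroup G) := x ^ ((2 : ℤ) ^ (n - 3)) with hrDef
  have hra : (r : G) * a * (r : G)⁻¹ ∈ Q := by
    have : r * a * r⁻¹ = a := by
      rw [hrDef, haDef, ← zpow_add, ← zpow_neg, ← zpow_add, add_neg_cancel_comm]
    rw [show (r : G) * a * (r : G)⁻¹ = ((r * a * r⁻¹ : (S : Subgroup G)) : G) from rfl, this]
    exact ha
  have hrb : (r : G) * b * (r : G)⁻¹ ∈ Q := by
    rw [show (r : G) * b * (r : G)⁻¹ = ((r * b * r⁻¹ : (S : Subgroup G)) : G) from rfl, hrDef,
      hbDef, h.conj_r_y]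
    exact mul_mem (by rw [Subgroup.coe_zpow]; exact zpow_mem ha _) hb
  have hrN := quat_mem_normalizer eQ ha hb ha2 hb2 hne hne' hra hrb
  obtain ⟨m', hm'⟩ := t.cases _ hrN 1
  have hm1 : (1 : Fin 3) ≠ m' := by
    rintro rfl
    rcases hm' with e | e
    · exact (h.conj_r_y_ne o).1 (Subtype.ext e)
    · refine (h.conj_r_y_ne o).2 ?_
      rw [← h.y_odd_inv ho]
      exact Subtype.ext e
  obtain ⟨k, hk⟩ := exists_pow_two_pow S r
  have hba : b * a * b⁻¹ = a⁻¹ := h.conj_a o
  have hncomm : ¬ Commute (a : G) b := fun hc => by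
    apply ha2
    have : b * a * b⁻¹ = a := Subtype.ext (by
      show (b : G) * a * (b : G)⁻¹ = a
      rw [← hc.eq, mul_inv_cancel_right])
    rw [hba] at this
    have h' := congrArg Subtype.val (eq_inv_iff_mul_eq_one.1 this.symm)
    exact h'
  refine ⟨t, rfl, ⟨o, ho, rfl⟩, t.two_or_six hrN hk hm1 hm', fun h6 => ?_, fun hf => ?_⟩
  · obtain ⟨g, hg | hg⟩ := t.transitive h6 0 1
    · exact (fourFused_iff S h ho).2 (isConj_iff.2 ⟨g, hg⟩)
    · refine (fourFused_iff S h (o := 2 ^ (n - 1) + o) ?_).2 (isConj_iff.2 ⟨g, hg.trans ?_⟩)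
      · rw [h.two_pow_eq.2]; exact (even_two_mul _).add_odd ho
      · show ((b⁻¹ : (S : Subgroup G)) : G) = _
        rw [hbDef, h.y_odd_inv ho, h.mul_xy]
  · obtain ⟨g, hg⟩ := isConj_iff.1 ((fourFused_iff S h ho).1 hf)
    have hnorm : ∀ w : G, w * (b : G) * w⁻¹ ∈ Subgroup.zpowers (b : G) →
        w ∈ Subgroup.normalizer (Subgroup.zpowers (b : G) : Set G) := fun w hw => by
      refine mem_normalizer_of_maps ?_
      rintro _ ⟨i, rfl⟩
      rw [← conj_zpow]
      exact zpow_mem hw i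
    have hSb : (S : Subgroup G).map (MulAut.conj g).toMonoidHom ≤
        Subgroup.normalizer (Subgroup.zpowers (b : G) : Set G) := by
      rintro _ ⟨s, hs, rfl⟩
      refine hnorm _ ?_
      have hsa : (⟨s, hs⟩ : (S : Subgroup G)) * a * (⟨s, hs⟩ : (S : Subgroup G))⁻¹ = a ∨
          (⟨s, hs⟩ : (S : Subgroup G)) * a * (⟨s, hs⟩ : (S : Subgroup G))⁻¹ = a⁻¹ := by
        obtain ⟨i, e | e⟩ := h.normal_form ⟨s, hs⟩ <;> rw [e]
        · left
          rw [haDef, ← zpow_add, ← zpow_neg, ← zpow_add, add_neg_cancel_comm]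
        · exact Or.inr (h.conj_a i)
      show g * s * g⁻¹ * (b : G) * (g * s * g⁻¹)⁻¹ ∈ _
      rw [← hg, show g * s * g⁻¹ * (g * (a : G) * g⁻¹) * (g * s * g⁻¹)⁻¹ =
        g * (s * (a : G) * s⁻¹) * g⁻¹ by group]
      rcases hsa with e | e <;>
        rw [show s * (a : G) * s⁻¹ = _ from congrArg Subtype.val e]
      · exact Subgroup.mem_zpowers _
      · rw [Subgroup.coe_inv, ← conj_inv]
        exact inv_mem (Subgroup.mem_zpowers _)
    obtain ⟨R, hR, hRC, hQR, u, huR, huQ, huN⟩ := exists_grow S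
      (IsPGroup.of_card (n := 3) (by
        rw [Nat.card_congr eQ.toEquiv, Nat.card_eq_fintype_card, QuaternionGroup.card]; norm_num))
      (show Q ≤ Subgroup.normalizer (Subgroup.zpowers (b : G) : Set G) from fun v hv => hnorm v (by
        rcases t.inner v hv 1 with e | e
        · rw [show v * (b : G) * v⁻¹ = (b : G) from e]; exact Subgroup.mem_zpowers _
        · rw [show v * (b : G) * v⁻¹ = (b : G)⁻¹ from e]
          exact inv_mem (Subgroup.mem_zpowers _)))
      (by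
        rw [Nat.card_congr eQ.toEquiv, Nat.card_eq_fintype_card, QuaternionGroup.card, h.card]
        have := Nat.pow_lt_pow_right (show 1 < 2 by norm_num) (show 3 < n + 1 by have := h.hn; omega)
        omega)
      (S.isPGroup'.map _) hSb (Subgroup.card_map_of_injective (MulAut.conj g).injective)
    have hub : u * (b : G) * u⁻¹ ∈ Subgroup.zpowers (b : G) :=
      (Subgroup.mem_set_normalizer_iff.1 (hRC huR) _).1 (Subgroup.mem_zpowers _)
    refine t.eq_six hrN huN hk hm1 hm' (fun huc => huQ ?_) ?_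
    · obtain ⟨w, hw, hwc⟩ := quat_split eQ ha hb ha2 hb2 hne hne'
        (t.fixes_of_mem huN huc 0) (t.fixes_of_mem huN huc 1)
      have := quat_two_centralizer S (isQD S h) eQ hR hQR (mul_mem (inv_mem (hQR hw)) huR) hwc
      simpa using mul_mem hw this
    · obtain ⟨m, hm⟩ := t.cases u huN 1
      have hcm : Commute (t.c m) (b : G) := by
        obtain ⟨i, hi⟩ := hub
        have h1 : Commute (u * (b : G) * u⁻¹) (b : G) := by
          rw [← hi]; exact (Commute.refl _).zpow_left i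
        rcases hm with e | e
        · rwa [show u * (b : G) * u⁻¹ = t.c m from e] at h1
        · rw [show u * (b : G) * u⁻¹ = (t.c m)⁻¹ from e] at h1
          simpa using h1.inv_left
      obtain rfl : m = 1 := by
        match m with
        | 0 => exact absurd hcm hncomm
        | 1 => rfl
        | 2 =>
          exact absurd (by
            have : Commute ((a : G) * b * (b : G)⁻¹) (b : G) :=
              Commute.mul_left hcm (Commute.refl (b : G)).inv_left
            rwa [mul_inv_cancel_right] at this) hncomm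
      exact hm

/-- A 2-element is conjugate into `S`. -/
theorem exists_conj_mem {g : G} {k : ℕ} (hg : orderOf g = 2 ^ k) :
    ∃ u : (S : Subgroup G), IsConj (u : G) g := by
  have : Fact (Nat.Prime 2) := ⟨Nat.prime_two⟩
  obtain ⟨c, hc⟩ := conj_le_sylow S (Y := Subgroup.zpowers g)
    (IsPGroup.of_card (n := k) (by rw [Nat.card_zpowers, hg]))
  exact ⟨⟨c * g * c⁻¹, hc ⟨g, Subgroup.mem_zpowers g, rfl⟩⟩,
    (isConj_iff.2 ⟨c, rfl⟩).symm⟩

theorem classes_invol :
    (InvolFused S h → Nat.card {C : ConjClasses G // ∃ t : G, orderOf t = 2 ∧ ConjClasses.mk t = C} = 1) ∧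
    (¬ InvolFused S h → Nat.card {C : ConjClasses G // ∃ t : G, orderOf t = 2 ∧ ConjClasses.mk t = C} = 2) := by
  have hz2 : orderOf ((x ^ ((2 : ℤ) ^ (n - 1)) : (S : Subgroup G)) : G) = 2 := by
    rw [Subgroup.orderOf_coe, h.orderOf_z]
  have hy2 : orderOf ((x ^ (0 : ℤ) * y : (S : Subgroup G)) : G) = 2 := by
    rw [Subgroup.orderOf_coe, h.orderOf_y_even Even.zero]
  have hall : ∀ t : G, orderOf t = 2 →
      IsConj ((x ^ ((2 : ℤ) ^ (n - 1)) : (S : Subgroup G)) : G) t ∨
      IsConj ((x ^ (0 : ℤ) * y : (S : Subgroup G)) : G) t := by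
    intro t ht
    obtain ⟨u, hu⟩ := exists_conj_mem S h (k := 1) (g := t) (by rw [pow_one]; exact ht)
    have ho : orderOf u = 2 := by rw [← Subgroup.orderOf_coe, orderOf_eq_of_isConj hu, ht]
    rcases h.invol_cases ho with rfl | ⟨e, he, rfl⟩
    · exact Or.inl hu
    · exact Or.inr ((isConj_coe (h.isConj_zpow_y (i := 0) (i' := e) (by simpa using he))).trans hu)
  refine ⟨fun hf => card_classes_eq_of_reps ![((x ^ ((2 : ℤ) ^ (n - 1)) : (S : Subgroup G)) : G)]
    (fun i => by fin_cases i; exact hz2) (fun i j _ => Subsingleton.elim i j) (fun t ht => ⟨0, ?_⟩),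
    fun hf => card_classes_eq_of_reps ![((x ^ ((2 : ℤ) ^ (n - 1)) : (S : Subgroup G)) : G),
      ((x ^ (0 : ℤ) * y : (S : Subgroup G)) : G)]
    (fun i => by fin_cases i; exacts [hz2, hy2]) ?_ (fun t ht => ?_)⟩
  · exact (hall t ht).elim id fun hh => hf.trans hh
  · intro i j hij
    fin_cases i <;> fin_cases j <;> first | rfl | exact absurd hij hf | exact absurd hij.symm hf
  · exact (hall t ht).elim (fun hh => ⟨0, hh⟩) fun hh => ⟨1, hh⟩

theorem classes_four :
    (FourFused S h → Nat.card {C : ConjClasses G // ∃ t : G, orderOf t = 4 ∧ ConjClasses.mk t = C} = 1) ∧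
    (¬ FourFused S h → Nat.card {C : ConjClasses G // ∃ t : G, orderOf t = 4 ∧ ConjClasses.mk t = C} = 2) := by
  have ha4 : orderOf ((x ^ ((2 : ℤ) ^ (n - 2)) : (S : Subgroup G)) : G) = 4 := by
    rw [Subgroup.orderOf_coe, h.orderOf_a]
  have hb4 : orderOf ((x ^ (1 : ℤ) * y : (S : Subgroup G)) : G) = 4 := by
    rw [Subgroup.orderOf_coe, h.orderOf_y_odd odd_one]
  have hall : ∀ t : G, orderOf t = 4 →
      IsConj ((x ^ ((2 : ℤ) ^ (n - 2)) : (S : Subgroup G)) : G) t ∨
      IsConj ((x ^ (1 : ℤ) * y : (S : Subgroup G)) : G) t := by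
    intro t ht
    obtain ⟨u, hu⟩ := exists_conj_mem S h (k := 2) (g := t) (by rw [ht]; norm_num)
    have ho : orderOf u = 4 := by rw [← Subgroup.orderOf_coe, orderOf_eq_of_isConj hu, ht]
    rcases h.four_cases ho with (rfl | rfl) | ⟨o, hodd, rfl⟩
    · exact Or.inl hu
    · exact Or.inl ((isConj_coe h.isConj_a_inv).trans hu)
    · exact Or.inr ((isConj_coe (h.isConj_zpow_y (i := 1) (i' := o) (hodd.sub_odd odd_one))).trans hu)
  refine ⟨fun hf => card_classes_eq_of_reps ![((x ^ ((2 : ℤ) ^ (n - 2)) : (S : Subgroup G)) : G)]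
    (fun i => by fin_cases i; exact ha4) (fun i j _ => Subsingleton.elim i j) (fun t ht => ⟨0, ?_⟩),
    fun hf => card_classes_eq_of_reps ![((x ^ ((2 : ℤ) ^ (n - 2)) : (S : Subgroup G)) : G),
      ((x ^ (1 : ℤ) * y : (S : Subgroup G)) : G)]
    (fun i => by fin_cases i; exacts [ha4, hb4]) ?_ (fun t ht => ?_)⟩
  · exact (hall t ht).elim id fun hh => hf.trans hh
  · intro i j hij
    fin_cases i <;> fin_cases j <;> first | rfl | exact absurd hij hf | exact absurd hij.symm hf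
  · exact (hall t ht).elim (fun hh => ⟨0, hh⟩) fun hh => ⟨1, hh⟩

omit h in
/-- The transfer: a maximal subgroup respected by fusion comes from a subgroup of index two. -/
theorem exists_index_two_of_invariant {M : Subgroup (S : Subgroup G)} (hM : M.index = 2)
    (hinv : ∀ (u v : (S : Subgroup G)), IsConj (u : G) (v : G) → u ∈ M → v ∈ M) :
    ∃ K : Subgroup G, K.Normal ∧ K.index = 2 ∧ ∀ u : (S : Subgroup G), ((u : G) ∈ K ↔ u ∈ M) := by
  classical
  let φ : (S : Subgroup G) →* ℤˣ := MonoidHom.mk' (fun u => if u ∈ M then 1 else -1) fun u v => by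
    have := Subgroup.mul_mem_iff_of_index_two hM (a := u) (b := v)
    by_cases hu : u ∈ M <;> by_cases hv : v ∈ M <;> simp [this, hu, hv]
  have hφ : ∀ u, φ u = 1 ↔ u ∈ M := fun u => by
    show (if u ∈ M then (1 : ℤˣ) else -1) = 1 ↔ _
    by_cases hu : u ∈ M <;> simp [hu]
  have hφeq : ∀ u v : (S : Subgroup G), IsConj (u : G) (v : G) → φ u = φ v := fun u v huv => by
    show (if u ∈ M then (1 : ℤˣ) else -1) = if v ∈ M then 1 else -1
    rw [if_congr (Iff.intro (hinv u v huv) (hinv v u huv.symm)) rfl rfl]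
  set T := MonoidHom.transfer φ with hT
  have hkey : ∀ u : (S : Subgroup G), T (u : G) = φ u := fun u => by
    rw [hT, transfer_eq_pow_of_map_eq φ u fun k g₀ hk => ?_]
    · rcases Int.units_eq_one_or (φ u) with e | e <;> rw [e]
      · rw [one_pow]
      · exact (Nat.odd_iff.2 (Nat.two_dvd_ne_zero.1 S.not_dvd_index)).neg_one_pow
    · rw [← map_pow]
      refine hφeq _ _ (isConj_iff.2 ⟨g₀, ?_⟩)
      show g₀ * (g₀⁻¹ * (u : G) ^ k * g₀) * g₀⁻¹ = (u : G) ^ k
      group
  refine ⟨T.ker, inferInstance, ?_, fun u => by rw [MonoidHom.mem_ker, hkey, hφ]⟩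
  rw [Subgroup.index_ker]
  obtain ⟨u, hu⟩ : ∃ u, u ∉ M := by
    by_contra hcon
    push Not at hcon
    rw [show M = ⊤ from top_le_iff.1 fun u _ => hcon u, Subgroup.index_top] at hM
    norm_num at hM
  have htop : T.range = ⊤ := by
    refine top_le_iff.1 fun e _ => ?_
    rcases Int.units_eq_one_or e with rfl | rfl
    · exact one_mem _
    · refine ⟨u, ?_⟩
      rcases Int.units_eq_one_or (φ u) with e | e
      · exact absurd ((hφ u).1 e) hu
      · rw [hkey, e]
  rw [htop, Subgroup.card_top, Nat.card_eq_fintype_card, Fintype.card_units_int]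

/-- Without fusion of `a` and `x y`, `halfSub 0` is respected. -/
theorem exists_index_two_zero (hf : ¬ FourFused S h) : ∃ K : Subgroup G, K.Normal ∧ K.index = 2 ∧
    ∀ u : (S : Subgroup G), ((u : G) ∈ K ↔ u ∈ h.halfSub 0) := by
  refine exists_index_two_of_invariant S (h.index_halfSub 0) fun u v huv hu => ?_
  by_contra hv
  have ho : orderOf u = orderOf v := by
    rw [← Subgroup.orderOf_coe u, ← Subgroup.orderOf_coe v, orderOf_eq_of_isConj huv]
  rcases h.not_mem_halfSub hv with e | ⟨i, hi, rfl⟩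
  · exact h.orderOf_ne_top hu (ho.trans e)
  rw [sub_zero] at hi
  rw [h.orderOf_y_odd hi] at ho
  refine hf ((fourFused_iff S h hi).2 ?_)
  rcases h.four_cases ho with (rfl | rfl) | ⟨o, hodd, rfl⟩
  · exact huv
  · exact (isConj_coe h.isConj_a_inv).trans huv
  · exact absurd (h.zpow_y_mem_halfSub_iff.1 hu) (by rw [sub_zero, Int.not_even_iff_odd]; exact hodd)

/-- Without fusion of `z` and `y`, `halfSub 1` is respected. -/
theorem exists_index_two_one (hf : ¬ InvolFused S h) : ∃ K : Subgroup G, K.Normal ∧ K.index = 2 ∧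
    ∀ u : (S : Subgroup G), ((u : G) ∈ K ↔ u ∈ h.halfSub 1) := by
  refine exists_index_two_of_invariant S (h.index_halfSub 1) fun u v huv hu => ?_
  by_contra hv
  have ho : orderOf u = orderOf v := by
    rw [← Subgroup.orderOf_coe u, ← Subgroup.orderOf_coe v, orderOf_eq_of_isConj huv]
  rcases h.not_mem_halfSub hv with e | ⟨i, hi, rfl⟩
  · exact h.orderOf_ne_top hu (ho.trans e)
  have hie : Even i := by
    obtain ⟨k, hk⟩ := hi
    exact ⟨k + 1, by omega⟩
  rw [h.orderOf_y_even hie] at ho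
  refine hf ((involFused_iff S h hie).2 ?_)
  rcases h.invol_cases ho with rfl | ⟨e, he, rfl⟩
  · exact huv
  · exact absurd (h.zpow_y_mem_halfSub_iff.1 hu) (by rw [Int.not_even_iff_odd]; exact he.sub_odd odd_one)

/-- Under involution fusion the reflections lie in every subgroup of index two. -/
theorem invol_mem_of_fused {T : Subgroup G} (hT : IsKleinFour T) (hTS : T ≤ (S : Subgroup G))
    (hf : InvolFused S h) {K : Subgroup G} (hK : K.index = 2 ∨ K = ⊤)
    (hin : ∀ i : ℤ, Even i → ((x ^ i * y : (S : Subgroup G)) : G) ∈ K) {H : Subgroup K}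
    (hH : H.index = 2) {i : ℤ} (hi : Even i) :
    (⟨((x ^ i * y : (S : Subgroup G)) : G), hin i hi⟩ : K) ∈ H := by
  obtain ⟨t, -, ⟨e, he, ht1⟩, -, -⟩ := klein_main S h hT hTS
  obtain ⟨j, hj⟩ := h.exists_conj_zpow_y (i := e) (i' := i) (hi.sub he)
  set s : G := ((x ^ j : (S : Subgroup G)) : G)
  have hT' : IsKleinFour (T.map (MulAut.conj s).toMonoidHom) :=
    isKleinFour_map hT _ (MulAut.conj s).injective
  have hTS' : T.map (MulAut.conj s).toMonoidHom ≤ (S : Subgroup G) := by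
    rintro _ ⟨v, hv, rfl⟩
    exact mul_mem (mul_mem (x ^ j).2 (hTS hv)) (inv_mem (x ^ j).2)
  obtain ⟨t', ht0, ⟨e', he', ht1'⟩, -, h6⟩ := klein_main S h hT' hTS'
  have hmem : ((x ^ i * y : (S : Subgroup G)) : G) ∈ T.map (MulAut.conj s).toMonoidHom :=
    ⟨t.c 1, t.mem 1, by rw [ht1]; exact congrArg Subtype.val hj⟩
  have hzK : ((x ^ ((2 : ℤ) ^ (n - 1)) : (S : Subgroup G)) : G) ∈ K := by
    have := mul_mem (hin (2 ^ (n - 1)) (by rw [h.two_pow_eq.2]; exact even_two_mul _))
      (inv_mem (hin 0 Even.zero))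
    rwa [← Subgroup.coe_inv, ← Subgroup.coe_mul, zpow_zero, one_mul, mul_inv_cancel_right] at this
  have hm : ∀ m, t'.c m ∈ K := by
    intro m
    match m with
    | 0 => rw [ht0]; exact hzK
    | 1 => rw [ht1']; exact hin e' he'
    | 2 => rw [t'.prod, ht0, ht1']; exact mul_mem hzK (hin e' he')
  have hall := t'.mem_of_six (h6.2 hf) hK hm hH
  have hne : t'.c 0 ≠ 1 := by
    rw [ht0]; exact fun e => h.z_ne_one (Subtype.ext e)
  have hne1 : t'.c 1 ≠ 1 := by
    rw [ht1']; exact fun e => invol_ne_one (h.orderOf_y_even he') (Subtype.ext e)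
  rcases klein_elements hT' (t'.mem 0) (t'.mem 1) hne hne1
    (fun e => absurd (t'.sep 0 1 (Or.inl e)) (by decide)) hmem with e | e | e | e
  · exact absurd (Subtype.ext e) (invol_ne_one (h.orderOf_y_even hi))
  · convert hall 0 using 2
  · convert hall 1 using 2
  · convert hall 2 using 1; exact Subtype.ext (e.trans t'.prod.symm)

/-- Under fusion of elements of order four, `a` and every `x ^ odd y` lie in every subgroup of
index two. -/
theorem four_mem_of_fused {Q : Subgroup G} (hQS : Q ≤ (S : Subgroup G))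
    (eQ : Q ≃* QuaternionGroup 2) (hf : FourFused S h) {K : Subgroup G}
    (hK : K.index = 2 ∨ K = ⊤) (haK : ((x ^ ((2 : ℤ) ^ (n - 2)) : (S : Subgroup G)) : G) ∈ K)
    (hin : ∀ i : ℤ, Odd i → ((x ^ i * y : (S : Subgroup G)) : G) ∈ K) {H : Subgroup K}
    (hH : H.index = 2) {i : ℤ} (hi : Odd i) :
    (⟨((x ^ i * y : (S : Subgroup G)) : G), hin i hi⟩ : K) ∈ H := by
  obtain ⟨t, -, ⟨o, ho, ht1⟩, -, -⟩ := quat_main S h hQS eQ
  obtain ⟨j, hj⟩ := h.exists_conj_zpow_y (i := o) (i' := i) (hi.sub_odd ho)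
  set s : G := ((x ^ j : (S : Subgroup G)) : G)
  have hQS' : Q.map (MulAut.conj s).toMonoidHom ≤ (S : Subgroup G) := by
    rintro _ ⟨v, hv, rfl⟩
    exact mul_mem (mul_mem (x ^ j).2 (hQS hv)) (inv_mem (x ^ j).2)
  let eQ' : Q.map (MulAut.conj s).toMonoidHom ≃* QuaternionGroup 2 :=
    (Q.equivMapOfInjective _ (MulAut.conj s).injective).symm.trans eQ
  obtain ⟨t', ht0, ⟨o', ho', ht1'⟩, -, h6⟩ := quat_main S h hQS' eQ'
  have hmem : ((x ^ i * y : (S : Subgroup G)) : G) ∈ Q.map (MulAut.conj s).toMonoidHom :=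
    ⟨t.c 1, t.mem 1, by rw [ht1]; exact congrArg Subtype.val hj⟩
  have hm : ∀ m, t'.c m ∈ K := by
    intro m
    match m with
    | 0 => rw [ht0]; exact haK
    | 1 => rw [ht1']; exact hin o' ho'
    | 2 => rw [t'.prod, ht0, ht1']; exact mul_mem haK (hin o' ho')
  have hall := t'.mem_of_six (h6.2 hf) hK hm hH
  have h02 : t'.c 0 * t'.c 0 ≠ 1 := by
    rw [ht0]; exact fun e => h.z_ne_one (h.a_sq ▸ Subtype.ext e)
  have h12 : t'.c 1 * t'.c 1 ≠ 1 := by
    rw [ht1']; exact fun e => h.z_ne_one (h.sq_y_odd ho' ▸ Subtype.ext e)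
  obtain ⟨p, q, hpq⟩ := quat_gen eQ' (t'.mem 0) (t'.mem 1) h02 h12
    (fun e => absurd (t'.sep 1 0 (Or.inl e)) (by decide))
    (fun e => absurd (t'.sep 1 0 (Or.inr e)) (by decide)) hmem
  convert mul_mem (pow_mem (hall 0) p) (pow_mem (hall 1) q) using 1
  exact Subtype.ext hpq

omit h in
/-- A subgroup of index two in a normal subgroup misses part of the Sylow subgroup. -/
theorem not_sylow_part_le {K : Subgroup G} [K.Normal] {H : Subgroup K} (hH : H.index = 2)
    (hle : ∀ u : K, (u : G) ∈ (S : Subgroup G) → u ∈ H) : False := by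
  have h1 : ((S : Subgroup G).subgroupOf K) ≤ H := fun u hu => hle u hu
  have h2 := Subgroup.index_dvd_of_le h1
  rw [hH] at h2
  have : Fact (Nat.Prime 2) := ⟨Nat.prime_two⟩
  obtain ⟨P, hP⟩ := Cfsg.Agent.Lib.Fusion.exists_sylow_subgroupOf_normal S K
  rw [← hP] at h2
  exact P.not_dvd_index h2

end QDFusion

end Cfsg.Agent.Lib.Involutions
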