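import Cfsg.Prelude.Def_CaseTheorems
import Cfsg.Agent.Lib.Involutions.TwoGroupRec
import Mathlib.RingTheory.Coprime.Lemmas

/-!
# Wreathed `2`-groups: normal forms

`WRGen x y z n`: standard generators of `Z_{2^n} ≀ Z_2`. Elements are `el x y i j` or
`el x y i j * z`.
-/

namespace Cfsg.Agent.Lib.Involutions

variable {S : Type*} [Group S]

/-- `x ^ i * y ^ j`. -/
def el (x y : S) (i j : ℤ) : S := x ^ i * y ^ j

/-- Standard generators of a wreathed group. -/
structure WRGen (x y z : S) (n : ℕ) : Prop where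
  hn : 2 ≤ n
  card : Nat.card S = 2 ^ (2 * n + 1)
  ox : orderOf x = 2 ^ n
  comm : x * y = y * x
  disj : Subgroup.zpowers x ⊓ Subgroup.zpowers y = ⊥
  oz : orderOf z = 2
  conj : z * x * z⁻¹ = y

theorem exists_wrGen (h : Cfsg.IsWreathed S) : ∃ (x y z : S) (n : ℕ), WRGen x y z n := by
  obtain ⟨n, hn, hc, x, y, z, hx, hxy, hd, hz, hzx⟩ := h
  exact ⟨x, y, z, n, hn, hc, hx, hxy, hd, hz, hzx⟩

namespace WRGen

variable {x y z : S} {n : ℕ}

theorem oy (h : WRGen x y z n) : orderOf y = 2 ^ n := by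
  rw [← h.conj, orderOf_conj_eq, h.ox]

theorem finite (h : WRGen x y z n) : Finite S :=
  Nat.finite_of_card_ne_zero (by rw [h.card]; positivity)

theorem two_pow_eq (h : WRGen x y z n) : (2 : ℤ) ^ n = 2 * 2 ^ (n - 1) ∧
    (2 : ℤ) ^ (n - 1) = 2 * 2 ^ (n - 2) := by
  have := h.hn
  constructor <;> rw [← pow_succ'] <;> congr 1 <;> omega

theorem el_zero (_h : WRGen x y z n) : el x y 0 0 = 1 := by simp [el]

theorem el_mul (h : WRGen x y z n) (i j k l : ℤ) :
    el x y i j * el x y k l = el x y (i + k) (j + l) := by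
  have hc : Commute (y ^ j) (x ^ k) := (Commute.zpow_zpow h.comm k j).symm
  rw [el, el, el, zpow_add, zpow_add, mul_assoc (x ^ i), ← mul_assoc (y ^ j), hc.eq,
    mul_assoc (x ^ k), ← mul_assoc (x ^ i) (x ^ k)]

theorem el_inv (h : WRGen x y z n) (i j : ℤ) : (el x y i j)⁻¹ = el x y (-i) (-j) := by
  rw [inv_eq_iff_mul_eq_one, h.el_mul, add_neg_cancel, add_neg_cancel, h.el_zero]

theorem el_eq_one_iff (h : WRGen x y z n) {i j : ℤ} :
    el x y i j = 1 ↔ (2 : ℤ) ^ n ∣ i ∧ (2 : ℤ) ^ n ∣ j := by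
  constructor
  · intro he
    rw [el] at he
    have hmem : x ^ i ∈ Subgroup.zpowers x ⊓ Subgroup.zpowers y := by
      refine Subgroup.mem_inf.2 ⟨Subgroup.zpow_mem_zpowers x i, ?_⟩
      rw [eq_inv_of_mul_eq_one_left he]
      exact inv_mem (Subgroup.zpow_mem_zpowers y j)
    rw [h.disj, Subgroup.mem_bot] at hmem
    rw [hmem, one_mul] at he
    rw [← orderOf_dvd_iff_zpow_eq_one, h.ox] at hmem
    rw [← orderOf_dvd_iff_zpow_eq_one, h.oy] at he
    exact ⟨by exact_mod_cast hmem, by exact_mod_cast he⟩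
  · rintro ⟨hi, hj⟩
    have h1 : x ^ i = 1 := orderOf_dvd_iff_zpow_eq_one.1 (by rw [h.ox]; exact_mod_cast hi)
    have h2 : y ^ j = 1 := orderOf_dvd_iff_zpow_eq_one.1 (by rw [h.oy]; exact_mod_cast hj)
    rw [el, h1, h2, one_mul]

theorem el_eq_iff (h : WRGen x y z n) {i j k l : ℤ} :
    el x y i j = el x y k l ↔ (2 : ℤ) ^ n ∣ i - k ∧ (2 : ℤ) ^ n ∣ j - l := by
  rw [← mul_inv_eq_one, h.el_inv, h.el_mul, h.el_eq_one_iff]
  simp [sub_eq_add_neg]

theorem conj_y (h : WRGen x y z n) : z * y * z⁻¹ = x := by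
  rw [← h.conj]
  calc z * (z * x * z⁻¹) * z⁻¹ = (z * z) * x * (z * z)⁻¹ := by group
    _ = x := by rw [invol_mul_self h.oz, inv_one, one_mul, mul_one]

theorem z_mul_el (h : WRGen x y z n) (i j : ℤ) : z * el x y i j = el x y j i * z := by
  have h1 : z * el x y i j * z⁻¹ = el x y j i := by
    rw [el, el, ← conj_mul, ← conj_zpow, ← conj_zpow, h.conj, h.conj_y]
    exact (Commute.zpow_zpow h.comm j i).symm.eq
  exact mul_inv_eq_iff_eq_mul.1 h1

theorem z_inv (h : WRGen x y z n) : z⁻¹ = z := invol_inv h.oz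

theorem mul_ez (h : WRGen x y z n) (i j k l : ℤ) :
    el x y i j * (el x y k l * z) = el x y (i + k) (j + l) * z := by
  rw [← mul_assoc, h.el_mul]

theorem mul_ze (h : WRGen x y z n) (i j k l : ℤ) :
    el x y i j * z * el x y k l = el x y (i + l) (j + k) * z := by
  rw [mul_assoc, h.z_mul_el, ← mul_assoc, h.el_mul]

theorem mul_zz (h : WRGen x y z n) (i j k l : ℤ) :
    el x y i j * z * (el x y k l * z) = el x y (i + l) (j + k) := by
  rw [← mul_assoc, h.mul_ze, mul_assoc _ z z, invol_mul_self h.oz, mul_one]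

theorem inv_z (h : WRGen x y z n) (i j : ℤ) :
    (el x y i j * z)⁻¹ = el x y (-j) (-i) * z := by
  rw [inv_eq_iff_mul_eq_one, h.mul_zz, add_neg_cancel, add_neg_cancel, h.el_zero]

theorem el_y (_h : WRGen x y z n) : el x y 0 1 = y := by simp [el]

theorem el_x (_h : WRGen x y z n) : el x y 1 0 = x := by simp [el]

theorem z_not (h : WRGen x y z n) (i j : ℤ) : z ≠ el x y i j := by
  intro he
  have h1 : z * el x y 1 0 = el x y 1 0 * z := by
    rw [he, h.el_mul, h.el_mul, add_comm i, add_comm j]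
  rw [h.z_mul_el, mul_left_inj, h.el_eq_iff] at h1
  have := Int.le_of_dvd one_pos (by simpa using h1.1)
  have : (2 : ℤ) ^ 1 ≤ 2 ^ n := pow_le_pow_right₀ one_le_two (by have := h.hn; omega)
  omega

theorem el_z_ne_el (h : WRGen x y z n) (i j k l : ℤ) : el x y i j * z ≠ el x y k l := fun he =>
  h.z_not (k - i) (l - j) (by
    rw [eq_inv_mul_of_mul_eq he, h.el_inv, h.el_mul, neg_add_eq_sub, neg_add_eq_sub])

/-- The homocyclic abelian maximal subgroup. -/
def base (h : WRGen x y z n) : Subgroup S where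
  carrier := {g | ∃ i j : ℤ, g = el x y i j}
  one_mem' := ⟨0, 0, h.el_zero.symm⟩
  mul_mem' := by
    rintro a b ⟨i, j, rfl⟩ ⟨k, l, rfl⟩
    exact ⟨_, _, h.el_mul i j k l⟩
  inv_mem' := by
    rintro a ⟨i, j, rfl⟩
    exact ⟨_, _, h.el_inv i j⟩

theorem el_mem_base (h : WRGen x y z n) (i j : ℤ) : el x y i j ∈ h.base := ⟨i, j, rfl⟩

theorem card_base (h : WRGen x y z n) : Nat.card h.base = 2 ^ (2 * n) := by
  let f : ZMod (2 ^ n) × ZMod (2 ^ n) → h.base := fun p =>
    ⟨el x y (p.1.cast : ℤ) (p.2.cast : ℤ), h.el_mem_base _ _⟩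
  have hcast : ∀ a b : ℤ, (2 : ℤ) ^ n ∣ a - b ↔ (a : ZMod (2 ^ n)) = (b : ZMod (2 ^ n)) := fun a b => by
    rw [← sub_eq_zero (a := (a : ZMod (2 ^ n))), ← Int.cast_sub, ZMod.intCast_zmod_eq_zero_iff_dvd]
    push_cast
    rfl
  have hf : Function.Bijective f := by
    constructor
    · intro p q hpq
      have h1 := h.el_eq_iff.1 (congrArg Subtype.val hpq)
      rw [hcast, hcast] at h1
      simp only [ZMod.intCast_zmod_cast] at h1
      exact Prod.ext h1.1 h1.2
    · rintro ⟨g, i, j, rfl⟩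
      refine ⟨((i : ZMod (2 ^ n)), (j : ZMod (2 ^ n))), Subtype.ext (h.el_eq_iff.2 ⟨?_, ?_⟩)⟩ <;>
        rw [hcast, ZMod.intCast_zmod_cast]
  rw [← Nat.card_eq_of_bijective f hf, Nat.card_prod, Nat.card_zmod, ← pow_add, two_mul]

theorem index_base (h : WRGen x y z n) : h.base.index = 2 := by
  have := h.finite
  have h2 := h.base.card_mul_index
  rw [h.card_base, h.card, pow_succ] at h2
  exact Nat.eq_of_mul_eq_mul_left (by positivity) h2

theorem normal_form (h : WRGen x y z n) (g : S) :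
    ∃ i j : ℤ, g = el x y i j ∨ g = el x y i j * z := by
  rcases em (g ∈ h.base) with ⟨i, j, rfl⟩ | hg
  · exact ⟨i, j, Or.inl rfl⟩
  · obtain ⟨i, j, hij⟩ := (Subgroup.mul_mem_iff_of_index_two h.index_base (a := g) (b := z⁻¹)).2
      (iff_of_false hg fun ⟨i, j, hz⟩ => h.z_not i j (h.z_inv ▸ hz))
    exact ⟨i, j, Or.inr (by rw [← hij, inv_mul_cancel_right])⟩

theorem z_mem_base_false (h : WRGen x y z n) (i j : ℤ) : el x y i j * z ∉ h.base :=
  fun ⟨k, l, he⟩ => h.el_z_ne_el i j k l he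

/-- Conjugating an outside element by an element of the base. -/
theorem conj_el_z (h : WRGen x y z n) (a b i j : ℤ) :
    el x y a b * (el x y i j * z) * (el x y a b)⁻¹ =
      el x y (i + (a - b)) (j - (a - b)) * z := by
  rw [h.mul_ez, h.el_inv, h.mul_ze]
  congr 2 <;> ring

theorem conj_z_el (h : WRGen x y z n) (i j k l : ℤ) :
    el x y i j * z * el x y k l * (el x y i j * z)⁻¹ = el x y l k := by
  rw [mul_inv_eq_iff_eq_mul, h.mul_ze, h.mul_ez]
  congr 2 <;> ring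

theorem conj_el_el (h : WRGen x y z n) (i j k l : ℤ) :
    el x y i j * el x y k l * (el x y i j)⁻¹ = el x y k l := by
  rw [h.el_mul, h.el_inv, h.el_mul]
  congr 1 <;> ring

theorem commute_el_z_iff (h : WRGen x y z n) (a b i j : ℤ) :
    Commute (el x y a b) (el x y i j * z) ↔ (2 : ℤ) ^ n ∣ a - b := by
  rw [Commute, SemiconjBy, h.mul_ez, h.mul_ze, mul_left_inj, h.el_eq_iff,
    show a + i - (i + b) = a - b by ring, show b + j - (j + a) = -(a - b) by ring, dvd_neg, and_self]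

theorem center_iff (h : WRGen x y z n) (g : S) :
    g ∈ Subgroup.center S ↔ ∃ k : ℤ, g = el x y k k := by
  constructor
  · intro hg
    obtain ⟨i, j, rfl | rfl⟩ := h.normal_form g
    · have hc : Commute (el x y i j) (el x y 0 0 * z) := (Subgroup.mem_center_iff.1 hg _).symm
      rw [h.commute_el_z_iff] at hc
      exact ⟨i, h.el_eq_iff.2 ⟨by simp, by rw [← dvd_neg, neg_sub]; exact hc⟩⟩
    · exfalso
      have hc : Commute (el x y 1 0) (el x y i j * z) := Subgroup.mem_center_iff.1 hg _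
      rw [h.commute_el_z_iff, sub_zero] at hc
      have := Int.le_of_dvd one_pos hc
      have : (2 : ℤ) ^ 1 ≤ 2 ^ n := pow_le_pow_right₀ one_le_two (by have := h.hn; omega)
      omega
  · rintro ⟨k, rfl⟩
    rw [Subgroup.mem_center_iff]
    intro u
    obtain ⟨i, j, rfl | rfl⟩ := h.normal_form u
    · rw [h.el_mul, h.el_mul, add_comm i, add_comm j]
    · exact ((h.commute_el_z_iff k k i j).2 (by simp)).symm.eq

theorem el_diag_zpow (h : WRGen x y z n) (k : ℤ) : el x y 1 1 ^ k = el x y k k := by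
  rw [el, el, Commute.mul_zpow (Commute.zpow_zpow h.comm 1 1), ← zpow_mul, ← zpow_mul, one_mul]

theorem el_anti_zpow (h : WRGen x y z n) (k : ℤ) : el x y 1 (-1) ^ k = el x y k (-k) := by
  rw [el, el, Commute.mul_zpow (Commute.zpow_zpow h.comm 1 (-1)), ← zpow_mul, ← zpow_mul, one_mul,
    neg_one_mul]

theorem orderOf_el_one (h : WRGen x y z n) (j : ℤ) : orderOf (el x y 1 j) = 2 ^ n := by
  have : Finite S := h.finite
  refine Nat.dvd_antisymm ?_ ?_
  · refine orderOf_dvd_of_pow_eq_one ?_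
    rw [el, Commute.mul_pow (Commute.zpow_zpow h.comm 1 j), zpow_one, ← h.ox, pow_orderOf_eq_one,
      one_mul, ← zpow_natCast, ← zpow_mul, h.ox, ← orderOf_dvd_iff_zpow_eq_one, h.oy]
    exact dvd_mul_left _ _
  · have he := pow_orderOf_eq_one (el x y 1 j)
    rw [el, Commute.mul_pow (Commute.zpow_zpow h.comm 1 j), ← zpow_natCast, ← zpow_natCast,
      ← zpow_mul, ← zpow_mul, one_mul] at he
    have h2 := (h.el_eq_one_iff (i := (orderOf (el x y 1 j) : ℤ))
      (j := j * (orderOf (el x y 1 j) : ℤ))).1 he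
    exact_mod_cast h2.1

/-- An involution of the base. -/
theorem invol_el (h : WRGen x y z n) {i j : ℤ} (hij : orderOf (el x y i j) = 2) :
    el x y i j = el x y (2 ^ (n - 1)) 0 ∨ el x y i j = el x y 0 (2 ^ (n - 1)) ∨
      el x y i j = el x y (2 ^ (n - 1)) (2 ^ (n - 1)) := by
  have h1 := invol_mul_self hij
  rw [h.el_mul, h.el_eq_one_iff, h.two_pow_eq.1, ← two_mul, ← two_mul,
    mul_dvd_mul_iff_left two_ne_zero, mul_dvd_mul_iff_left two_ne_zero] at h1
  have key : ∀ a : ℤ, (2 : ℤ) ^ (n - 1) ∣ a →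
      (2 : ℤ) ^ n ∣ a - 0 ∨ (2 : ℤ) ^ n ∣ a - 2 ^ (n - 1) := by
    rintro a ⟨k, rfl⟩
    rcases Int.even_or_odd k with ⟨m, rfl⟩ | ⟨m, rfl⟩
    · exact Or.inl ⟨m, by rw [h.two_pow_eq.1]; ring⟩
    · exact Or.inr ⟨m, by rw [h.two_pow_eq.1]; ring⟩
  rcases key i h1.1 with hi | hi <;> rcases key j h1.2 with hj | hj
  · exfalso
    refine invol_ne_one hij ?_
    rw [sub_zero] at hi hj
    exact h.el_eq_one_iff.2 ⟨hi, hj⟩
  · exact Or.inr (Or.inl (h.el_eq_iff.2 ⟨hi, hj⟩))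
  · exact Or.inl (h.el_eq_iff.2 ⟨hi, hj⟩)
  · exact Or.inr (Or.inr (h.el_eq_iff.2 ⟨hi, hj⟩))

theorem el_half_ne_one (h : WRGen x y z n) (j : ℤ) : el x y (2 ^ (n - 1)) j ≠ 1 := by
  intro he
  have := (h.el_eq_one_iff.1 he).1
  rw [h.two_pow_eq.1] at this
  have := Int.le_of_dvd (by positivity) this
  have : (0 : ℤ) < 2 ^ (n - 1) := by positivity
  omega

theorem el_half_ne_one' (h : WRGen x y z n) (i : ℤ) : el x y i (2 ^ (n - 1)) ≠ 1 := by
  intro he
  have := (h.el_eq_one_iff.1 he).2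
  rw [h.two_pow_eq.1] at this
  have := Int.le_of_dvd (by positivity) this
  have : (0 : ℤ) < 2 ^ (n - 1) := by positivity
  omega

theorem dvd_half_false (h : WRGen x y z n) : ¬ (2 : ℤ) ^ n ∣ 2 ^ (n - 1) := by
  intro hd
  rw [h.two_pow_eq.1] at hd
  have := Int.le_of_dvd (by positivity) hd
  have : (0 : ℤ) < 2 ^ (n - 1) := by positivity
  omega

theorem orderOf_el_z (h : WRGen x y z n) {i j : ℤ} (hij : (2 : ℤ) ^ n ∣ i + j) :
    orderOf (el x y i j * z) = 2 := by
  refine orderOf_eq_two_of_mul_self ?_ fun he =>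
    h.el_z_ne_el i j 0 0 (by rw [he, h.el_zero])
  rw [h.mul_zz, h.el_eq_one_iff]
  exact ⟨hij, by rw [add_comm]; exact hij⟩

theorem orderOf_el_z_iff (h : WRGen x y z n) {i j : ℤ} :
    orderOf (el x y i j * z) = 2 ↔ (2 : ℤ) ^ n ∣ i + j := by
  refine ⟨fun ho => ?_, h.orderOf_el_z⟩
  have h1 := invol_mul_self ho
  rw [h.mul_zz, h.el_eq_one_iff] at h1
  exact h1.1

/-- The sum of exponents, as a homomorphism. -/
theorem exists_sumHom (h : WRGen x y z n) :
    ∃ ψ : S →* Multiplicative (ZMod (2 ^ n)),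
      ∀ i j : ℤ, ψ (el x y i j) = Multiplicative.ofAdd ((i + j : ℤ) : ZMod (2 ^ n)) ∧
        ψ (el x y i j * z) = Multiplicative.ofAdd ((i + j : ℤ) : ZMod (2 ^ n)) := by
  classical
  have key : ∀ i j k l : ℤ, (2 : ℤ) ^ n ∣ i - k → (2 : ℤ) ^ n ∣ j - l →
      ((i + j : ℤ) : ZMod (2 ^ n)) = ((k + l : ℤ) : ZMod (2 ^ n)) := by
    intro i j k l h1 h2
    rw [ZMod.intCast_eq_intCast_iff_dvd_sub]
    push_cast
    rw [show k + l - (i + j) = -((i - k) + (j - l)) by ring, dvd_neg]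
    exact dvd_add h1 h2
  have hwd : ∀ g : S, ∃ s : ZMod (2 ^ n), ∀ i j : ℤ, (g = el x y i j ∨ g = el x y i j * z) →
      s = ((i + j : ℤ) : ZMod (2 ^ n)) := by
    intro g
    obtain ⟨i, j, hg⟩ := h.normal_form g
    refine ⟨((i + j : ℤ) : ZMod (2 ^ n)), fun k l hk => ?_⟩
    rcases hg with rfl | rfl <;> rcases hk with hk | hk
    · exact key _ _ _ _ (h.el_eq_iff.1 hk).1 (h.el_eq_iff.1 hk).2
    · exact absurd hk.symm (h.el_z_ne_el _ _ _ _)
    · exact absurd hk (h.el_z_ne_el _ _ _ _)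
    · rw [mul_left_inj] at hk
      exact key _ _ _ _ (h.el_eq_iff.1 hk).1 (h.el_eq_iff.1 hk).2
  choose f hf using hwd
  have hmul : ∀ a b, f (a * b) = f a + f b := by
    intro a b
    obtain ⟨i, j, rfl | rfl⟩ := h.normal_form a <;> obtain ⟨k, l, rfl | rfl⟩ := h.normal_form b
    · rw [hf _ _ _ (Or.inl (h.el_mul i j k l)), hf _ i j (Or.inl rfl), hf _ k l (Or.inl rfl),
        ← Int.cast_add]
      congr 1; ring
    · rw [hf _ _ _ (Or.inr (h.mul_ez i j k l)), hf _ i j (Or.inl rfl), hf _ k l (Or.inr rfl),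
        ← Int.cast_add]
      congr 1; ring
    · rw [hf _ _ _ (Or.inr (h.mul_ze i j k l)), hf _ i j (Or.inr rfl), hf _ k l (Or.inl rfl),
        ← Int.cast_add]
      congr 1; ring
    · rw [hf _ _ _ (Or.inl (h.mul_zz i j k l)), hf _ i j (Or.inr rfl), hf _ k l (Or.inr rfl),
        ← Int.cast_add]
      congr 1; ring
  exact ⟨MonoidHom.mk' (fun g => Multiplicative.ofAdd (f g)) fun a b => by rw [hmul]; rfl,
    fun i j => ⟨congrArg Multiplicative.ofAdd (hf _ i j (Or.inl rfl)),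
      congrArg Multiplicative.ofAdd (hf _ i j (Or.inr rfl))⟩⟩

end WRGen

end Cfsg.Agent.Lib.Involutions
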