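import Mathlib
import Cfsg.Agent.Lib.Involutions.Wreathed
import Cfsg.Agent.Lib.Involutions.OddAut

/-!
# Centric subgroups of wreathed groups with an automorphism of odd order

Only the homocyclic maximal subgroup and the conjugates of `vsub = Q₈ ∗ Z(S)` occur.
-/

namespace Cfsg.Agent.Lib.Involutions

variable {S : Type*} [Group S]

theorem mem_zpowers_of_orderOf_eq {A : Type*} [Group A] [Finite A] [IsCyclic A] {a b : A}
    (h : orderOf b = orderOf a) : b ∈ Subgroup.zpowers a := by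
  classical
  have := Fintype.ofFinite A
  have hle := IsCyclic.card_pow_eq_one_le (α := A) (orderOf_pos a)
  have hsub : Finset.univ.filter (fun g : A => g ∈ Subgroup.zpowers a) ⊆
      Finset.univ.filter (fun g : A => g ^ orderOf a = 1) := by
    intro g hg
    rw [Finset.mem_filter] at hg ⊢
    obtain ⟨k, rfl⟩ := Subgroup.mem_zpowers_iff.1 hg.2
    refine ⟨Finset.mem_univ _, ?_⟩
    rw [← zpow_natCast (a ^ k), ← zpow_mul, mul_comm, zpow_mul, zpow_natCast, pow_orderOf_eq_one,
      one_zpow]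
  have heq := Finset.eq_of_subset_of_card_le hsub (by
    refine hle.trans (le_of_eq ?_)
    rw [← Fintype.card_subtype, ← Nat.card_eq_fintype_card]
    exact (Nat.card_zpowers a).symm)
  have hb : b ∈ Finset.univ.filter (fun g : A => g ^ orderOf a = 1) :=
    Finset.mem_filter.2 ⟨Finset.mem_univ _, by rw [← h, pow_orderOf_eq_one]⟩
  rw [← heq] at hb
  exact (Finset.mem_filter.1 hb).2

namespace WRGen

variable {x y z : S} {n : ℕ}

theorem half_dvd_pow (h : WRGen x y z n) : (2 : ℤ) ^ (n - 1) ∣ 2 ^ n := ⟨2, by rw [h.two_pow_eq.1]; ring⟩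

theorem two_dvd_half (h : WRGen x y z n) : (2 : ℤ) ∣ 2 ^ (n - 1) := ⟨_, h.two_pow_eq.2⟩

theorem half_not_dvd (h : WRGen x y z n) : ¬ (2 : ℤ) ^ n ∣ 2 ^ (n - 1) := by
  intro hd
  have := Int.le_of_dvd (by positivity) hd
  rw [h.two_pow_eq.1] at this
  have : (0 : ℤ) < 2 ^ (n - 1) := by positivity
  linarith

theorem el_z_sq (h : WRGen x y z n) (i j : ℤ) :
    el x y i j * z * (el x y i j * z) = el x y (i + j) (i + j) := by
  rw [h.mul_zz, add_comm j i]

theorem el_zpow (h : WRGen x y z n) (i j k : ℤ) : el x y i j ^ k = el x y (i * k) (j * k) := by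
  rw [el, el, Commute.mul_zpow (Commute.zpow_zpow h.comm i j), ← zpow_mul, ← zpow_mul]

/-- `Q₈ ∗ Z(S)`: the elements `x^i y^j` and `x^i y^j z` with `2^(n-1) ∣ i - j`. -/
def vsub (h : WRGen x y z n) : Subgroup S where
  carrier := {g | ∃ i j : ℤ, (2 : ℤ) ^ (n - 1) ∣ i - j ∧ (g = el x y i j ∨ g = el x y i j * z)}
  one_mem' := ⟨0, 0, by simp, Or.inl h.el_zero.symm⟩
  mul_mem' := by
    rintro a b ⟨i, j, hij, rfl | rfl⟩ ⟨k, l, hkl, rfl | rfl⟩
    · exact ⟨_, _, by simpa [sub_add_sub_comm] using dvd_add hij hkl, Or.inl (h.el_mul i j k l)⟩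
    · exact ⟨_, _, by simpa [sub_add_sub_comm] using dvd_add hij hkl, Or.inr (h.mul_ez i j k l)⟩
    · exact ⟨_, _, by simpa [sub_add_sub_comm] using dvd_add hij (dvd_neg.2 hkl), Or.inr (h.mul_ze i j k l)⟩
    · exact ⟨_, _, by simpa [sub_add_sub_comm] using dvd_add hij (dvd_neg.2 hkl), Or.inl (h.mul_zz i j k l)⟩
  inv_mem' := by
    rintro a ⟨i, j, hij, rfl | rfl⟩
    · exact ⟨-i, -j, by rw [show -i - -j = -(i - j) by ring]; exact dvd_neg.2 hij, Or.inl (h.el_inv i j)⟩
    · exact ⟨-j, -i, by rw [show -j - -i = i - j by ring]; exact hij, Or.inr (h.inv_z i j)⟩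

theorem el_mem_vsub_iff (h : WRGen x y z n) (i j : ℤ) :
    el x y i j ∈ h.vsub ↔ (2 : ℤ) ^ (n - 1) ∣ i - j := by
  refine ⟨?_, fun hd => ⟨i, j, hd, Or.inl rfl⟩⟩
  rintro ⟨k, l, hkl, he | he⟩
  · obtain ⟨h1, h2⟩ := h.el_eq_iff.1 he
    have := dvd_add hkl (dvd_sub (dvd_trans h.half_dvd_pow h1) (dvd_trans h.half_dvd_pow h2))
    rwa [show k - l + (i - k - (j - l)) = i - j by ring] at this
  · exact absurd he.symm (h.el_z_ne_el k l i j)

theorem el_z_mem_vsub_iff (h : WRGen x y z n) (i j : ℤ) :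
    el x y i j * z ∈ h.vsub ↔ (2 : ℤ) ^ (n - 1) ∣ i - j := by
  refine ⟨?_, fun hd => ⟨i, j, hd, Or.inr rfl⟩⟩
  rintro ⟨k, l, hkl, he | he⟩
  · exact absurd he (h.el_z_ne_el i j k l)
  · obtain ⟨h1, h2⟩ := h.el_eq_iff.1 (mul_right_cancel he)
    have := dvd_add hkl (dvd_sub (dvd_trans h.half_dvd_pow h1) (dvd_trans h.half_dvd_pow h2))
    rwa [show k - l + (i - k - (j - l)) = i - j by ring] at this

/-- The elements of a subgroup in which a fixed outside element is present. -/
theorem mem_iff_of_mem_el_z (h : WRGen x y z n) {U : Subgroup S} {a b : ℤ}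
    (hw : el x y a b * z ∈ U) (i j : ℤ) :
    el x y i j * z ∈ U ↔ el x y (i - a) (j - b) ∈ U := by
  have e : el x y i j * z = el x y (i - a) (j - b) * (el x y a b * z) := by
    rw [h.mul_ez]; congr 2 <;> ring
  rw [e, Subgroup.mul_mem_cancel_right U hw]

theorem centric_cases (h : WRGen x y z n) (U : Subgroup S)
    (hC : Subgroup.centralizer (U : Set S) ≤ U) :
    U = h.base ∨ (∃ s : S, U.map (MulAut.conj s).toMonoidHom = h.vsub) ∨ NoOddAut U := by
  have := h.finite
  have : Fact (Nat.Prime 2) := ⟨Nat.prime_two⟩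
  have hS : IsPGroup 2 S := IsPGroup.of_card h.card
  have hU : IsPGroup 2 U := hS.to_subgroup U
  have hdiag : ∀ k, el x y k k ∈ U := fun k => hC fun u _ =>
    Subgroup.mem_center_iff.1 ((h.center_iff _).2 ⟨k, rfl⟩) u
  by_cases hle : U ≤ h.base
  · refine Or.inl (le_antisymm hle ?_)
    rintro _ ⟨i, j, rfl⟩
    refine hC fun u hu => ?_
    obtain ⟨k, l, rfl⟩ := hle hu
    rw [h.el_mul, h.el_mul, add_comm k, add_comm l]
  obtain ⟨w, hwU, hwB⟩ := SetLike.not_le_iff_exists.1 hle
  obtain ⟨a, b, hw⟩ : ∃ a b : ℤ, w = el x y a b * z := by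
    obtain ⟨a, b, rfl | rfl⟩ := h.normal_form w
    · exact absurd (h.el_mem_base a b) hwB
    · exact ⟨a, b, rfl⟩
  subst hw
  have hout := h.mem_iff_of_mem_el_z hwU
  have hswap : ∀ i j, el x y i j ∈ U → el x y j i ∈ U := fun i j hij => by
    rw [← h.conj_z_el a b i j]
    exact mul_mem (mul_mem hwU hij) (inv_mem hwU)
  set q : ℤ := 2 ^ (n - 1) with hq
  have h2q : (2 : ℤ) ∣ q := h.two_dvd_half
  have h2n : (2 : ℤ) ∣ 2 ^ n := dvd_trans h2q h.half_dvd_pow
  set W : Set U := {g | (g : S) ∈ h.base} with hW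
  -- once the base part is fixed pointwise we are done
  have hfin : ∀ φ : MulAut U, Odd (orderOf φ) → (∀ g ∈ W, φ g = g) → φ = 1 := by
    intro φ hodd hfix
    apply MulEquiv.ext
    intro g
    show φ g = g
    by_cases hg : g ∈ W
    · exact hfix g hg
    have hφg : φ g ∉ W := fun hm => hg (by
      have := hfix _ hm
      rw [φ.injective this] at hm
      exact hm)
    refine fix_of_moves_by_fixed hU hodd (c := g⁻¹ * φ g) (hfix _ ?_) (by rw [mul_inv_cancel_left])
    show (g : S)⁻¹ * (φ g : S) ∈ h.base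
    exact (Subgroup.mul_mem_iff_of_index_two h.index_base).2
      (iff_of_false (fun hm => hg (inv_mem_iff.1 hm)) hφg)
  by_cases hA : ∀ i j, el x y i j ∈ U → (2 : ℤ) ^ n ∣ i - j
  · -- the base part is the centre, so `U` is abelian
    refine Or.inr (Or.inr fun φ hodd => hfin φ hodd ?_)
    have hWc : ∀ g ∈ W, ∃ k, (g : S) = el x y k k := by
      intro g hg
      obtain ⟨i, j, hgij⟩ := hg
      exact ⟨i, hgij.trans (h.el_eq_iff.2 ⟨by simp, by rw [← dvd_neg, neg_sub]; exact hA i j (hgij ▸ g.2)⟩)⟩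
    rcases Int.even_or_odd' (a + b) with ⟨m, hm | hm⟩
    · -- `⟨c⟩` and `⟨c w₀⟩` are the only possible images of `⟨c⟩`
      let c : U := ⟨el x y 1 1, hdiag 1⟩
      have hc : ∀ g ∈ W, g ∈ Subgroup.zpowers c := by
        intro g hg
        obtain ⟨k, hk⟩ := hWc g hg
        exact ⟨k, Subtype.ext (by rw [hk, ← h.el_diag_zpow]; rfl)⟩
      let t : U := ⟨el x y (a - m) (b - m) * z, (hout _ _).2 (by
        rw [show a - m - a = -m by ring, show b - m - b = -m by ring]; exact hdiag _)⟩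
      let c' : U := c * t
      have ht2 : t * t = 1 := Subtype.ext (by
        show el x y (a - m) (b - m) * z * (el x y (a - m) (b - m) * z) = 1
        rw [h.el_z_sq, show a - m + (b - m) = 0 by omega]
        exact h.el_zero)
      have hct : Commute c t := Subtype.ext ((h.commute_el_z_iff 1 1 _ _).2 (by simp)).eq
      have hoc : orderOf c = 2 ^ n := by
        rw [← Subgroup.orderOf_coe]
        refine Nat.dvd_antisymm (orderOf_dvd_of_pow_eq_one ?_) ?_
        · show el x y 1 1 ^ 2 ^ n = 1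
          rw [← zpow_natCast, h.el_diag_zpow, h.el_eq_one_iff]
          simp
        · rw [← Int.natCast_dvd_natCast]
          have h1 : el x y 1 1 ^ orderOf (el x y 1 1) = 1 := pow_orderOf_eq_one _
          rw [← zpow_natCast, h.el_diag_zpow, h.el_eq_one_iff] at h1
          push_cast
          exact h1.1
      have hpow : ∀ k : ℤ, Even k → c' ^ k = c ^ k := by
        rintro k ⟨i, rfl⟩
        rw [show c' ^ (i + i) = (c * t) ^ (i + i) from rfl, hct.mul_zpow, ← two_mul, zpow_mul t,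
          zpow_two, ht2, one_zpow, mul_one]
      have hpow' : ∀ k : ℤ, Odd k → c' ^ k = c ^ k * t := by
        rintro k ⟨i, rfl⟩
        rw [show c' ^ (2 * i + 1) = (c * t) ^ (2 * i + 1) from rfl, hct.mul_zpow, zpow_add t,
          zpow_mul t, zpow_two, ht2, one_zpow, one_mul, zpow_one]
      have hoc' : orderOf c' = orderOf c := by
        refine Nat.dvd_antisymm (orderOf_dvd_of_pow_eq_one ?_) (orderOf_dvd_of_pow_eq_one ?_)
        · rw [hoc, ← zpow_natCast, hpow _ (by push_cast; exact even_iff_two_dvd.2 h2n),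
            zpow_natCast, ← hoc, pow_orderOf_eq_one]
        · rcases Nat.even_or_odd (orderOf c') with he | ho
          · rw [← zpow_natCast, ← hpow _ (by exact_mod_cast he), zpow_natCast, pow_orderOf_eq_one]
          · exfalso
            have h1 : c' ^ (orderOf c' : ℤ) = 1 := by rw [zpow_natCast, pow_orderOf_eq_one]
            rw [hpow' _ (by exact_mod_cast ho)] at h1
            have h2 : (t : S) ∈ h.base := by
              rw [eq_inv_of_mul_eq_one_right h1, Subgroup.coe_inv, Subgroup.coe_zpow]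
              exact inv_mem (zpow_mem (h.el_mem_base 1 1) _)
            exact h.z_mem_base_false _ _ h2
      have hfix : φ c = c := by
        refine fix_cyclic_of_two hU hodd (g' := c') hoc' fun f => ?_
        by_cases hg : f c ∈ W
        · exact Or.inl (hc _ hg)
        have htW : t ∉ W := fun ht => h.z_mem_base_false _ _ ht
        have hmem : f c * t ∈ W :=
          (Subgroup.mul_mem_iff_of_index_two h.index_base).2 (iff_of_false hg htW)
        obtain ⟨k, hk⟩ := Subgroup.mem_zpowers_iff.1 (hc _ hmem)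
        have hfc : f c = c ^ k * t := by rw [hk, mul_assoc, ht2, mul_one]
        rcases Int.even_or_odd k with he | ho
        · -- impossible: the order would be too small
          exfalso
          obtain ⟨i, rfl⟩ := he
          have h1 : f c ^ (q : ℤ) = 1 := by
            obtain ⟨r, hr⟩ := h2q
            rw [hfc, (hct.zpow_left _).mul_zpow, ← zpow_mul, hr, zpow_mul t, zpow_two, ht2,
              one_zpow, mul_one, show (i + i) * (2 * r) = (2 : ℤ) * q * i by rw [hr]; ring,
              zpow_mul, hq, ← h.two_pow_eq.1]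
            rw [show ((2 : ℤ) ^ n) = ((orderOf c : ℕ) : ℤ) by rw [hoc]; push_cast; rfl, zpow_natCast,
              pow_orderOf_eq_one, one_zpow]
          rw [← map_zpow, MulEquiv.map_eq_one_iff, ← orderOf_dvd_iff_zpow_eq_one, hoc] at h1
          exact h.half_not_dvd (by push_cast at h1; rwa [hq] at h1)
        · exact Or.inr (Subgroup.mem_zpowers_iff.2 ⟨k, by rw [hpow' k ho, hfc]⟩)
      intro g hg
      obtain ⟨k, rfl⟩ := Subgroup.mem_zpowers_iff.1 (hc g hg)
      rw [map_zpow, hfix]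
    · -- `U` is cyclic
      let u : U := ⟨el x y a b * z, hwU⟩
      have hall : ∀ g : U, g ∈ Subgroup.zpowers u := by
        have hW' : ∀ g : U, g ∈ W → g ∈ Subgroup.zpowers u := by
          intro g hg
          obtain ⟨k, hk⟩ := hWc g hg
          obtain ⟨r, s, hrs⟩ : ∃ r s : ℤ, r * (2 * m + 1) + s * 2 ^ n = k := by
            obtain ⟨r, s, hrs⟩ : IsCoprime (2 * m + 1) ((2 : ℤ) ^ n) :=
              IsCoprime.pow_right ⟨1, -m, by ring⟩
            exact ⟨k * r, k * s, by linear_combination k * hrs⟩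
          refine Subgroup.mem_zpowers_iff.2 ⟨2 * r, Subtype.ext ?_⟩
          rw [Subgroup.coe_zpow, zpow_mul, zpow_two, hk]
          show (el x y a b * z * (el x y a b * z)) ^ r = _
          rw [h.el_z_sq, h.el_zpow, h.el_eq_iff]
          refine ⟨⟨-s, ?_⟩, ⟨-s, ?_⟩⟩ <;> rw [hm] <;> linear_combination hrs
        intro g
        by_cases hg : g ∈ W
        · exact hW' g hg
        have hmem : g * u ∈ W :=
          (Subgroup.mul_mem_iff_of_index_two h.index_base).2 (iff_of_false hg (h.z_mem_base_false a b))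
        rw [show g = g * u * u⁻¹ by group]
        exact mul_mem (hW' _ hmem) (inv_mem (Subgroup.mem_zpowers u))
      intro g _
      obtain ⟨k, rfl⟩ := Subgroup.mem_zpowers_iff.1 (hall g)
      rw [map_zpow, fix_cyclic hU hodd (hall _)]
  push Not at hA
  obtain ⟨i₀, j₀, hij₀, hd₀⟩ := hA
  -- the centre of `U` is the centre of `S`
  have hcen : ∀ g : U, g ∈ Subgroup.center U → ∃ k, (g : S) = el x y k k := by
    intro g hg
    obtain ⟨k, l, hk | hk⟩ := h.normal_form (g : S)
    · have hc : Commute (el x y k l) (el x y a b * z) := by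
        rw [← hk]
        exact (congrArg Subtype.val (Subgroup.mem_center_iff.1 hg ⟨_, hwU⟩)).symm
      rw [h.commute_el_z_iff] at hc
      exact ⟨k, hk.trans (h.el_eq_iff.2 ⟨by simp, by rw [← dvd_neg, neg_sub]; exact hc⟩)⟩
    · exfalso
      have hc : Commute (el x y i₀ j₀) (el x y k l * z) := by
        rw [← hk]
        exact congrArg Subtype.val (Subgroup.mem_center_iff.1 hg ⟨_, hij₀⟩)
      exact hd₀ ((h.commute_el_z_iff _ _ _ _).1 hc)
  have hfixC : ∀ φ : MulAut U, Odd (orderOf φ) → ∀ k, φ ⟨_, hdiag k⟩ = ⟨_, hdiag k⟩ := by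
    intro φ hodd k
    have hmem : (⟨el x y 1 1, hdiag 1⟩ : U) ∈ Subgroup.center U :=
      Subgroup.mem_center_iff.2 fun g => Subtype.ext
        (Subgroup.mem_center_iff.1 ((h.center_iff _).2 ⟨1, rfl⟩) (g : S))
    have hφ : φ ⟨el x y 1 1, hdiag 1⟩ ∈ Subgroup.center U := by
      rw [Subgroup.mem_center_iff]
      intro g
      obtain ⟨g', rfl⟩ := φ.surjective g
      rw [← map_mul, ← map_mul, Subgroup.mem_center_iff.1 hmem g']
    obtain ⟨r, hr⟩ := hcen _ hφ
    have h1 : φ ⟨el x y 1 1, hdiag 1⟩ = ⟨el x y 1 1, hdiag 1⟩ :=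
      fix_cyclic hU hodd (Subgroup.mem_zpowers_iff.2 ⟨r, Subtype.ext (by
        rw [Subgroup.coe_zpow, hr]; exact h.el_diag_zpow r)⟩)
    have h2 : (⟨_, hdiag k⟩ : U) = ⟨el x y 1 1, hdiag 1⟩ ^ k :=
      Subtype.ext (by rw [Subgroup.coe_zpow]; exact (h.el_diag_zpow k).symm)
    rw [h2, map_zpow, h1]
  by_cases hB : ∃ i j, el x y i j ∈ U ∧ ¬ q ∣ i - j
  · -- a rotation of order at least four modulo the centre
    refine Or.inr (Or.inr fun φ hodd => hfin φ hodd ?_)
    obtain ⟨i₁, j₁, hij₁, hd₁⟩ := hB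
    have hnc : ∀ i j, ¬ q ∣ i - j → ∀ hm : el x y i j ∈ U, ∀ k,
        ((⟨el x y i j, hm⟩ * ⟨el x y i j, hm⟩ : U) : S) ≠ el x y k k := by
      intro i j hij hm k he
      have he' : el x y i j * el x y i j = el x y k k := he
      rw [h.el_mul, h.el_eq_iff] at he'
      have h3 := dvd_sub he'.1 he'.2
      rw [show i + i - k - (j + j - k) = 2 * (i - j) by ring, h.two_pow_eq.1] at h3
      exact hij ((mul_dvd_mul_iff_left two_ne_zero).1 h3)
    -- `φ` preserves the base part
    have hWmap : ∀ g ∈ W, φ g ∈ W := by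
      have hR : ∀ g : U, (∀ k, ((g * g : U) : S) ≠ el x y k k) → φ g ∈ W := by
        intro g hg
        by_contra hφ
        obtain ⟨i, j, hφg | hφg⟩ := h.normal_form (φ g : S)
        · exact hφ ⟨i, j, hφg⟩
        have h1 : φ (g * g) = ⟨_, hdiag (i + j)⟩ := Subtype.ext (by
          rw [map_mul, Subgroup.coe_mul, hφg]; exact h.el_z_sq i j)
        exact hg (i + j) (congrArg Subtype.val (φ.injective (h1.trans (hfixC φ hodd (i + j)).symm)))
      rintro g ⟨i, j, hg⟩
      have hm : el x y i j ∈ U := hg ▸ g.2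
      obtain rfl : g = ⟨_, hm⟩ := Subtype.ext hg
      by_cases hd : q ∣ i - j
      · have hm2 : el x y (i + i₁) (j + j₁) ∈ U := h.el_mul i j i₁ j₁ ▸ mul_mem hm hij₁
        have h1 := hR _ (hnc _ _ (fun hd' => hd₁ (by
          have := dvd_sub hd' hd
          rwa [show i + i₁ - (j + j₁) - (i - j) = i₁ - j₁ by ring] at this)) hm2)
        have h2 := hR _ (hnc _ _ hd₁ hij₁)
        have e : (⟨el x y i j, hm⟩ : U) = ⟨_, hm2⟩ * ⟨_, hij₁⟩⁻¹ := Subtype.ext (by
          show el x y i j = el x y (i + i₁) (j + j₁) * (el x y i₁ j₁)⁻¹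
          rw [h.el_inv, h.el_mul]; congr 1 <;> ring)
        rw [e, map_mul, map_inv]
        exact h.base.mul_mem h1 (h.base.inv_mem h2)
      · exact hR _ (hnc _ _ hd hm)
    let u : U := ⟨el x y a b * z, hwU⟩
    have huW : u ∉ W := h.z_mem_base_false a b
    -- commutation with an outside element
    have hcomm : ∀ v : U, v ∉ W → ∀ i j (hm : el x y i j ∈ U),
        ((v * ⟨_, hm⟩ * v⁻¹ * ⟨_, hm⟩⁻¹ : U) : S) = el x y (j - i) (i - j) := by
      intro v hv i j hm
      obtain ⟨k, l, hk | hk⟩ := h.normal_form (v : S)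
      · exact absurd ⟨k, l, hk⟩ hv
      show (v : S) * el x y i j * (v : S)⁻¹ * (el x y i j)⁻¹ = _
      rw [hk, h.conj_z_el, h.el_inv, h.el_mul, ← sub_eq_add_neg, ← sub_eq_add_neg]
    have hφu : φ u ∉ W := by
      intro hm
      have : ∀ k : ℕ, 0 < k → (φ ^ k) u ∈ W := by
        intro k hk
        obtain ⟨k, rfl⟩ := Nat.exists_eq_succ_of_ne_zero hk.ne'
        clear hk
        induction k with
        | zero => simpa using hm
        | succ k ih => rw [pow_succ', MulAut.mul_apply]; exact hWmap _ ih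
      exact huW (by simpa [pow_orderOf_eq_one] using this _ hodd.pos)
    rintro g ⟨i, j, hg⟩
    have hm : el x y i j ∈ U := hg ▸ g.2
    obtain rfl : g = ⟨_, hm⟩ := Subtype.ext hg
    -- commutators lie in a cyclic subgroup, hence are fixed
    set com : U := u * ⟨_, hm⟩ * u⁻¹ * ⟨_, hm⟩⁻¹ with hcom
    obtain ⟨i', j', hφg⟩ := hWmap _ (show (⟨_, hm⟩ : U) ∈ W from ⟨i, j, rfl⟩)
    have hm' : el x y i' j' ∈ U := hφg ▸ (φ ⟨el x y i j, hm⟩).2
    have hφg' : φ ⟨el x y i j, hm⟩ = ⟨_, hm'⟩ := Subtype.ext hφg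
    have hφcom : (φ com : S) = el x y (j' - i') (i' - j') := by
      rw [hcom, map_mul, map_mul, map_mul, map_inv, map_inv, hφg']
      exact hcomm _ hφu i' j' hm'
    have hK : ∀ d e : ℤ, e = -d → el x y d e ∈ U → el x y d e ∈ Subgroup.zpowers (el x y 1 (-1)) := by
      rintro d e rfl -
      exact ⟨d, h.el_anti_zpow d⟩
    have hcyc : IsCyclic ((Subgroup.zpowers (el x y 1 (-1))).subgroupOf U) :=
      isCyclic_of_injective (f := (U.subtype.comp
        ((Subgroup.zpowers (el x y 1 (-1))).subgroupOf U).subtype).codRestrict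
          (Subgroup.zpowers (el x y 1 (-1))) fun v => v.2)
        (fun v w hvw => Subtype.ext (Subtype.ext (Subtype.ext_iff.1 hvw :)))
    obtain ⟨⟨g₀, hg₀⟩, hgen⟩ := hcyc.exists_generator
    -- the generator of the commutators
    have hmemK : ∀ v : U, (∃ d : ℤ, (v : S) = el x y d (-d)) → v ∈ Subgroup.zpowers g₀ := by
      rintro v ⟨d, hv⟩
      have hv' : v ∈ (Subgroup.zpowers (el x y 1 (-1))).subgroupOf U := by
        rw [Subgroup.mem_subgroupOf, hv]; exact ⟨d, h.el_anti_zpow d⟩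
      obtain ⟨k, hk⟩ := Subgroup.mem_zpowers_iff.1 (hgen ⟨v, hv'⟩)
      exact ⟨k, congrArg Subtype.val hk⟩
    have hcomK : com ∈ Subgroup.zpowers g₀ := hmemK _ ⟨j - i, by rw [hcomm u huW i j hm, neg_sub]⟩
    have hφcomK : φ com ∈ Subgroup.zpowers g₀ := hmemK _ ⟨j' - i', by rw [hφcom, neg_sub]⟩
    -- the subgroup generated by `com` is preserved
    have hφfix : φ com = com := by
      refine fix_cyclic hU hodd ?_
      obtain ⟨r, hr⟩ := Subgroup.mem_zpowers_iff.1 hcomK
      obtain ⟨r', hr'⟩ := Subgroup.mem_zpowers_iff.1 hφcomK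
      have : IsCyclic (Subgroup.zpowers g₀) := inferInstance
      have e := mem_zpowers_of_orderOf_eq (A := Subgroup.zpowers g₀)
        (a := ⟨com, hcomK⟩) (b := ⟨φ com, hφcomK⟩) (by
          rw [← Subgroup.orderOf_coe (⟨φ com, hφcomK⟩ : Subgroup.zpowers g₀),
            ← Subgroup.orderOf_coe (⟨com, hcomK⟩ : Subgroup.zpowers g₀)]
          exact orderOf_injective φ.toMonoidHom φ.injective com)
      obtain ⟨k, hk⟩ := e
      exact ⟨k, congrArg Subtype.val hk⟩
    rw [hcom] at hφfix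
    have he : el x y (j' - i') (i' - j') = el x y (j - i) (i - j) := by
      rw [← hφcom, hcom, hφfix, hcomm u huW i j hm]
    rw [h.el_eq_iff] at he
    have hd : (2 : ℤ) ^ n ∣ (i' - i) - (j' - j) := by
      rw [← dvd_neg]
      simpa [show -(i' - i - (j' - j)) = j' - i' - (j - i) by ring] using he.1
    refine fix_of_moves_by_fixed hU hodd (c := ⟨_, hdiag (i' - i)⟩) (hfixC φ hodd _) ?_
    rw [hφg']
    apply Subtype.ext
    show el x y i' j' = el x y i j * el x y (i' - i) (i' - i)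
    rw [h.el_mul, h.el_eq_iff]
    exact ⟨by simp, by rwa [show j' - (j + (i' - i)) = -((i' - i) - (j' - j)) by ring, dvd_neg]⟩
  push Not at hB
  -- the base part is `{q ∣ i - j}`
  have hWiff : ∀ i j, el x y i j ∈ U ↔ q ∣ i - j := by
    intro i j
    refine ⟨hB i j, ?_⟩
    rintro ⟨c, hc⟩
    obtain ⟨c₀, hc₀⟩ := hB i₀ j₀ hij₀
    have hodd₀ : Odd c₀ := Int.not_even_iff_odd.1 fun ⟨t, ht⟩ => hd₀ ⟨t, by
      rw [hc₀, ht, h.two_pow_eq.1]; ring⟩
    rcases Int.even_or_odd c with hev | hod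
    · obtain ⟨t, rfl⟩ := hev
      rw [show el x y i j = el x y i i by
        rw [h.el_eq_iff]; exact ⟨by simp, ⟨-t, by rw [h.two_pow_eq.1]; linarith⟩⟩]
      exact hdiag i
    · obtain ⟨t, ht⟩ := hod.sub_odd hodd₀
      rw [show el x y i j = el x y i₀ j₀ * el x y (i - i₀) (i - i₀) by
        rw [h.el_mul, h.el_eq_iff]
        exact ⟨by simp, ⟨-t, by rw [h.two_pow_eq.1]; linear_combination hc₀ - hc - q * ht⟩⟩]
      exact mul_mem hij₀ (hdiag _)
  rcases Int.even_or_odd' (a + b) with ⟨m, hm | hm⟩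
  · -- conjugate to `vsub`
    refine Or.inr (Or.inl ?_)
    refine ⟨el x y (m - a) 0, ?_⟩
    ext g
    rw [Subgroup.mem_map_equiv, MulAut.conj_symm_apply, h.el_inv]
    obtain ⟨i, j, rfl | rfl⟩ := h.normal_form g
    · rw [h.el_mul, h.el_mul, h.el_mem_vsub_iff, hWiff]
      congr! 1; ring
    · rw [h.mul_ez, h.mul_ze, h.el_z_mem_vsub_iff, hout, hWiff]
      have key : -(m - a) + i + 0 - a - (-0 + j + (m - a) - b) = (i - j) + (-2 * m + a + b) := by ring
      rw [key, show -2 * m + a + b = 0 by linarith, add_zero]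
  · -- elements squaring to generators of the centre lie outside the base
    refine Or.inr (Or.inr fun φ hodd => hfin φ hodd ?_)
    have hWmap : ∀ g ∈ W, φ g ∈ W := by
      rintro g ⟨i, j, hg⟩
      by_contra hφ
      obtain ⟨k, l, hφg | hφg⟩ := h.normal_form (φ g : S)
      · exact hφ ⟨k, l, hφg⟩
      have hU' : el x y k l * z ∈ U := hφg ▸ (φ g).2
      rw [hout, hWiff] at hU'
      have hkl : Odd (k + l) := by
        rw [show k + l = (k - a - (l - b)) + (2 * (l - b) + (a + b)) by ring]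
        exact (even_iff_two_dvd.2 (dvd_trans h2q hU')).add_odd ⟨(l - b) + m, by rw [hm]; ring⟩
      have h1 : φ (g * g) = ⟨_, hdiag (k + l)⟩ := Subtype.ext (by
        rw [map_mul, Subgroup.coe_mul, hφg]; exact h.el_z_sq k l)
      have h2 := congrArg Subtype.val (φ.injective (h1.trans (hfixC φ hodd (k + l)).symm))
      change (g : S) * g = el x y (k + l) (k + l) at h2
      rw [hg, h.el_mul, h.el_eq_iff] at h2
      have := dvd_trans h2n h2.1
      obtain ⟨r, hr⟩ := hkl
      omega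
    have hqq : el x y q 0 ∈ U := (hWiff _ _).2 (by simp)
    have hqq' : el x y 0 q ∈ U := (hWiff _ _).2 (by simp)
    have hval : ∀ f : MulAut U, (∀ g ∈ W, f g ∈ W) → (∀ k, f ⟨_, hdiag k⟩ = ⟨_, hdiag k⟩) →
        f ⟨_, hqq⟩ = ⟨_, hqq⟩ ∨ f ⟨_, hqq⟩ = ⟨_, hqq'⟩ := by
      intro f hf hfC
      obtain ⟨k, l, hkl⟩ := hf _ (show (⟨_, hqq⟩ : U) ∈ W from h.el_mem_base q 0)
      have hklU : el x y k l ∈ U := hkl ▸ (f ⟨el x y q 0, hqq⟩).2
      have hd := (hWiff k l).1 hklU
      have hsq : (⟨_, hqq⟩ : U) * ⟨_, hqq⟩ = 1 := Subtype.ext (by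
        show el x y q 0 * el x y q 0 = 1
        rw [h.el_mul, h.el_eq_one_iff]
        exact ⟨⟨1, by rw [h.two_pow_eq.1]; ring⟩, by simp⟩)
      have hsq' := congrArg (fun g : U => (f g : S)) hsq
      simp only [map_mul, map_one, Subgroup.coe_mul, Subgroup.coe_one, hkl] at hsq'
      rw [h.el_mul, h.el_eq_one_iff, h.two_pow_eq.1, ← two_mul, ← two_mul] at hsq'
      obtain ⟨k', rfl⟩ : q ∣ k := (mul_dvd_mul_iff_left two_ne_zero).1 hsq'.1
      obtain ⟨l', rfl⟩ : q ∣ l := (mul_dvd_mul_iff_left two_ne_zero).1 hsq'.2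
      have hnd : ¬ el x y (q * k') (q * l') = el x y (q * k') (q * k') := by
        intro he
        have h1 : f ⟨_, hqq⟩ = ⟨_, hdiag (q * k')⟩ := Subtype.ext (hkl.trans he)
        have h2 := congrArg Subtype.val (f.injective (h1.trans (hfC _).symm))
        change el x y q 0 = el x y (q * k') (q * k') at h2
        rw [h.el_eq_iff] at h2
        have h3 := dvd_sub h2.1 h2.2
        rw [show q - q * k' - (0 - q * k') = q by ring] at h3
        exact h.half_not_dvd h3
      have hdv : ∀ r : ℤ, Even r → (2 : ℤ) ^ n ∣ q * r := by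
        rintro r ⟨t, rfl⟩; exact ⟨t, by rw [h.two_pow_eq.1]; ring⟩
      rcases Int.even_or_odd k' with hk | hk <;> rcases Int.even_or_odd l' with hl | hl
      · exfalso; exact hnd (h.el_eq_iff.2 ⟨by simp, by
          rw [← mul_sub]; exact hdv _ (hl.sub hk)⟩)
      · refine Or.inr (Subtype.ext (hkl.trans (h.el_eq_iff.2 ⟨by simpa using hdv _ hk, ?_⟩)))
        rw [show q * l' - q = q * (l' - 1) by ring]
        exact hdv _ (hl.sub_odd odd_one)
      · refine Or.inl (Subtype.ext (hkl.trans (h.el_eq_iff.2 ⟨?_, by simpa using hdv _ hl⟩)))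
        rw [show q * k' - q = q * (k' - 1) by ring]
        exact hdv _ (hk.sub_odd odd_one)
      · exfalso; exact hnd (h.el_eq_iff.2 ⟨by simp, by
          rw [← mul_sub]; exact hdv _ (hl.sub_odd hk)⟩)
    have hfixe : φ ⟨_, hqq⟩ = ⟨_, hqq⟩ := by
      rcases hval φ hWmap (hfixC φ hodd) with e | e
      · exact e
      refine fix_of_sq_fix hodd ?_
      rcases hval (φ * φ) (fun g hg => hWmap _ (hWmap g hg))
        (fun k => by rw [MulAut.mul_apply, hfixC φ hodd, hfixC φ hodd]) with e' | e'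
      · exact e'
      · rw [MulAut.mul_apply, e] at e'
        rw [e, e']
        exact φ.injective (e'.trans e.symm)
    rintro g ⟨i, j, hg⟩
    have hgm : el x y i j ∈ U := hg ▸ g.2
    obtain rfl : g = ⟨_, hgm⟩ := Subtype.ext hg
    obtain ⟨c, hc⟩ := (hWiff i j).1 hgm
    rcases Int.even_or_odd c with hev | hod
    · obtain ⟨t, rfl⟩ := hev
      rw [show (⟨_, hgm⟩ : U) = ⟨_, hdiag i⟩ from Subtype.ext (h.el_eq_iff.2
        ⟨by simp, ⟨-t, by rw [h.two_pow_eq.1]; linarith⟩⟩), hfixC φ hodd]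
    · obtain ⟨t, rfl⟩ := hod
      rw [show (⟨_, hgm⟩ : U) = ⟨_, hqq⟩ * ⟨_, hdiag (i - q)⟩ from Subtype.ext (by
        show el x y i j = el x y q 0 * el x y (i - q) (i - q)
        rw [h.el_mul, h.el_eq_iff]
        exact ⟨by simp, ⟨-t, by rw [h.two_pow_eq.1]; linear_combination -hc⟩⟩),
        map_mul, hfixe, hfixC φ hodd]

end WRGen

end Cfsg.Agent.Lib.Involutions
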