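import Mathlib
import Cfsg.Agent.Lib.Involutions.WreathedCentric
import Cfsg.Agent.Lib.Involutions.TwoGroupRec

/-!
# The subgroup `vsub = Q₈ ∗ Z(S)` of a wreathed group
-/

namespace Cfsg.Agent.Lib.Involutions

variable {S : Type*} [Group S]

namespace WRGen

variable {x y z : S} {n : ℕ}

theorem quarter_eq (h : WRGen x y z n) : (2 : ℤ) ^ (n - 1) = 2 * 2 ^ (n - 2) := by
  rw [← pow_succ']
  congr 1
  have := h.hn
  omega

theorem half_not_dvd_quarter (h : WRGen x y z n) : ¬ (2 : ℤ) ^ (n - 1) ∣ 2 ^ (n - 2) := by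
  intro hd
  have := Int.le_of_dvd (by positivity) hd
  rw [h.quarter_eq] at this
  have : (0 : ℤ) < 2 ^ (n - 2) := by positivity
  linarith

theorem z_mem_vsub (h : WRGen x y z n) : z ∈ h.vsub :=
  ⟨0, 0, by simp, Or.inr (by rw [h.el_zero, one_mul])⟩

theorem conj_el_z_mem_vsub_iff (h : WRGen x y z n) (a b i j : ℤ) :
    el x y (i + a - b) (j + b - a) * z ∈ h.vsub ↔ (2 : ℤ) ^ (n - 1) ∣ (i - j) + 2 * (a - b) := by
  rw [h.el_z_mem_vsub_iff]
  congr! 1
  ring

theorem el_mem_normalizer_vsub_iff (h : WRGen x y z n) (a b : ℤ) :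
    el x y a b ∈ Subgroup.normalizer (h.vsub : Set S) ↔ (2 : ℤ) ^ (n - 2) ∣ a - b := by
  rw [Subgroup.mem_normalizer_iff]
  constructor
  · intro hn
    have h1 := (hn z).1 h.z_mem_vsub
    have e : el x y a b * z * (el x y a b)⁻¹ = el x y (a - b) (b - a) * z := by
      rw [h.el_inv, h.mul_ze]; congr 2 <;> ring
    rw [e, h.el_z_mem_vsub_iff, show a - b - (b - a) = 2 * (a - b) by ring, h.quarter_eq] at h1
    exact (mul_dvd_mul_iff_left two_ne_zero).1 h1
  · intro hd g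
    have hd' : (2 : ℤ) ^ (n - 1) ∣ 2 * (a - b) := by rw [h.quarter_eq]; exact mul_dvd_mul_left 2 hd
    obtain ⟨i, j, rfl | rfl⟩ := h.normal_form g
    · rw [h.el_inv, h.el_mul, h.el_mul]
      simp only [h.el_mem_vsub_iff]
      congr! 1; ring
    · rw [h.el_inv, h.mul_ez, h.mul_ze, h.el_z_mem_vsub_iff, h.el_z_mem_vsub_iff]
      rw [show a + i + -b - (b + j + -a) = (i - j) + 2 * (a - b) by ring]
      exact (dvd_add_left hd').symm

theorem relIndex_vsub_normalizer (h : WRGen x y z n) :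
    h.vsub.relIndex (Subgroup.normalizer (h.vsub : Set S)) = 2 := by
  have hN := h.el_mem_normalizer_vsub_iff
  refine relIndex_eq_two_of_cover (b := el x y (2 ^ (n - 2)) 0) ((hN _ _).2 (by simp)) ?_ ?_ ?_
  · rw [h.el_mem_vsub_iff, sub_zero]
    exact h.half_not_dvd_quarter
  · rw [h.el_mul, h.el_mem_vsub_iff]
    exact ⟨1, by rw [h.quarter_eq]; ring⟩
  · intro g hg
    obtain ⟨a, b, hab⟩ := h.normal_form g
    have hd : (2 : ℤ) ^ (n - 2) ∣ a - b := by
      rcases hab with rfl | rfl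
      · exact (hN a b).1 hg
      · refine (hN a b).1 ?_
        have := mul_mem hg (inv_mem (Subgroup.le_normalizer h.z_mem_vsub))
        rwa [mul_inv_cancel_right] at this
    obtain ⟨c, hc⟩ := hd
    rcases Int.even_or_odd c with ⟨t, rfl⟩ | ⟨t, rfl⟩
    · left
      rcases hab with rfl | rfl
      · exact (h.el_mem_vsub_iff _ _).2 ⟨t, by rw [hc, h.quarter_eq]; ring⟩
      · exact (h.el_z_mem_vsub_iff _ _).2 ⟨t, by rw [hc, h.quarter_eq]; ring⟩
    · right
      rcases hab with rfl | rfl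
      · rw [h.el_mul, h.el_mem_vsub_iff]
        exact ⟨t + 1, by rw [h.quarter_eq]; linear_combination hc⟩
      · rw [h.mul_ze, h.el_z_mem_vsub_iff]
        exact ⟨t, by rw [h.quarter_eq]; linear_combination hc⟩

theorem not_isMulCommutative_vsub (h : WRGen x y z n) : ¬ IsMulCommutative h.vsub := by
  intro hc
  have h1 : el x y (2 ^ (n - 1)) 0 ∈ h.vsub := (h.el_mem_vsub_iff _ _).2 (by simp)
  have h2 : Commute (el x y (2 ^ (n - 1)) 0) (el x y 0 0 * z) := by
    rw [h.el_zero, one_mul]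
    exact congrArg Subtype.val (hc.is_comm.comm ⟨_, h1⟩ ⟨_, h.z_mem_vsub⟩)
  rw [h.commute_el_z_iff, sub_zero] at h2
  exact h.half_not_dvd h2

theorem exists_quaternion_sup_center (h : WRGen x y z n) :
    ∃ Q : Subgroup S, Nonempty (Q ≃* QuaternionGroup 2) ∧ h.vsub = Q ⊔ Subgroup.center S := by
  set r : ℤ := 2 ^ (n - 2) with hr
  set q : ℤ := 2 ^ (n - 1) with hq
  have hqr : q = 2 * r := h.quarter_eq
  set x' := el x y r (-r) with hx'
  set y' := el x y q 0 * z with hy'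
  have hx2 : x' ^ (2 : ℤ) = el x y q q := by
    rw [hx', h.el_zpow, h.el_eq_iff]
    exact ⟨⟨0, by rw [hqr]; ring⟩, ⟨-1, by rw [h.two_pow_eq.1, ← hq, hqr]; ring⟩⟩
  have hne : ¬ el x y q q = 1 := by
    rw [h.el_eq_one_iff]
    exact fun h' => h.half_not_dvd h'.1
  have hox : orderOf x' = 2 * 2 := by
    rw [show (2 : ℕ) * 2 = 2 ^ (1 + 1) from rfl]
    have : Fact (Nat.Prime 2) := ⟨Nat.prime_two⟩
    refine orderOf_eq_prime_pow ?_ ?_
    · rw [pow_one]; exact_mod_cast hx2 ▸ hne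
    · rw [← zpow_natCast, show ((2 ^ (1 + 1) : ℕ) : ℤ) = 2 * 2 by norm_num, zpow_mul, hx2, h.el_zpow,
        h.el_eq_one_iff]
      exact ⟨⟨1, by rw [h.two_pow_eq.1]; ring⟩, ⟨1, by rw [h.two_pow_eq.1]; ring⟩⟩
  have hyy : y' * y' = x' ^ ((2 : ℕ) : ℤ) := by
    rw [Nat.cast_ofNat, hx2, hy', h.el_z_sq, add_zero]
  have hyx : y' ∉ Subgroup.zpowers x' := by
    intro hm
    obtain ⟨k, hk⟩ := Subgroup.mem_zpowers_iff.1 hm
    rw [hx', h.el_zpow] at hk
    exact h.el_z_ne_el _ _ _ _ hk.symm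
  have hconj : y' * x' * y'⁻¹ = x'⁻¹ := by
    rw [hy', hx', h.conj_z_el, h.el_inv, neg_neg]
  obtain ⟨F, hF, hF1, hF0⟩ := exists_quaternionHom hox hyy hyx hconj
  refine ⟨F.range, ⟨(MonoidHom.ofInjective hF).symm⟩, ?_⟩
  have hxm : x' ∈ F.range := ⟨_, hF1⟩
  have hym : y' ∈ F.range := ⟨_, hF0⟩
  have hdiag : ∀ k, el x y k k ∈ Subgroup.center S := fun k => (h.center_iff _).2 ⟨k, rfl⟩
  apply le_antisymm
  · have hel : ∀ i j, q ∣ i - j → el x y i j ∈ F.range ⊔ Subgroup.center S := by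
      rintro i j ⟨c, hc⟩
      rw [show el x y i j = x' ^ c * el x y (i - r * c) (i - r * c) by
        rw [hx', h.el_zpow, h.el_mul, h.el_eq_iff]
        exact ⟨⟨0, by ring⟩, ⟨0, by rw [hqr] at hc; linear_combination -hc⟩⟩]
      exact mul_mem (Subgroup.mem_sup_left (zpow_mem hxm c)) (Subgroup.mem_sup_right (hdiag _))
    rintro _ ⟨i, j, hd, rfl | rfl⟩
    · exact hel i j hd
    · rw [show el x y i j * z = el x y (i - q) j * y' by
        rw [hy', ← mul_assoc, h.el_mul, sub_add_cancel, add_zero]]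
      refine mul_mem (hel _ _ ?_) (Subgroup.mem_sup_left hym)
      rw [show i - q - j = i - j - q by ring]
      exact dvd_sub hd dvd_rfl
  · refine sup_le ?_ ?_
    · rw [quaternionHom_range, hF1, hF0, Subgroup.closure_le]
      refine Set.insert_subset ?_ (Set.singleton_subset_iff.2 ?_)
      · exact (h.el_mem_vsub_iff _ _).2 ⟨1, by rw [← hq, hqr]; ring⟩
      · exact (h.el_z_mem_vsub_iff _ _).2 (by simp [hq])
    · intro g hg
      obtain ⟨k, rfl⟩ := (h.center_iff g).1 hg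
      exact (h.el_mem_vsub_iff _ _).2 (by simp)

theorem isMulCommutative_base (h : WRGen x y z n) : IsMulCommutative h.base :=
  ⟨⟨fun ⟨a, i, j, ha⟩ ⟨b, k, l, hb⟩ => Subtype.ext (by
    show a * b = b * a
    rw [ha, hb, h.el_mul, h.el_mul, add_comm i, add_comm j])⟩⟩

theorem relIndex_base_normalizer (h : WRGen x y z n) :
    h.base.relIndex (Subgroup.normalizer (h.base : Set S)) = 2 := by
  have := Subgroup.normal_of_index_eq_two h.index_base
  rw [Subgroup.normalizer_eq_top, Subgroup.relIndex_top_right, h.index_base]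

end WRGen

end Cfsg.Agent.Lib.Involutions
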