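import Mathlib
import Cfsg.Agent.Lib.Involutions.WreathedVSub
import Cfsg.Agent.Lib.Involutions.ThreeInstances

/-!
# More facts inside a wreathed group
-/

namespace Cfsg.Agent.Lib.Involutions

variable {S : Type*} [Group S]

/-- An automorphism of odd order of an abelian 2-group fixing the involutions is trivial. -/
theorem fix_of_fix_invol {U : Type*} [Group U] [Finite U] (hU : IsPGroup 2 U)
    (hab : IsMulCommutative U) {φ : MulAut U} (hodd : Odd (orderOf φ))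
    (h : ∀ u : U, u * u = 1 → φ u = u) (g : U) : φ g = g := by
  obtain ⟨k, hk⟩ := hU g
  induction k generalizing g with
  | zero =>
    rw [pow_zero, pow_one] at hk
    rw [hk, map_one]
  | succ k ih =>
    rw [pow_succ', pow_mul] at hk
    have h1 : φ (g ^ 2) = g ^ 2 := ih _ hk
    refine fix_of_moves_by_fixed hU hodd (c := g⁻¹ * φ g) (h _ ?_) (by rw [mul_inv_cancel_left])
    rw [← sq, Commute.mul_pow (hab.is_comm.comm _ _), inv_pow, ← map_pow, h1, inv_mul_cancel]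

namespace WRGen

variable {x y z : S} {n : ℕ}

/-- First generator of the standard quaternion subgroup. -/
def qi (_h : WRGen x y z n) : S := el x y (2 ^ (n - 2)) (-2 ^ (n - 2))

/-- Second generator of the standard quaternion subgroup. -/
def qj (_h : WRGen x y z n) : S := el x y (2 ^ (n - 1)) 0 * z

theorem two_pow_quarter (h : WRGen x y z n) : (2 : ℤ) ^ n = 4 * 2 ^ (n - 2) := by
  rw [h.two_pow_eq.1, h.quarter_eq]; ring

theorem qi_sq (h : WRGen x y z n) :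
    h.qi * h.qi = el x y (2 ^ (n - 1)) (2 ^ (n - 1)) := by
  rw [qi, h.el_mul, h.el_eq_iff]
  exact ⟨⟨0, by rw [h.quarter_eq]; ring⟩, ⟨-1, by rw [h.two_pow_eq.1, h.quarter_eq]; ring⟩⟩

theorem qj_sq (h : WRGen x y z n) :
    h.qj * h.qj = el x y (2 ^ (n - 1)) (2 ^ (n - 1)) := by
  rw [qj, h.el_z_sq, add_zero]

theorem qiqj (h : WRGen x y z n) :
    h.qi * h.qj = el x y (2 ^ (n - 2) + 2 ^ (n - 1)) (-2 ^ (n - 2)) * z := by
  rw [qi, qj, h.mul_ez, add_zero]

theorem qj_conj (h : WRGen x y z n) : h.qj * h.qi * h.qj⁻¹ = h.qi⁻¹ := by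
  rw [qi, qj, h.conj_z_el, h.el_inv, neg_neg]

theorem el_half_ne (h : WRGen x y z n) : el x y (2 ^ (n - 1)) (2 ^ (n - 1)) ≠ 1 := h.el_half_ne_one _

theorem diag_comm (h : WRGen x y z n) (k : ℤ) (g : S) : el x y k k * g = g * el x y k k :=
  (Subgroup.mem_center_iff.1 ((h.center_iff _).2 ⟨k, rfl⟩) g).symm

theorem qj_ne (h : WRGen x y z n) : h.qj ≠ h.qi ∧ h.qj ≠ h.qi⁻¹ := by
  refine ⟨h.el_z_ne_el _ _ _ _, ?_⟩
  rw [qi, h.el_inv]
  exact h.el_z_ne_el _ _ _ _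

theorem qi_mem (h : WRGen x y z n) : h.qi ∈ h.vsub :=
  (h.el_mem_vsub_iff _ _).2 ⟨1, by rw [h.quarter_eq]; ring⟩

theorem qj_mem (h : WRGen x y z n) : h.qj ∈ h.vsub :=
  (h.el_z_mem_vsub_iff _ _).2 (by simp)

/-- The standard quaternion subgroup. -/
theorem exists_quat (h : WRGen x y z n) : ∃ Q : Subgroup S, h.qi ∈ Q ∧ h.qj ∈ Q ∧ Q ≤ h.vsub ∧
    Nonempty (Q ≃* QuaternionGroup 2) := by
  have hox : orderOf h.qi = 2 * 2 := by
    have : Fact (Nat.Prime 2) := ⟨Nat.prime_two⟩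
    rw [show (2 : ℕ) * 2 = 2 ^ (1 + 1) from rfl]
    refine orderOf_eq_prime_pow ?_ ?_
    · rw [pow_one, sq, h.qi_sq]; exact h.el_half_ne
    · rw [show 2 ^ (1 + 1) = 2 * 2 from rfl, pow_mul, sq h.qi, h.qi_sq, sq, h.el_mul,
        h.el_eq_one_iff, ← two_mul, ← h.two_pow_eq.1, and_self]
  have hyy : h.qj * h.qj = h.qi ^ ((2 : ℕ) : ℤ) := by rw [zpow_natCast, sq, h.qi_sq, h.qj_sq]
  have hyx : h.qj ∉ Subgroup.zpowers h.qi := by
    intro hm
    obtain ⟨k, hk⟩ := Subgroup.mem_zpowers_iff.1 hm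
    rw [qi, h.el_zpow] at hk
    exact h.el_z_ne_el _ _ _ _ hk.symm
  obtain ⟨F, hF, hF1, hF0⟩ := exists_quaternionHom hox hyy hyx h.qj_conj
  refine ⟨F.range, ⟨_, hF1⟩, ⟨_, hF0⟩, ?_, ⟨(MonoidHom.ofInjective hF).symm⟩⟩
  rw [quaternionHom_range, hF1, hF0, Subgroup.closure_le]
  exact Set.insert_subset h.qi_mem (Set.singleton_subset_iff.2 h.qj_mem)

theorem vsub_decomp (h : WRGen x y z n) {g : S} (hg : g ∈ h.vsub) : ∃ k : ℤ,
    g = el x y k k ∨ g = h.qi * el x y k k ∨ g = h.qj * el x y k k ∨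
      g = h.qi * h.qj * el x y k k := by
  have hel : ∀ i j, (2 : ℤ) ^ (n - 1) ∣ i - j →
      ∃ k, el x y i j = el x y k k ∨ el x y i j = h.qi * el x y k k := by
    rintro i j ⟨c, hc⟩
    rcases Int.even_or_odd c with ⟨t, rfl⟩ | ⟨t, rfl⟩
    · exact ⟨i, Or.inl (h.el_eq_iff.2 ⟨by simp, ⟨-t, by rw [h.two_pow_eq.1]; linarith⟩⟩)⟩
    · refine ⟨i - 2 ^ (n - 2), Or.inr ?_⟩
      rw [qi, h.el_mul, h.el_eq_iff]
      refine ⟨⟨0, by ring⟩, ⟨-t, ?_⟩⟩
      rw [h.two_pow_quarter]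
      rw [h.quarter_eq] at hc
      linear_combination -hc
  obtain ⟨i, j, hd, rfl | rfl⟩ := hg
  · obtain ⟨k, e | e⟩ := hel i j hd
    · exact ⟨k, Or.inl e⟩
    · exact ⟨k, Or.inr (Or.inl e)⟩
  · have e0 : el x y i j * z = el x y (i - 2 ^ (n - 1)) j * h.qj := by
      rw [qj, h.mul_ez, sub_add_cancel, add_zero]
    obtain ⟨k, e | e⟩ := hel (i - 2 ^ (n - 1)) j (by
      rw [show i - 2 ^ (n - 1) - j = i - j - 2 ^ (n - 1) by ring]; exact dvd_sub hd dvd_rfl)
    · exact ⟨k, Or.inr (Or.inr (Or.inl (by rw [e0, e, h.diag_comm])))⟩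
    · exact ⟨k, Or.inr (Or.inr (Or.inr (by rw [e0, e, mul_assoc, mul_assoc, h.diag_comm])))⟩

theorem center_vsub (h : WRGen x y z n) {d : S} (hd : d ∈ h.vsub)
    (hc : ∀ v ∈ h.vsub, Commute d v) : ∃ k, d = el x y k k := by
  obtain ⟨i, j, -, rfl | rfl⟩ := hd
  · have := hc _ h.z_mem_vsub
    rw [show z = el x y 0 0 * z by rw [h.el_zero, one_mul], h.commute_el_z_iff] at this
    exact ⟨i, h.el_eq_iff.2 ⟨by simp, by rwa [← dvd_neg, neg_sub]⟩⟩
  · have := (hc _ ((h.el_mem_vsub_iff (2 ^ (n - 1)) 0).2 (by simp))).symm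
    rw [h.commute_el_z_iff, sub_zero] at this
    exact absurd this h.half_not_dvd

/-- The elements of `vsub` whose square is the central involution. -/
theorem sq_half_vsub (h : WRGen x y z n) {d : S} (hd : d ∈ h.vsub)
    (hsq : d * d = el x y (2 ^ (n - 1)) (2 ^ (n - 1))) :
    (∃ k, d = el x y k k) ∨ d = h.qi ∨ d = h.qi⁻¹ ∨ d = h.qj ∨ d = h.qj⁻¹ ∨
      d = h.qi * h.qj ∨ d = (h.qi * h.qj)⁻¹ := by
  obtain ⟨k, e⟩ := h.vsub_decomp hd
  rcases e with e | e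
  · exact Or.inl ⟨k, e⟩
  right
  have key : ∀ w : S, w * w = el x y (2 ^ (n - 1)) (2 ^ (n - 1)) → d = w * el x y k k →
      d = w ∨ d = w⁻¹ := by
    intro w hw he
    have h1 : el x y k k * el x y k k = 1 := by
      have : w * w * (el x y k k * el x y k k) = w * w := by
        calc w * w * (el x y k k * el x y k k)
            = w * (w * el x y k k) * el x y k k := by group
          _ = w * (el x y k k * w) * el x y k k := by rw [h.diag_comm k w]
          _ = d * d := by rw [he]; group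
          _ = _ := by rw [hsq, hw]
      exact mul_eq_left.1 this
    rw [h.el_mul, h.el_eq_one_iff, and_self, ← two_mul, h.two_pow_eq.1,
      mul_dvd_mul_iff_left two_ne_zero] at h1
    obtain ⟨c, hc⟩ := h1
    rcases Int.even_or_odd c with ⟨t, rfl⟩ | ⟨t, rfl⟩
    · left
      rw [he, show el x y k k = 1 from h.el_eq_one_iff.2
        ⟨⟨t, by rw [h.two_pow_eq.1, hc]; ring⟩, ⟨t, by rw [h.two_pow_eq.1, hc]; ring⟩⟩, mul_one]
    · right
      have e2 : el x y k k = w * w := by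
        rw [hw, h.el_eq_iff]
        exact ⟨⟨t, by rw [h.two_pow_eq.1, hc]; ring⟩, ⟨t, by rw [h.two_pow_eq.1, hc]; ring⟩⟩
      refine eq_inv_of_mul_eq_one_left ?_
      rw [he, e2, show w * (w * w) * w = w * w * (w * w) by group, hw, h.el_mul, h.el_eq_one_iff,
        ← two_mul, ← h.two_pow_eq.1, and_self]
  have hk : h.qi * h.qj * (h.qi * h.qj) = el x y (2 ^ (n - 1)) (2 ^ (n - 1)) := by
    rw [h.qiqj, h.el_z_sq, h.el_eq_iff, and_self]
    exact ⟨0, by ring⟩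
  rcases e with e | e | e
  · rcases key _ h.qi_sq e with e' | e' <;> simp [e']
  · rcases key _ h.qj_sq e with e' | e' <;> simp [e']
  · rcases key _ hk e with e' | e'
    · exact Or.inr (Or.inr (Or.inr (Or.inr (Or.inl e'))))
    · exact Or.inr (Or.inr (Or.inr (Or.inr (Or.inr e'))))

theorem qi_not_diag (h : WRGen x y z n) (k : ℤ) : h.qi ≠ el x y k k := by
  intro he
  rw [qi, h.el_eq_iff] at he
  have := dvd_sub he.1 he.2
  rw [show (2 : ℤ) ^ (n - 2) - k - (-2 ^ (n - 2) - k) = 2 ^ (n - 1) by rw [h.quarter_eq]; ring] at this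
  exact h.half_not_dvd this

theorem qj_not_diag (h : WRGen x y z n) (k : ℤ) : h.qj ≠ el x y k k := h.el_z_ne_el _ _ _ _

theorem qiqj_not_diag (h : WRGen x y z n) (k : ℤ) : h.qi * h.qj ≠ el x y k k := by
  rw [h.qiqj]; exact h.el_z_ne_el _ _ _ _

theorem conj_r_qi (h : WRGen x y z n) :
    el x y (2 ^ (n - 2)) 0 * h.qi * (el x y (2 ^ (n - 2)) 0)⁻¹ = h.qi := by
  rw [qi, h.el_inv, h.el_mul, h.el_mul]
  congr 1 <;> ring

theorem conj_r_qj (h : WRGen x y z n) :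
    el x y (2 ^ (n - 2)) 0 * h.qj * (el x y (2 ^ (n - 2)) 0)⁻¹ = h.qi * h.qj := by
  rw [h.qiqj, qj, h.el_inv, h.mul_ez, h.mul_ze]
  congr 2 <;> ring

/-- A quaternion subgroup has a rotation in the base, inverted by an element outside. -/
theorem quat_gens (h : WRGen x y z n) {Q : Subgroup S} (eQ : Q ≃* QuaternionGroup 2) :
    ∃ i j a b : ℤ, el x y i j ∈ Q ∧ el x y a b * z ∈ Q ∧ el x y i j * el x y i j ≠ 1 ∧
      el x y a b * z * (el x y a b * z) ≠ 1 ∧ el x y a b * z ≠ el x y i j ∧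
      el x y a b * z ≠ (el x y i j)⁻¹ ∧
      (2 : ℤ) ^ n ∣ i + j ∧ ¬ (2 : ℤ) ^ n ∣ 2 * i ∧ (2 : ℤ) ^ n ∣ 4 * i ∧
      (2 : ℤ) ^ n ∣ a + b - 2 * i := by
  have f1 : ∀ u v : QuaternionGroup 2, u * u ≠ 1 → v * v ≠ 1 → v ≠ u → v ≠ u⁻¹ →
      v * u * v⁻¹ = u⁻¹ ∧ v * v = u * u ∧ u * u * (u * u) = 1 := by decide
  have f2 : ∀ v : QuaternionGroup 2, v * v ≠ 1 → ∃ w, w * w ≠ 1 ∧ w ≠ v ∧ w ≠ v⁻¹ := by decide
  have f3 : ∀ u w : QuaternionGroup 2, u * u = 1 → u * w = w * u := by decide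
  have f4 : ∀ v : QuaternionGroup 2, ∃ w, v * v ≠ 1 → w * v ≠ v * w := by decide
  -- an element outside the base
  obtain ⟨⟨v, hvQ⟩, hvb⟩ : ∃ v : Q, (v : S) ∉ h.base := by
    by_contra hcon
    push Not at hcon
    have hcom : ∀ p p' : QuaternionGroup 2, p * p' = p' * p := fun p p' => by
      apply eQ.symm.injective
      rw [map_mul, map_mul]
      exact Subtype.ext (congrArg Subtype.val (h.isMulCommutative_base.is_comm.comm
        (⟨_, hcon (eQ.symm p)⟩ : h.base) ⟨_, hcon (eQ.symm p')⟩) :)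
    exact absurd (hcom (.a 1) (.xa 0)) (by decide)
  replace hvb : v ∉ h.base := hvb
  have hv2 : eQ ⟨v, hvQ⟩ * eQ ⟨v, hvQ⟩ ≠ 1 := by
    intro hv2
    -- an involution of `Q` is a square, hence in the base
    have key : ∀ p : QuaternionGroup 2, p * p = 1 → p = 1 ∨ ∃ w, p = w * w := by decide
    rcases key _ hv2 with e | ⟨w, hw⟩
    · rw [MulEquiv.map_eq_one_iff] at e
      exact hvb (by rw [show v = 1 from congrArg Subtype.val e]; exact one_mem _)
    · rw [← eQ.apply_symm_apply w, ← map_mul] at hw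
      apply hvb
      rw [show v = ((eQ.symm w : Q) : S) * ((eQ.symm w : Q) : S) from
        congrArg Subtype.val (eQ.injective hw)]
      exact (Subgroup.mul_mem_iff_of_index_two h.index_base).2 Iff.rfl
  obtain ⟨w, hw2, hw3, hw4⟩ := f2 _ hv2
  obtain ⟨u, hub, hu2, hu3, hu4⟩ : ∃ u : Q, (u : S) ∈ h.base ∧ eQ u * eQ u ≠ 1 ∧
      eQ ⟨v, hvQ⟩ ≠ eQ u ∧ eQ ⟨v, hvQ⟩ ≠ (eQ u)⁻¹ := by
    by_cases hwb : ((eQ.symm w : Q) : S) ∈ h.base
    · refine ⟨eQ.symm w, hwb, ?_, ?_, ?_⟩ <;> rw [eQ.apply_symm_apply]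
      · exact hw2
      · exact fun e => hw3 e.symm
      · exact fun e => hw4 (by rw [e, inv_inv])
    · refine ⟨⟨v, hvQ⟩ * eQ.symm w, ?_, ?_, ?_, ?_⟩
      · exact (Subgroup.mul_mem_iff_of_index_two h.index_base).2 (iff_of_false hvb hwb)
      all_goals rw [map_mul, eQ.apply_symm_apply]
      · exact (q8_sep _ _ hv2 hw2 hw3 hw4).1
      · exact fun e => (q8_sep _ _ hv2 hw2 hw3 hw4).2.1 e.symm
      · exact fun e => (q8_sep _ _ hv2 hw2 hw3 hw4).2.2.1 (inv_eq_iff_eq_inv.1 e.symm)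
  obtain ⟨g1, g2, g3⟩ := f1 _ _ hu2 hv2 hu3 hu4
  rw [← map_inv, ← map_inv, ← map_mul, ← map_mul] at g1
  rw [← map_mul, ← map_mul] at g2
  rw [← map_mul, ← map_mul, MulEquiv.map_eq_one_iff] at g3
  have G1 : v * (u : S) * v⁻¹ = (u : S)⁻¹ := congrArg Subtype.val (eQ.injective g1)
  have G2 : v * v = (u : S) * u := congrArg Subtype.val (eQ.injective g2)
  have G3 : (u : S) * u * ((u : S) * u) = 1 := congrArg Subtype.val g3
  have U2 : (u : S) * u ≠ 1 := fun e => hu2 (by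
    rw [← map_mul, show u * u = 1 from Subtype.ext e, map_one])
  obtain ⟨i, j, hu⟩ := hub
  obtain ⟨a, b, hv⟩ : ∃ a b : ℤ, v = el x y a b * z := by
    obtain ⟨a, b, rfl | rfl⟩ := h.normal_form v
    · exact absurd (h.el_mem_base a b) hvb
    · exact ⟨a, b, rfl⟩
  rw [hu, hv, h.conj_z_el, h.el_inv, h.el_eq_iff] at G1
  have hij : (2 : ℤ) ^ n ∣ i + j := by
    have := G1.1
    rwa [show j - -i = i + j by ring] at this
  rw [hu, hv, h.el_z_sq, h.el_mul, h.el_eq_iff] at G2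
  rw [hu, h.el_mul, h.el_mul, h.el_eq_one_iff] at G3
  have hab : (2 : ℤ) ^ n ∣ a + b - 2 * i := by rw [two_mul]; exact G2.1
  have h4 : (2 : ℤ) ^ n ∣ 4 * i := by
    have := G3.1; rwa [show i + i + (i + i) = 4 * i by ring] at this
  have h2 : ¬ (2 : ℤ) ^ n ∣ 2 * i := fun hd => U2 (by
    rw [hu, h.el_mul, h.el_eq_one_iff]
    refine ⟨by rwa [← two_mul], ?_⟩
    rw [← two_mul, show 2 * j = 2 * (i + j) - 2 * i by ring]
    exact dvd_sub (hij.mul_left 2) hd)
  refine ⟨i, j, a, b, hu ▸ u.2, hv ▸ hvQ, hu ▸ U2, ?_, h.el_z_ne_el _ _ _ _, ?_, hij, h2, h4, hab⟩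
  · rw [h.el_z_sq, Ne, h.el_eq_one_iff]
    exact fun hd => h2 (by
      have := dvd_sub hd.1 hab
      rwa [show a + b - (a + b - 2 * i) = 2 * i by ring] at this)
  · rw [h.el_inv]; exact h.el_z_ne_el _ _ _ _

theorem centralizer_quat_le_center (h : WRGen x y z n) {Q : Subgroup S}
    (eQ : Q ≃* QuaternionGroup 2) {c : S} (hc : ∀ v ∈ Q, Commute c v) :
    c ∈ Subgroup.center S := by
  obtain ⟨i, j, a, b, hu, hv, -, -, -, -, hij, h2, -, -⟩ := h.quat_gens eQ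
  obtain ⟨k, l, rfl | rfl⟩ := h.normal_form c
  · have := hc _ hv
    rw [h.commute_el_z_iff] at this
    exact (h.center_iff _).2 ⟨k, h.el_eq_iff.2 ⟨by simp, by rwa [← dvd_neg, neg_sub]⟩⟩
  · exfalso
    have := (hc _ hu).symm
    rw [h.commute_el_z_iff] at this
    exact h2 (by rw [show 2 * i = (i - j) + (i + j) by ring]; exact dvd_add this hij)

/-- `Q Z(S)` is conjugate to `vsub` for every quaternion subgroup `Q` of order eight. -/
theorem quat_sup_center_conj (h : WRGen x y z n) {Q : Subgroup S} (eQ : Q ≃* QuaternionGroup 2) :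
    ∃ s : S, (Q ⊔ Subgroup.center S).map (MulAut.conj s).toMonoidHom = h.vsub := by
  obtain ⟨i, j, a, b, hu, hv, u2, v2, hne, hne', hij, h2, h4, hab⟩ := h.quat_gens eQ
  set q : ℤ := 2 ^ (n - 1) with hq
  set r : ℤ := 2 ^ (n - 2) with hr
  obtain ⟨k, hk⟩ : r ∣ i := by
    rw [h.two_pow_quarter] at h4
    exact (mul_dvd_mul_iff_left (by norm_num)).1 h4
  have hkodd : Odd k := by
    rw [← Int.not_even_iff_odd]
    rintro ⟨t, rfl⟩
    exact h2 ⟨t, by rw [hk, h.two_pow_quarter, ← hr]; ring⟩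
  obtain ⟨m, hm⟩ : ∃ m, a + b = 2 * m := by
    obtain ⟨t, ht⟩ := hab
    exact ⟨i + t * q, by rw [h.two_pow_eq.1, ← hq] at ht; linear_combination ht⟩
  refine ⟨el x y (m - a) 0, ?_⟩
  set s := el x y (m - a) 0 with hs
  have hconj : ∀ g, (MulAut.conj s).toMonoidHom g = s * g * s⁻¹ := fun g => rfl
  have himu : s * el x y i j * s⁻¹ = el x y i j := by
    rw [hs, h.el_inv, h.el_mul, h.el_mul]; congr 1 <;> ring
  have himv : s * (el x y a b * z) * s⁻¹ = el x y m m * z := by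
    rw [hs, h.el_inv, h.mul_ez, h.mul_ze]
    congr 2
    · ring
    · linarith
  apply le_antisymm
  · rw [Subgroup.map_sup, sup_le_iff]
    refine ⟨?_, ?_⟩
    · rintro _ ⟨w, hw, rfl⟩
      obtain ⟨e, f, rfl⟩ := quat_gen eQ hu hv u2 v2 hne hne' hw
      rw [map_mul, map_pow, map_pow, hconj, hconj, himu, himv]
      refine mul_mem (pow_mem ?_ _) (pow_mem ?_ _)
      · rw [h.el_mem_vsub_iff]
        rw [show i - j = 2 * i - (i + j) by ring]
        exact dvd_sub ⟨k, by rw [hk, h.quarter_eq]; ring⟩ (h.half_dvd_pow.trans hij)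
      · exact (h.el_z_mem_vsub_iff _ _).2 (by simp)
    · rintro _ ⟨c, hc, rfl⟩
      obtain ⟨t, rfl⟩ := (h.center_iff c).1 hc
      rw [hconj, ← h.diag_comm t s, mul_inv_cancel_right]
      exact (h.el_mem_vsub_iff _ _).2 (by simp)
  · set X := (Q ⊔ Subgroup.center S).map (MulAut.conj s).toMonoidHom
    have hd : ∀ t, el x y t t ∈ X := fun t =>
      ⟨el x y t t, Subgroup.mem_sup_right ((h.center_iff _).2 ⟨t, rfl⟩), by
        rw [hconj, ← h.diag_comm t s, mul_inv_cancel_right]⟩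
    have huX : el x y i j ∈ X := ⟨_, Subgroup.mem_sup_left hu, by rw [hconj, himu]⟩
    have hvX : el x y m m * z ∈ X := ⟨_, Subgroup.mem_sup_left hv, by rw [hconj, himv]⟩
    have hz : z ∈ X := by
      have := mul_mem (hd (-m)) hvX
      rwa [h.mul_ez, neg_add_cancel, h.el_zero, one_mul] at this
    have hq0 : el x y q 0 ∈ X := by
      have h1 := mul_mem (mul_mem huX (hd (-i))) (hd q)
      rw [h.el_mul, h.el_mul] at h1
      obtain ⟨t, ht⟩ := hkodd
      obtain ⟨c, hc⟩ := hij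
      rwa [show el x y (i + -i + q) (j + -i + q) = el x y q 0 from h.el_eq_iff.2
        ⟨⟨0, by ring⟩, ⟨c - t, by
          rw [h.two_pow_eq.1, ← hq] at hc ⊢
          rw [hk, ht] at hc ⊢
          linear_combination hc + (2 * t + 1) * h.quarter_eq⟩⟩] at h1
    have hel : ∀ e f, q ∣ e - f → el x y e f ∈ X := by
      rintro e f ⟨c, hc⟩
      rcases Int.even_or_odd c with ⟨t, rfl⟩ | ⟨t, rfl⟩
      · rw [show el x y e f = el x y f f from h.el_eq_iff.2
          ⟨⟨t, by rw [h.two_pow_eq.1, ← hq]; linear_combination hc⟩, by simp⟩]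
        exact hd f
      · rw [show el x y e f = el x y q 0 * el x y f f by
          rw [h.el_mul, h.el_eq_iff]
          exact ⟨⟨t, by rw [h.two_pow_eq.1, ← hq]; linear_combination hc⟩, by simp⟩]
        exact mul_mem hq0 (hd f)
    rintro _ ⟨e, f, hef, rfl | rfl⟩
    · exact hel e f hef
    · exact mul_mem (hel e f hef) hz

theorem isConj_z (h : WRGen x y z n) {i j : ℤ} (hij : (2 : ℤ) ^ n ∣ i + j) :
    IsConj (el x y 0 0 * z) (el x y i j * z) := by
  refine isConj_iff.2 ⟨el x y i 0, ?_⟩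
  rw [h.el_inv, h.mul_ez, h.mul_ze, mul_left_inj, h.el_eq_iff]
  exact ⟨⟨0, by ring⟩, by rw [show 0 + 0 + -i - j = -(i + j) by ring, dvd_neg]; exact hij⟩

theorem invol_classes (h : WRGen x y z n) {u : S} (hu : orderOf u = 2) :
    u = el x y (2 ^ (n - 1)) (2 ^ (n - 1)) ∨ IsConj (el x y (2 ^ (n - 1)) 0) u ∨
      IsConj (el x y 0 0 * z) u := by
  obtain ⟨i, j, rfl | rfl⟩ := h.normal_form u
  · rcases h.invol_el hu with e | e | e <;> rw [e]
    · exact Or.inr (Or.inl (IsConj.refl _))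
    · exact Or.inr (Or.inl (isConj_iff.2 ⟨el x y 0 0 * z, h.conj_z_el 0 0 _ 0⟩))
    · exact Or.inl rfl
  · exact Or.inr (Or.inr (h.isConj_z (h.orderOf_el_z_iff.1 hu)))

end WRGen

end Cfsg.Agent.Lib.Involutions
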