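import Mathlib
import Cfsg.Agent.Lib.Involutions.WreathedFacts
import Cfsg.Agent.Lib.Involutions.AutomizerTools
import Cfsg.Agent.S1196
import Cfsg.Agent.S1197

/-!
# The two automisers of a wreathed Sylow 2-subgroup, and fusion
-/

namespace Cfsg.Agent.Lib.Involutions

variable {G : Type*} [Group G]

theorem isWreathed_of_mulEquiv {A B : Type*} [Group A] [Group B] (e : A ≃* B)
    (h : Cfsg.IsWreathed A) : Cfsg.IsWreathed B := by
  obtain ⟨n, hn, hc, x, y, z, hx, hxy, hd, hz, hzx⟩ := h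
  refine ⟨n, hn, by rw [← Nat.card_congr e.toEquiv, hc], e x, e y, e z, ?_, ?_, ?_, ?_, ?_⟩
  · rw [MulEquiv.orderOf_eq, hx]
  · rw [← map_mul, ← map_mul, hxy]
  · have hx' : Subgroup.zpowers (e x) = (Subgroup.zpowers x).map e.toMonoidHom :=
      (MonoidHom.map_zpowers e.toMonoidHom x).symm
    have hy' : Subgroup.zpowers (e y) = (Subgroup.zpowers y).map e.toMonoidHom :=
      (MonoidHom.map_zpowers e.toMonoidHom y).symm
    rw [hx', hy', ← Subgroup.map_inf _ _ _ e.injective, hd, Subgroup.map_bot]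
  · rw [MulEquiv.orderOf_eq, hz]
  · rw [← map_inv, ← map_mul, ← map_mul, hzx]

namespace WRGen

theorem n_eq {A : Type*} [Group A] {x y z : A} {n m : ℕ} (h : WRGen x y z n)
    (hm : Nat.card A = 2 ^ (2 * m + 1)) : n = m := by
  have := Nat.pow_right_injective le_rfl (h.card.symm.trans hm)
  omega

end WRGen

namespace WRFusion

variable (S : Sylow 2 G) {x y z : (S : Subgroup G)} {n : ℕ} (h : WRGen x y z n)

/-- The base, as a subgroup of `G`. -/
def UG (h : WRGen x y z n) : Subgroup G := h.base.map (S : Subgroup G).subtype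

/-- The subgroup `vsub`, as a subgroup of `G`. -/
def WG (h : WRGen x y z n) : Subgroup G := h.vsub.map (S : Subgroup G).subtype

/-- The image in `G` of `x ^ i * y ^ j`. -/
def eg (_h : WRGen x y z n) (i j : ℤ) : G := ((el x y i j : (S : Subgroup G)) : G)

include h

theorem isW : Cfsg.IsWreathed (S : Subgroup G) :=
  ⟨n, h.hn, h.card, x, y, z, h.ox, h.comm, h.disj, h.oz, h.conj⟩

theorem mem_UG {g : G} : g ∈ UG S h ↔ ∃ i j : ℤ, g = eg S h i j := by
  constructor
  · rintro ⟨d, ⟨i, j, rfl⟩, rfl⟩; exact ⟨i, j, rfl⟩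
  · rintro ⟨i, j, rfl⟩; exact ⟨_, ⟨i, j, rfl⟩, rfl⟩

theorem WG_le : WG S h ≤ (S : Subgroup G) := Subgroup.map_subtype_le _

theorem UG_le : UG S h ≤ (S : Subgroup G) := Subgroup.map_subtype_le _

theorem eg_diag_mem_WG (k : ℤ) : eg S h k k ∈ WG S h :=
  ⟨_, (h.el_mem_vsub_iff k k).2 (by simp), rfl⟩

variable [Finite G]

/-- A quaternion subgroup of `WG`. -/
theorem exists_quatG : ∃ Q : Subgroup G, ((h.qi : (S : Subgroup G)) : G) ∈ Q ∧
    ((h.qj : (S : Subgroup G)) : G) ∈ Q ∧ Q ≤ WG S h ∧ Nonempty (Q ≃* QuaternionGroup 2) := by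
  obtain ⟨Q, h1, h2, h3, ⟨e⟩⟩ := h.exists_quat
  exact ⟨Q.map (S : Subgroup G).subtype, ⟨_, h1, rfl⟩, ⟨_, h2, rfl⟩, Subgroup.map_mono h3,
    ⟨(Q.equivMapOfInjective _ (Subgroup.subtype_injective _)).symm.trans e⟩⟩

/-- In another Sylow subgroup over `WG` the centralizer of the quaternion subgroup is the centre,
which equals the centre of `S`. -/
theorem centralizer_in_sylow {S' : Sylow 2 G} (hS' : WG S h ≤ (S' : Subgroup G)) {Q : Subgroup G}
    (hQ : Q ≤ WG S h) (eQ : Q ≃* QuaternionGroup 2) :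
    (∀ k : ℤ, ∀ s ∈ (S' : Subgroup G), Commute (eg S h k k) s) ∧
    ∀ c ∈ (S' : Subgroup G), (∀ v ∈ Q, Commute c v) → ∃ k : ℤ, c = eg S h k k := by
  have hW' := isWreathed_of_mulEquiv (Sylow.equiv S S') (isW S h)
  obtain ⟨x', y', z', n', h'⟩ := exists_wrGen hW'
  let eQ' := (Subgroup.subgroupOfEquivOfLe (hQ.trans hS')).trans eQ
  have key : ∀ (c : G) (hc : c ∈ (S' : Subgroup G)), (∀ v ∈ Q, Commute c v) →
      (⟨c, hc⟩ : (S' : Subgroup G)) ∈ Subgroup.center (S' : Subgroup G) := fun c hc hcv =>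
    h'.centralizer_quat_le_center eQ' fun v hv => Subtype.ext (hcv _ hv).eq
  have hdiag : ∀ (k : ℤ), ∀ v ∈ Q, Commute (eg S h k k) v := fun k v hv => by
    obtain ⟨d, -, rfl⟩ := hQ hv
    exact congrArg Subtype.val (h.diag_comm k d)
  refine ⟨fun k s hs => ?_, fun c hc hcv => ?_⟩
  · exact (congrArg Subtype.val (Subgroup.mem_center_iff.1
      (key _ (hS' (eg_diag_mem_WG S h k)) (hdiag k)) ⟨s, hs⟩)).symm
  -- the centres have the same order
  have hD : (Subgroup.center (S : Subgroup G)).map (S : Subgroup G).subtype ≤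
      (Subgroup.center (S' : Subgroup G)).map (S' : Subgroup G).subtype := by
    rintro _ ⟨d, hd, rfl⟩
    obtain ⟨k, rfl⟩ := (h.center_iff d).1 hd
    exact ⟨⟨_, hS' (eg_diag_mem_WG S h k)⟩, key _ _ (hdiag k), rfl⟩
  have hcard : Nat.card (S' : Subgroup G) = 2 ^ (2 * n + 1) := by
    rw [← Nat.card_congr (Sylow.equiv S S').toEquiv, h.card]
  have heq := Subgroup.eq_of_le_of_card_ge hD (by
    rw [Subgroup.card_map_of_injective (Subgroup.subtype_injective _),
      Subgroup.card_map_of_injective (Subgroup.subtype_injective _),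
      (Cfsg.Agent.S1197.result hW' n hcard).2.1, (Cfsg.Agent.S1197.result (isW S h) n h.card).2.1])
  have hc' : c ∈ (Subgroup.center (S : Subgroup G)).map (S : Subgroup G).subtype :=
    heq ▸ ⟨⟨c, hc⟩, key c hc hcv, rfl⟩
  obtain ⟨d, hd, rfl⟩ := hc'
  obtain ⟨k, rfl⟩ := (h.center_iff d).1 hd
  exact ⟨k, rfl⟩

theorem WG_isPGroup : IsPGroup 2 (WG S h) := S.isPGroup'.to_le (WG_le S h)

theorem UG_isPGroup : IsPGroup 2 (UG S h) := S.isPGroup'.to_le (UG_le S h)

/-- The normalizer of `WG` centralizes its centre. -/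
theorem centralizes_diag {g : G} (hg : g ∈ Subgroup.normalizer (WG S h : Set G)) (k : ℤ) :
    g * eg S h k k * g⁻¹ = eg S h k k := by
  obtain ⟨Q, -, -, hQ, ⟨eQ⟩⟩ := exists_quatG S h
  obtain ⟨a, b, -, -, ha, hb, hodd, ⟨e, he⟩, rfl⟩ := normalizer_parts hg
  have hbk : b * eg S h k k * b⁻¹ = eg S h k k := by
    obtain ⟨S', hS', hbS'⟩ := exists_sylow_over (WG_isPGroup S h) hb he
    rw [← ((centralizer_in_sylow S h hS' hQ eQ).1 k b hbS').eq, mul_inv_cancel_right]
  have hak : a * eg S h k k * a⁻¹ = eg S h k k := by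
    obtain ⟨φ, hφ, hφv⟩ := exists_odd_aut ha hodd
    set c1 : WG S h := ⟨eg S h 1 1, eg_diag_mem_WG S h 1⟩ with hc1
    have hfix : φ c1 = c1 := by
      refine fix_cyclic (WG_isPGroup S h) hφ ?_
      have hcen : ∀ v : WG S h, c1 * v = v * c1 := by
        rintro ⟨_, d, hd, rfl⟩
        exact Subtype.ext (show eg S h 1 1 * (d : G) = (d : G) * eg S h 1 1 from
          congrArg Subtype.val (h.diag_comm 1 d))
      have hcen' : ∀ v : WG S h, φ c1 * v = v * φ c1 := fun v => by
        obtain ⟨w, rfl⟩ := φ.surjective v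
        rw [← map_mul, ← map_mul, hcen]
      obtain ⟨d, hd, hde⟩ := (φ c1).2
      obtain ⟨i, hi⟩ := h.center_vsub hd fun v hv => by
        have := hcen' ⟨_, v, hv, rfl⟩
        apply Subtype.ext
        show (d : G) * v = v * d
        have h2 : ((φ c1 : WG S h) : G) * v = (v : G) * ((φ c1 : WG S h) : G) :=
          congrArg Subtype.val this
        rwa [← hde] at h2
      refine ⟨i, Subtype.ext ?_⟩
      rw [Subgroup.coe_zpow, ← hde, hi]
      show (((el x y 1 1 : (S : Subgroup G)) : G)) ^ i = _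
      rw [← Subgroup.coe_zpow, h.el_diag_zpow]
      rfl
    have h1 : a * eg S h 1 1 * a⁻¹ = eg S h 1 1 := by
      rw [← hφv c1, hfix]
    have e1 : eg S h k k = eg S h 1 1 ^ k := by
      rw [eg, eg, ← Subgroup.coe_zpow, h.el_diag_zpow]
    rw [e1, ← conj_zpow, h1]
  rw [show a * b * eg S h k k * (a * b)⁻¹ = a * (b * eg S h k k * b⁻¹) * a⁻¹ by group, hbk, hak]

omit h [Finite G] in
theorem eq_or_inv_of_mem_zpowers {c w : G} (hc : orderOf c = 4) (hw : w ∈ Subgroup.zpowers c)
    (ho : orderOf w = 4) : w = c ∨ w = c⁻¹ := by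
  obtain ⟨i, rfl⟩ := hw
  have h4 : c ^ (4 : ℤ) = 1 := by
    rw [show (4 : ℤ) = ((4 : ℕ) : ℤ) from rfl, zpow_natCast, ← hc, pow_orderOf_eq_one]
  have hmod : c ^ i = c ^ (i % 4) := by
    conv_lhs => rw [← Int.mul_ediv_add_emod i 4, zpow_add, zpow_mul, h4, one_zpow, one_mul]
  have hr : i % 4 = 0 ∨ i % 4 = 1 ∨ i % 4 = 2 ∨ i % 4 = 3 := by omega
  show c ^ i = c ∨ c ^ i = c⁻¹
  rw [hmod]
  rcases hr with e | e | e | e <;> rw [e]
  · exfalso
    rw [show (fun j : ℤ => c ^ j) i = c ^ i from rfl, hmod, e, zpow_zero, orderOf_one] at ho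
    norm_num at ho
  · exact Or.inl (zpow_one c)
  · exfalso
    have h2 : (c ^ i) ^ 2 = 1 := by
      rw [hmod, e, ← zpow_natCast, ← zpow_mul]; exact h4
    have := orderOf_dvd_of_pow_eq_one h2
    rw [show orderOf (c ^ i) = 4 from ho] at this
    norm_num at this
  · refine Or.inr (eq_inv_of_mul_eq_one_left ?_)
    rw [← zpow_add_one]; exact h4

theorem orderOf_four {w : (S : Subgroup G)} (hw : w * w = el x y (2 ^ (n - 1)) (2 ^ (n - 1))) :
    orderOf (w : G) = 4 := by
  have : Fact (Nat.Prime 2) := ⟨Nat.prime_two⟩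
  rw [Subgroup.orderOf_coe]
  refine orderOf_eq_prime_pow (p := 2) (n := 1) ?_ ?_
  · rw [pow_one, sq, hw]; exact h.el_half_ne
  · rw [show 2 ^ (1 + 1) = 2 * 2 from rfl, pow_mul, sq w, hw, sq, h.el_mul, h.el_eq_one_iff,
      ← two_mul, ← h.two_pow_eq.1, and_self]

theorem el_r_mem_normalizer :
    eg S h (2 ^ (n - 2)) 0 ∈ Subgroup.normalizer (WG S h : Set G) := by
  refine mem_normalizer_of_maps ?_
  rintro _ ⟨d, hd, rfl⟩
  have hn := (h.el_mem_normalizer_vsub_iff (2 ^ (n - 2)) 0).2 (by simp)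
  exact ⟨_, (Subgroup.mem_normalizer_iff.1 hn d).1 hd, rfl⟩

theorem two_pow_S (s : (S : Subgroup G)) : ∃ k : ℕ, (s : G) ^ 2 ^ k = 1 := by
  obtain ⟨k, hk⟩ := S.isPGroup' s
  exact ⟨k, congrArg Subtype.val hk⟩

/-- The automiser of `WG`. -/
theorem exists_threeW : ∃ t : Three (WG S h),
    t.c 0 = ((h.qi : (S : Subgroup G)) : G) ∧ t.c 1 = ((h.qj : (S : Subgroup G)) : G) ∧
    eg S h (2 ^ (n - 2)) 0 * t.c 1 * (eg S h (2 ^ (n - 2)) 0)⁻¹ = t.c 2 ∧
    ((WG S h ⊔ Subgroup.centralizer (WG S h : Set G)).relIndex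
        (Subgroup.normalizer (WG S h : Set G)) = 2 ∨
      (WG S h ⊔ Subgroup.centralizer (WG S h : Set G)).relIndex
        (Subgroup.normalizer (WG S h : Set G)) = 6) := by
  obtain ⟨Q, hiQ, hjQ, hQW, ⟨eQ⟩⟩ := exists_quatG S h
  set zc : (S : Subgroup G) := el x y (2 ^ (n - 1)) (2 ^ (n - 1)) with hzc
  have hi4 := orderOf_four S h h.qi_sq
  have hj4 := orderOf_four S h h.qj_sq
  have hk2 : h.qi * h.qj * (h.qi * h.qj) = zc := by
    rw [h.qiqj, h.el_z_sq, h.el_eq_iff, and_self]
    exact ⟨0, by ring⟩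
  have hk4 := orderOf_four S h hk2
  have hu2 : ((h.qi : (S : Subgroup G)) : G) * h.qi ≠ 1 := fun e =>
    h.el_half_ne (h.qi_sq ▸ Subtype.ext e)
  have hv2 : ((h.qj : (S : Subgroup G)) : G) * h.qj ≠ 1 := fun e =>
    h.el_half_ne (h.qj_sq ▸ Subtype.ext e)
  have hne : ((h.qj : (S : Subgroup G)) : G) ≠ h.qi := fun e => h.qj_ne.1 (Subtype.ext e)
  have hne' : ((h.qj : (S : Subgroup G)) : G) ≠ ((h.qi : (S : Subgroup G)) : G)⁻¹ :=
    fun e => h.qj_ne.2 (Subtype.ext e)
  let t0 := threeQuat eQ hiQ hjQ hu2 hv2 hne hne'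
  -- every `c m` is the image of some `w` of square `zc` which is not central
  have hw : ∀ m, ∃ w : (S : Subgroup G), w * w = zc ∧ (∀ k, w ≠ el x y k k) ∧ t0.c m = (w : G) := by
    intro m
    match m with
    | 0 => exact ⟨h.qi, h.qi_sq, h.qi_not_diag, rfl⟩
    | 1 => exact ⟨h.qj, h.qj_sq, h.qj_not_diag, rfl⟩
    | 2 => exact ⟨h.qi * h.qj, hk2, h.qiqj_not_diag, rfl⟩
  have hdec : ∀ v ∈ WG S h, ∃ w ∈ Q, ∃ k, v = w * eg S h k k := by
    rintro _ ⟨d, hd, rfl⟩
    obtain ⟨k, e | e | e | e⟩ := h.vsub_decomp hd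
    · exact ⟨1, one_mem _, k, by rw [one_mul, e]; rfl⟩
    · exact ⟨_, hiQ, k, by rw [e]; rfl⟩
    · exact ⟨_, hjQ, k, by rw [e]; rfl⟩
    · exact ⟨_, mul_mem hiQ hjQ, k, by rw [e]; rfl⟩
  have hdiag : ∀ k, ∀ v ∈ WG S h, Commute (eg S h k k) v := by
    rintro k _ ⟨d, -, rfl⟩
    exact congrArg Subtype.val (h.diag_comm k d)
  let t : Three (WG S h) :=
  { c := t0.c
    mem := fun m => hQW (t0.mem m)
    sep := t0.sep
    cases := by
      intro g hg m
      obtain ⟨w, hw2, hwd, hwe⟩ := hw m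
      have hm := (Subgroup.mem_set_normalizer_iff.1 hg _).1 (hQW (t0.mem m))
      obtain ⟨d, hd, hde⟩ := hm
      have hde' : (d : G) = g * t0.c m * g⁻¹ := hde
      have hsq : d * d = zc := by
        apply Subtype.ext
        rw [Subgroup.coe_mul, hde', conj_mul, hwe,
          show (w : G) * (w : G) = eg S h (2 ^ (n - 1)) (2 ^ (n - 1)) from congrArg Subtype.val hw2,
          centralizes_diag S h hg]
        rfl
      rcases h.sq_half_vsub hd hsq with ⟨k, rfl⟩ | e | e | e | e | e | e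
      · exfalso
        refine hwd k (Subtype.ext ?_)
        rw [← hwe]
        have h1 := centralizes_diag S h (inv_mem hg) k
        rw [show eg S h k k = g * t0.c m * g⁻¹ from hde'] at h1
        rw [show ((el x y k k : (S : Subgroup G)) : G) = g * t0.c m * g⁻¹ from hde']
        rw [← h1]; group
      · exact ⟨0, Or.inl (by rw [← hde', e]; rfl)⟩
      · exact ⟨0, Or.inr (by rw [← hde', e]; rfl)⟩
      · exact ⟨1, Or.inl (by rw [← hde', e]; rfl)⟩
      · exact ⟨1, Or.inr (by rw [← hde', e]; rfl)⟩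
      · exact ⟨2, Or.inl (by rw [← hde', e]; rfl)⟩
      · exact ⟨2, Or.inr (by rw [← hde', e]; rfl)⟩
    inner := by
      intro v hv m
      obtain ⟨w, hwQ, k, rfl⟩ := hdec v hv
      have : w * eg S h k k * t0.c m * (w * eg S h k k)⁻¹ = w * t0.c m * w⁻¹ := by
        rw [show w * eg S h k k * t0.c m * (w * eg S h k k)⁻¹ =
          w * (eg S h k k * t0.c m * (eg S h k k)⁻¹) * w⁻¹ by group,
          (hdiag k _ (hQW (t0.mem m))).eq, mul_inv_cancel_right]
      rw [this]
      exact t0.inner w hwQ m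
    faithful := by
      intro g hg hfix
      have hz : ∀ m, g ∈ Subgroup.normalizer (Subgroup.zpowers (t0.c m) : Set G) := fun m =>
        mem_normalizer_of_maps (by
          rintro _ ⟨i, rfl⟩
          rw [← conj_zpow]
          refine zpow_mem ?_ i
          rcases hfix m with e | e <;> rw [e]
          · exact Subgroup.mem_zpowers _
          · exact inv_mem (Subgroup.mem_zpowers _))
      obtain ⟨a, b, haz, hbz, ha, hb, hodd, ⟨e, he⟩, rfl⟩ := normalizer_parts hg
      have hpow : ∀ w ∈ Subgroup.zpowers (a * b), ∀ m,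
          w * t0.c m * w⁻¹ ∈ Subgroup.zpowers (t0.c m) := fun w hw' m =>
        (Subgroup.mem_set_normalizer_iff.1 ((Subgroup.zpowers_le.2 (hz m)) hw') _).1
          (Subgroup.mem_zpowers _)
      refine mul_mem (Subgroup.mem_sup_right ?_) ?_
      · obtain ⟨φ, hφ, hφv⟩ := exists_odd_aut ha hodd
        have hc : ∀ m, Commute a (t0.c m) := by
          intro m
          obtain ⟨i, hi⟩ := hpow a haz m
          have hfixm : φ ⟨t0.c m, hQW (t0.mem m)⟩ = ⟨t0.c m, hQW (t0.mem m)⟩ :=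
            fix_cyclic (WG_isPGroup S h) hφ ⟨i, Subtype.ext (by
              rw [Subgroup.coe_zpow, hφv]; exact hi)⟩
          have := congrArg Subtype.val hfixm
          rw [hφv] at this
          exact mul_inv_eq_iff_eq_mul.1 this
        rw [Subgroup.mem_centralizer_iff]
        intro v hv
        obtain ⟨w, hwQ, k, rfl⟩ := hdec v hv
        obtain ⟨p, q, rfl⟩ := quat_gen eQ hiQ hjQ hu2 hv2 hne hne' hwQ
        have hk : Commute a (eg S h k k) := mul_inv_eq_iff_eq_mul.1 (centralizes_diag S h ha k)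
        exact ((((hc 0).pow_right p).mul_right ((hc 1).pow_right q)).mul_right hk).symm.eq
      · have hpair : ∀ m, b * t0.c m * b⁻¹ = t0.c m ∨ b * t0.c m * b⁻¹ = (t0.c m)⁻¹ := by
          intro m
          obtain ⟨w, hw2, -, hwe⟩ := hw m
          have h4 : orderOf (t0.c m) = 4 := by rw [hwe]; exact orderOf_four S h hw2
          exact eq_or_inv_of_mem_zpowers h4 (hpow b hbz m) (by rw [orderOf_conj_eq, h4])
        obtain ⟨w, hwQ, hwc⟩ := quat_split eQ hiQ hjQ hu2 hv2 hne hne' (hpair 0) (hpair 1)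
        obtain ⟨S', hS', hbS'⟩ := exists_sylow_over (WG_isPGroup S h) hb he
        obtain ⟨k, hk⟩ := (centralizer_in_sylow S h hS' hQW eQ).2 _
          (mul_mem (inv_mem (hS' (hQW hwQ))) hbS')
          (fun v hv => (Subgroup.mem_centralizer_iff.1 hwc v hv).symm)
        rw [show b = w * eg S h k k by rw [← hk, mul_inv_cancel_left]]
        exact Subgroup.mem_sup_left (mul_mem (hQW hwQ) (eg_diag_mem_WG S h k))
    prod := t0.prod }
  have hmove : eg S h (2 ^ (n - 2)) 0 * t.c 1 * (eg S h (2 ^ (n - 2)) 0)⁻¹ = t.c 2 :=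
    congrArg Subtype.val h.conj_r_qj
  obtain ⟨k, hk⟩ := two_pow_S S h (el x y (2 ^ (n - 2)) 0)
  exact ⟨t, rfl, rfl, hmove, t.two_or_six (el_r_mem_normalizer S h) hk
    (show (1 : Fin 3) ≠ 2 by decide) (Or.inl hmove)⟩

/-- The three involutions of the base. -/
theorem exists_threeU : ∃ t : Three (UG S h),
    t.c 0 = eg S h (2 ^ (n - 1)) 0 ∧ t.c 1 = eg S h 0 (2 ^ (n - 1)) ∧
    t.c 2 = eg S h (2 ^ (n - 1)) (2 ^ (n - 1)) ∧
    ((el x y 0 0 * z : (S : Subgroup G)) : G) * t.c 0 *
      ((el x y 0 0 * z : (S : Subgroup G)) : G)⁻¹ = t.c 1 ∧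
    UG S h ⊔ Subgroup.centralizer (UG S h : Set G) = Subgroup.centralizer (UG S h : Set G) ∧
    ((UG S h ⊔ Subgroup.centralizer (UG S h : Set G)).relIndex
        (Subgroup.normalizer (UG S h : Set G)) = 2 ∨
      (UG S h ⊔ Subgroup.centralizer (UG S h : Set G)).relIndex
        (Subgroup.normalizer (UG S h : Set G)) = 6) := by
  set q : ℤ := 2 ^ (n - 1) with hq
  have hqq : (2 : ℤ) ^ n ∣ q + q := ⟨1, by rw [h.two_pow_eq.1]; ring⟩
  have hab : ∀ u ∈ UG S h, ∀ v ∈ UG S h, Commute u v := by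
    intro u hu v hv
    obtain ⟨i, j, rfl⟩ := (mem_UG S h).1 hu
    obtain ⟨k, l, rfl⟩ := (mem_UG S h).1 hv
    refine congrArg Subtype.val (?_ : el x y i j * el x y k l = el x y k l * el x y i j)
    rw [h.el_mul, h.el_mul, add_comm i, add_comm j]
  have hsup : UG S h ⊔ Subgroup.centralizer (UG S h : Set G) =
      Subgroup.centralizer (UG S h : Set G) :=
    sup_eq_right.2 fun u hu => Subgroup.mem_centralizer_iff.2 fun v hv => (hab v hv u hu).eq
  have h12 : eg S h q 0 * eg S h 0 q = eg S h q q := by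
    rw [eg, eg, eg, ← Subgroup.coe_mul, h.el_mul, add_zero, zero_add]
  have hoe : ∀ i j, (2 : ℤ) ^ n ∣ i + i → (2 : ℤ) ^ n ∣ j + j → eg S h i j * eg S h i j = 1 :=
    fun i j hi hj => congrArg Subtype.val
      (show el x y i j * el x y i j = 1 by rw [h.el_mul, h.el_eq_one_iff]; exact ⟨hi, hj⟩)
  let c : Fin 3 → G := ![eg S h q 0, eg S h 0 q, eg S h q q]
  have hcm : ∀ m, c m ∈ UG S h := fun m => by
    fin_cases m <;> exact (mem_UG S h).2 ⟨_, _, rfl⟩
  have hc2 : ∀ m, c m * c m = 1 := fun m => by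
    fin_cases m
    · exact hoe _ _ hqq (by simp)
    · exact hoe _ _ (by simp) hqq
    · exact hoe _ _ hqq hqq
  have hcinv : ∀ m, (c m)⁻¹ = c m := fun m => inv_eq_of_mul_eq_one_left (hc2 m)
  have hc1 : ∀ m, c m ≠ 1 := fun m => by
    fin_cases m <;> intro e
    · exact h.el_half_ne_one 0 (Subtype.ext e)
    · exact h.el_half_ne_one' 0 (Subtype.ext e)
    · exact h.el_half_ne_one q (Subtype.ext e)
  have hnd : ¬ (2 : ℤ) ^ n ∣ q := h.half_not_dvd
  have hcases : ∀ g ∈ Subgroup.normalizer (UG S h : Set G), ∀ m,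
      ∃ m', g * c m * g⁻¹ = c m' := by
    intro g hg m
    have hm := (Subgroup.mem_set_normalizer_iff.1 hg _).1 (hcm m)
    obtain ⟨i, j, hij⟩ := (mem_UG S h).1 hm
    have ho : orderOf (el x y i j : (S : Subgroup G)) = 2 := by
      rw [← Subgroup.orderOf_coe]
      show orderOf (eg S h i j) = 2
      rw [← hij, orderOf_conj_eq]
      exact orderOf_eq_two_of_mul_self (hc2 m) (hc1 m)
    rcases h.invol_el ho with e | e | e
    · exact ⟨0, by rw [hij, eg, e]; rfl⟩
    · exact ⟨1, by rw [hij, eg, e]; rfl⟩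
    · exact ⟨2, by rw [hij, eg, e]; rfl⟩
  let t : Three (UG S h) :=
  { c := c
    mem := hcm
    sep := by
      intro m m' he
      rw [hcinv, or_self] at he
      fin_cases m <;> fin_cases m' <;> first
        | rfl
        | (exfalso
           have he' := h.el_eq_iff.1 (Subtype.ext he)
           simp only [sub_zero, zero_sub, dvd_neg, sub_self] at he'
           exact hnd (by first | exact he'.1 | exact he'.2))
    cases := fun g hg m => (hcases g hg m).imp fun _ e => Or.inl e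
    inner := fun v hv m => Or.inl (by rw [(hab v hv _ (hcm m)).eq, mul_inv_cancel_right])
    faithful := by
      intro g hg hfix
      have hcz : ∀ w ∈ Subgroup.zpowers g, ∀ m, w * c m * w⁻¹ = c m := by
        rintro _ ⟨i, rfl⟩ m
        have h1 : Commute g (c m) := by
          rcases hfix m with e | e
          · exact mul_inv_eq_iff_eq_mul.1 e
          · rw [hcinv] at e; exact mul_inv_eq_iff_eq_mul.1 e
        show g ^ i * c m * (g ^ i)⁻¹ = c m
        rw [(h1.zpow_left i).eq, mul_inv_cancel_right]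
      obtain ⟨a, b, haz, hbz, ha, hb, hodd, ⟨e, he⟩, rfl⟩ := normalizer_parts hg
      refine mul_mem (Subgroup.mem_sup_right ?_) (Subgroup.mem_sup_left ?_)
      · obtain ⟨φ, hφ, hφv⟩ := exists_odd_aut ha hodd
        have hfixall := fix_of_fix_invol (UG_isPGroup S h)
          ⟨⟨fun u v => Subtype.ext (hab u u.2 v v.2).eq⟩⟩ hφ (fun u hu => by
            by_cases hu1 : u = 1
            · rw [hu1, map_one]
            obtain ⟨i, j, hij⟩ := (mem_UG S h).1 u.2
            have ho : orderOf (el x y i j : (S : Subgroup G)) = 2 := by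
              rw [← Subgroup.orderOf_coe, show ((el x y i j : (S : Subgroup G)) : G) = u from hij.symm,
                Subgroup.orderOf_coe]
              exact orderOf_eq_two_of_mul_self hu hu1
            apply Subtype.ext
            rw [hφv, hij]
            rcases h.invol_el ho with e | e | e <;> rw [eg, e]
            · exact hcz a haz 0
            · exact hcz a haz 1
            · exact hcz a haz 2)
        rw [Subgroup.mem_centralizer_iff]
        intro v hv
        have := congrArg Subtype.val (hfixall ⟨v, hv⟩)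
        rw [hφv] at this
        exact (mul_inv_eq_iff_eq_mul.1 this).symm
      · obtain ⟨S', hS', hbS'⟩ := exists_sylow_over (UG_isPGroup S h) hb he
        obtain ⟨x', y', z', n', h'⟩ :=
          exists_wrGen (isWreathed_of_mulEquiv (Sylow.equiv S S') (isW S h))
        have hcard : Nat.card (S' : Subgroup G) = 2 ^ (2 * n + 1) := by
          rw [← Nat.card_congr (Sylow.equiv S S').toEquiv, h.card]
        obtain rfl := h'.n_eq hcard
        have hbase : (UG S h).subgroupOf (S' : Subgroup G) = h'.base := by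
          refine (Cfsg.Agent.S1196.result
            (isWreathed_of_mulEquiv (Sylow.equiv S S') (isW S h)) n' h'.card).1.unique ⟨?_, ?_⟩
            ⟨h'.isMulCommutative_base, h'.card_base⟩
          · exact ⟨⟨fun u v => Subtype.ext (Subtype.ext (hab _ u.2 _ v.2).eq)⟩⟩
          · rw [Nat.card_congr (Subgroup.subgroupOfEquivOfLe hS').toEquiv, UG,
              Subgroup.card_map_of_injective (Subgroup.subtype_injective _), h.card_base]
        obtain ⟨i, j, hb' | hb'⟩ := h'.normal_form ⟨b, hbS'⟩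
        · have : (⟨b, hbS'⟩ : (S' : Subgroup G)) ∈ (UG S h).subgroupOf (S' : Subgroup G) := by
            rw [hbase, hb']; exact h'.el_mem_base i j
          exact this
        · exfalso
          have hw : el x' y' (2 ^ (n' - 1)) 0 ∈ (UG S h).subgroupOf (S' : Subgroup G) :=
            hbase ▸ h'.el_mem_base _ _
          obtain ⟨p, r, hpr⟩ := (mem_UG S h).1 hw
          change ((el x' y' (2 ^ (n' - 1)) 0 : (S' : Subgroup G)) : G) = eg S h p r at hpr
          have ho' : orderOf (el x' y' (2 ^ (n' - 1)) 0) = 2 :=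
            orderOf_eq_two_of_mul_self (by
              rw [h'.el_mul, h'.el_eq_one_iff]
              exact ⟨⟨1, by rw [h'.two_pow_eq.1]; ring⟩, by simp⟩) (h'.el_half_ne_one 0)
          have ho : orderOf (el x y p r : (S : Subgroup G)) = 2 := by
            rw [← Subgroup.orderOf_coe, show ((el x y p r : (S : Subgroup G)) : G) = _ from hpr.symm,
              Subgroup.orderOf_coe, ho']
          have hfixw : b * ((el x' y' (2 ^ (n' - 1)) 0 : (S' : Subgroup G)) : G) * b⁻¹ =
              ((el x' y' (2 ^ (n' - 1)) 0 : (S' : Subgroup G)) : G) := by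
            rw [hpr]
            rcases h.invol_el ho with e | e | e <;> rw [eg, e]
            · exact hcz b hbz 0
            · exact hcz b hbz 1
            · exact hcz b hbz 2
          have h3 : (⟨b, hbS'⟩ : (S' : Subgroup G)) * el x' y' (2 ^ (n' - 1)) 0 *
              (⟨b, hbS'⟩ : (S' : Subgroup G))⁻¹ = el x' y' (2 ^ (n' - 1)) 0 := Subtype.ext hfixw
          rw [hb', h'.conj_z_el, h'.el_eq_iff, sub_zero] at h3
          exact h'.half_not_dvd h3.2
    prod := h12.symm }
  have hmove : ((el x y 0 0 * z : (S : Subgroup G)) : G) * t.c 0 *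
      ((el x y 0 0 * z : (S : Subgroup G)) : G)⁻¹ = t.c 1 :=
    congrArg Subtype.val (h.conj_z_el 0 0 q 0)
  have hN : ((el x y 0 0 * z : (S : Subgroup G)) : G) ∈ Subgroup.normalizer (UG S h : Set G) := by
    refine mem_normalizer_of_maps fun v hv => ?_
    obtain ⟨i, j, rfl⟩ := (mem_UG S h).1 hv
    exact (mem_UG S h).2 ⟨j, i, congrArg Subtype.val (h.conj_z_el 0 0 i j)⟩
  obtain ⟨k, hk⟩ := two_pow_S S h (el x y 0 0 * z)
  exact ⟨t, rfl, rfl, rfl, hmove, hsup,
    t.two_or_six hN hk (show (0 : Fin 3) ≠ 1 by decide) (Or.inl hmove)⟩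

end WRFusion

end Cfsg.Agent.Lib.Involutions
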