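import Mathlib
import Cfsg.Agent.Lib.Involutions.WreathedAutomizers
import Cfsg.Agent.Lib.Involutions.QDFusion
import Cfsg.Agent.Lib.Involutions.Fusion
import Cfsg.Agent.Lib.Fusion.GroupSystem

/-!
# Fusion in groups with wreathed Sylow 2-subgroups
-/

namespace Cfsg.Agent.Lib.Involutions

variable {G : Type*} [Group G]

/-- The Sylow subgroups of a normal subgroup meeting `S` in `M` are isomorphic to `M`. -/
theorem sylow_equiv_of_inter [Finite G] (S : Sylow 2 G) {M : Subgroup (S : Subgroup G)}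
    {K : Subgroup G} [K.Normal] (hK : ∀ u : (S : Subgroup G), ((u : G) ∈ K ↔ u ∈ M))
    (P : Sylow 2 K) : Nonempty ((P : Subgroup K) ≃* M) := by
  have : Fact (Nat.Prime 2) := ⟨Nat.prime_two⟩
  obtain ⟨R, hR⟩ := Cfsg.Agent.Lib.Fusion.exists_sylow_subgroupOf_normal S K
  refine ⟨((Sylow.equiv P R).trans (MulEquiv.subgroupCongr hR)).trans
    { toFun := fun u => ⟨⟨((u : K) : G), u.2⟩, (hK _).1 (u : K).2⟩
      invFun := fun v => ⟨⟨((v : (S : Subgroup G)) : G), (hK _).2 v.2⟩, (v : (S : Subgroup G)).2⟩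
      left_inv := fun u => rfl
      right_inv := fun v => rfl
      map_mul' := fun u v => rfl }⟩

/-- The transfer of a fusion-invariant homomorphism of a Sylow subgroup. -/
theorem transfer_eq_pow_of_invariant [Finite G] (S : Sylow 2 G) {A : Type*} [CommGroup A]
    (φ : (S : Subgroup G) →* A)
    (hinv : ∀ u v : (S : Subgroup G), IsConj (u : G) (v : G) → φ u = φ v) (u : (S : Subgroup G)) :
    MonoidHom.transfer φ (u : G) = φ u ^ (S : Subgroup G).index := by
  refine transfer_eq_pow_of_map_eq φ u fun k g₀ hk => ?_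
  rw [← map_pow]
  refine hinv _ _ (isConj_iff.2 ⟨g₀, ?_⟩)
  show g₀ * (g₀⁻¹ * (u : G) ^ k * g₀) * g₀⁻¹ = (u : G) ^ k
  group

namespace WRFusion

variable [Finite G] (S : Sylow 2 G) {x y z : (S : Subgroup G)} {n : ℕ} (h : WRGen x y z n)

include h

theorem UG_eq {U : Subgroup G} (hUS : U ≤ (S : Subgroup G)) (hab : IsMulCommutative U)
    (hcard : Nat.card U = 2 ^ (2 * n)) : U = UG S h := by
  have hc : IsMulCommutative (U.subgroupOf (S : Subgroup G)) := ⟨⟨fun u v => Subtype.ext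
    (Subtype.ext (congrArg Subtype.val (hab.is_comm.comm (⟨_, u.2⟩ : U) ⟨_, v.2⟩) :))⟩⟩
  have := (Cfsg.Agent.S1196.result (isW S h) n h.card).1.unique
    ⟨hc, by rw [Nat.card_congr (Subgroup.subgroupOfEquivOfLe hUS).toEquiv, hcard]⟩
    ⟨h.isMulCommutative_base, h.card_base⟩
  rw [UG, ← this, Subgroup.map_subgroupOf_eq_of_le hUS]

theorem VG_eq {Q : Subgroup G} (hQS : Q ≤ (S : Subgroup G)) (eQ : Q ≃* QuaternionGroup 2) :
    ∃ s ∈ (S : Subgroup G),
      (Q ⊔ (Subgroup.center (S : Subgroup G)).map (S : Subgroup G).subtype).map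
        (MulAut.conj s).toMonoidHom = WG S h := by
  obtain ⟨s, hs⟩ := h.quat_sup_center_conj ((Subgroup.subgroupOfEquivOfLe hQS).trans eQ)
  refine ⟨s, s.2, ?_⟩
  have e1 : Q ⊔ (Subgroup.center (S : Subgroup G)).map (S : Subgroup G).subtype =
      (Q.subgroupOf (S : Subgroup G) ⊔ Subgroup.center (S : Subgroup G)).map
        (S : Subgroup G).subtype := by
    rw [Subgroup.map_sup, Subgroup.map_subgroupOf_eq_of_le hQS]
  rw [e1, WG, ← hs, Subgroup.map_map, Subgroup.map_map]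
  rfl

theorem V_relIndex {Q : Subgroup G} (hQS : Q ≤ (S : Subgroup G)) (eQ : Q ≃* QuaternionGroup 2) :
    ((Q ⊔ ((Subgroup.center (S : Subgroup G)).map (S : Subgroup G).subtype)) ⊔
      Subgroup.centralizer ((Q ⊔ ((Subgroup.center (S : Subgroup G)).map (S : Subgroup G).subtype) :
        Subgroup G) : Set G)).relIndex
      (Subgroup.normalizer ((Q ⊔ ((Subgroup.center (S : Subgroup G)).map (S : Subgroup G).subtype) :
        Subgroup G) : Set G)) =
    (WG S h ⊔ Subgroup.centralizer (WG S h : Set G)).relIndex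
      (Subgroup.normalizer (WG S h : Set G)) := by
  obtain ⟨s, -, hs⟩ := VG_eq S h hQS eQ
  rw [← hs, relIndex_automizer_conj]

theorem U_relIndex {U : Subgroup G} (hUS : U ≤ (S : Subgroup G)) (hab : IsMulCommutative U)
    (hcard : Nat.card U = 2 ^ (2 * n)) :
    (Subgroup.centralizer (U : Set G)).relIndex (Subgroup.normalizer (U : Set G)) =
    (UG S h ⊔ Subgroup.centralizer (UG S h : Set G)).relIndex
      (Subgroup.normalizer (UG S h : Set G)) := by
  obtain ⟨t, -, -, -, -, hsup, -⟩ := exists_threeU S h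
  rw [hsup, UG_eq S h hUS hab hcard]

theorem U_slike
    (h2 : (UG S h ⊔ Subgroup.centralizer (UG S h : Set G)).relIndex
      (Subgroup.normalizer (UG S h : Set G)) = 2) {g : G}
    (hg : g ∈ Subgroup.normalizer (UG S h : Set G)) :
    ∃ s ∈ (S : Subgroup G), ∀ a ∈ UG S h, g * a * g⁻¹ = s * a * s⁻¹ := by
  obtain ⟨t, -, -, -, hmove, -, -⟩ := exists_threeU S h
  refine t.acts_as_sylow (UG_le S h) h2 (el x y 0 0 * z).2 ?_ (show (0 : Fin 3) ≠ 1 by decide)
    (Or.inl hmove) hg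
  refine mem_normalizer_of_maps fun v hv => ?_
  obtain ⟨i, j, rfl⟩ := (mem_UG S h).1 hv
  exact (mem_UG S h).2 ⟨j, i, congrArg Subtype.val (h.conj_z_el 0 0 i j)⟩

theorem W_slike
    (h2 : (WG S h ⊔ Subgroup.centralizer (WG S h : Set G)).relIndex
      (Subgroup.normalizer (WG S h : Set G)) = 2) {g : G}
    (hg : g ∈ Subgroup.normalizer (WG S h : Set G)) :
    ∃ s ∈ (S : Subgroup G), ∀ a ∈ WG S h, g * a * g⁻¹ = s * a * s⁻¹ := by
  obtain ⟨t, -, -, hmove, -⟩ := exists_threeW S h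
  exact t.acts_as_sylow (WG_le S h) h2 (el x y (2 ^ (n - 2)) 0).2 (el_r_mem_normalizer S h)
    (show (1 : Fin 3) ≠ 2 by decide) (Or.inl hmove) hg

/-- A property preserved by `S` and by the two normalizers is preserved by fusion in `S`. -/
theorem invariant (P : G → Prop)
    (hS : ∀ s ∈ (S : Subgroup G), ∀ a ∈ (S : Subgroup G), P a → P (s * a * s⁻¹))
    (hU : ∀ g ∈ Subgroup.normalizer (UG S h : Set G), ∀ a ∈ UG S h, P a → P (g * a * g⁻¹))
    (hW : ∀ g ∈ Subgroup.normalizer (WG S h : Set G), ∀ a ∈ WG S h, P a → P (g * a * g⁻¹))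
    {a : G} (ha : a ∈ (S : Subgroup G)) {g : G} (hga : g * a * g⁻¹ ∈ (S : Subgroup G)) (hP : P a) :
    P (g * a * g⁻¹) := by
  have : Fact (Nat.Prime 2) := ⟨Nat.prime_two⟩
  obtain ⟨g', hchain, hg'⟩ := Cfsg.Agent.Lib.FusionControl.cchain_AG S (Subgroup.zpowers a) g
    (Subgroup.zpowers_le.2 ha) (by
      rw [Cfsg.Agent.Lib.FusionControl.cj, MonoidHom.map_zpowers]
      exact Subgroup.zpowers_le.2 hga)
  rw [← hg' a (Subgroup.mem_zpowers a)]
  refine chain_preserves P hchain ?_ a (Subgroup.mem_zpowers a) hP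
  rintro T ⟨hE, hcen, -⟩ w hw b hb hPb
  have hTS : T ≤ (S : Subgroup G) := hE.1
  have hC : Subgroup.centralizer ((T.subgroupOf (S : Subgroup G) : Subgroup (S : Subgroup G)) :
      Set (S : Subgroup G)) ≤ T.subgroupOf (S : Subgroup G) := fun c hc =>
    hcen ⟨c.2, Subgroup.mem_centralizer_iff.2 fun v hv =>
      congrArg Subtype.val (Subgroup.mem_centralizer_iff.1 hc ⟨v, hTS hv⟩ hv)⟩
  rcases h.centric_cases _ hC with e | ⟨s, hs⟩ | hN
  · have eT : T = UG S h := by rw [UG, ← e, Subgroup.map_subgroupOf_eq_of_le hTS]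
    subst eT
    exact hU w hw b hb hPb
  · have eW : T.map (MulAut.conj (s : G)).toMonoidHom = WG S h := by
      rw [WG, ← hs, Subgroup.map_map]
      conv_lhs => rw [← Subgroup.map_subgroupOf_eq_of_le hTS]
      rw [Subgroup.map_map]
      rfl
    have hw' : (s : G) * w * (s : G)⁻¹ ∈ Subgroup.normalizer (WG S h : Set G) := by
      rw [← eW, ← Subgroup.map_equiv_normalizer_eq]
      exact ⟨w, hw, rfl⟩
    have hb' : (s : G) * b * (s : G)⁻¹ ∈ WG S h := eW ▸ ⟨b, hb, rfl⟩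
    have h1 := hW _ hw' _ hb' (hS _ s.2 _ (hTS hb) hPb)
    have hwb : w * b * w⁻¹ ∈ (S : Subgroup G) :=
      hTS ((Subgroup.mem_set_normalizer_iff.1 hw b).1 hb)
    have h2 := hS _ (inv_mem s.2) _ (mul_mem (mul_mem s.2 hwb) (inv_mem s.2)) (by
      rwa [show (s : G) * w * (s : G)⁻¹ * ((s : G) * b * (s : G)⁻¹) *
        ((s : G) * w * (s : G)⁻¹)⁻¹ = (s : G) * (w * b * w⁻¹) * (s : G)⁻¹ by group] at h1)
    rwa [show (s : G)⁻¹ * ((s : G) * (w * b * w⁻¹) * (s : G)⁻¹) * ((s : G)⁻¹)⁻¹ = w * b * w⁻¹ by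
      group] at h2
  · obtain ⟨t, htS, ht⟩ := acts_as_sylow_of_noOddAut hE
      (noOddAut_congr (Subgroup.subgroupOfEquivOfLe hTS) hN) hw
    rw [ht b hb]
    exact hS t htS b (hTS hb) hPb

/-- With both automisers of order two fusion in `S` is controlled by `S`. -/
theorem controlled
    (hU2 : (UG S h ⊔ Subgroup.centralizer (UG S h : Set G)).relIndex
      (Subgroup.normalizer (UG S h : Set G)) = 2)
    (hW2 : (WG S h ⊔ Subgroup.centralizer (WG S h : Set G)).relIndex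
      (Subgroup.normalizer (WG S h : Set G)) = 2)
    {a : G} (ha : a ∈ (S : Subgroup G)) (g : G) (hga : g * a * g⁻¹ ∈ (S : Subgroup G)) :
    ∃ s ∈ (S : Subgroup G), s * a * s⁻¹ = g * a * g⁻¹ := by
  refine invariant S h (fun w => ∃ s ∈ (S : Subgroup G), s * a * s⁻¹ = w) ?_ ?_ ?_ ha hga
    ⟨1, one_mem _, by simp⟩
  · rintro t ht _ - ⟨s, hs, rfl⟩
    exact ⟨t * s, mul_mem ht hs, by group⟩
  · rintro w hw _ hb ⟨s, hs, rfl⟩
    obtain ⟨t, ht, e⟩ := U_slike S h hU2 hw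
    exact ⟨t * s, mul_mem ht hs, by rw [e _ hb]; group⟩
  · rintro w hw _ hb ⟨s, hs, rfl⟩
    obtain ⟨t, ht, e⟩ := W_slike S h hW2 hw
    exact ⟨t * s, mul_mem ht hs, by rw [e _ hb]; group⟩

/-- If `U` has automiser of order two, every element of the centre is alone in its fusion class. -/
theorem diag_fixed
    (hU2 : (UG S h ⊔ Subgroup.centralizer (UG S h : Set G)).relIndex
      (Subgroup.normalizer (UG S h : Set G)) = 2)
    (k : ℤ) {g : G} (hg : g * eg S h k k * g⁻¹ ∈ (S : Subgroup G)) :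
    g * eg S h k k * g⁻¹ = eg S h k k := by
  have hcen : ∀ s ∈ (S : Subgroup G), s * eg S h k k * s⁻¹ = eg S h k k := by
    intro s hs
    have : (⟨s, hs⟩ : (S : Subgroup G)) * el x y k k * (⟨s, hs⟩ : (S : Subgroup G))⁻¹ = el x y k k := by
      rw [← h.diag_comm k, mul_inv_cancel_right]
    exact congrArg Subtype.val this
  refine invariant S h (fun w => w = eg S h k k) ?_ ?_ ?_ ((el x y k k).2 : eg S h k k ∈ _) hg rfl
  · rintro s hs _ - rfl
    exact hcen s hs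
  · rintro w hw _ hb rfl
    obtain ⟨t, ht, e⟩ := U_slike S h hU2 hw
    rw [e _ hb]
    exact hcen t ht
  · rintro w hw _ - rfl
    exact centralizes_diag S h hw k

/-- If `WG` has automiser of order two, the base is respected by fusion. -/
theorem base_invariant
    (hW2 : (WG S h ⊔ Subgroup.centralizer (WG S h : Set G)).relIndex
      (Subgroup.normalizer (WG S h : Set G)) = 2)
    (u v : (S : Subgroup G)) (huv : IsConj (u : G) (v : G)) (hu : u ∈ h.base) : v ∈ h.base := by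
  obtain ⟨g, hg⟩ := isConj_iff.1 huv
  have hS : ∀ s ∈ (S : Subgroup G), ∀ b ∈ (S : Subgroup G), b ∈ UG S h → s * b * s⁻¹ ∈ UG S h := by
    rintro s hs _ - ⟨d, hd, rfl⟩
    have hn := Subgroup.normal_of_index_eq_two h.index_base
    exact ⟨_, hn.conj_mem d hd ⟨s, hs⟩, rfl⟩
  have h1 := invariant S h (fun w => w ∈ UG S h) hS
    (fun w hw b hb _ => (Subgroup.mem_set_normalizer_iff.1 hw b).1 hb)
    (fun w hw b hb hbU => by
      obtain ⟨t, ht, e⟩ := W_slike S h hW2 hw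
      rw [e _ hb]
      exact hS t ht b (WG_le S h hb) hbU)
    u.2 (hg.symm ▸ v.2) ⟨u, hu, rfl⟩
  obtain ⟨d, hd, hde⟩ := h1
  rw [hg] at hde
  exact (Subtype.ext hde : d = v) ▸ hd

/-- Under a large automiser of `U` the involutions of the base are fused. -/
theorem isConj_zc_e
    (hU6 : (UG S h ⊔ Subgroup.centralizer (UG S h : Set G)).relIndex
      (Subgroup.normalizer (UG S h : Set G)) = 6) :
    IsConj (eg S h (2 ^ (n - 1)) (2 ^ (n - 1))) (eg S h (2 ^ (n - 1)) 0) := by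
  obtain ⟨t, h0, -, h2, -, -, -⟩ := exists_threeU S h
  obtain ⟨g, hg | hg⟩ := t.transitive hU6 2 0
  · rw [← h0, ← h2]; exact isConj_iff.2 ⟨g, hg⟩
  · refine isConj_iff.2 ⟨g, ?_⟩
    rw [← h2, hg, h0, eg]
    rw [← Subgroup.coe_inv, h.el_inv]
    refine congrArg Subtype.val (h.el_eq_iff.2 ⟨⟨-1, ?_⟩, by simp⟩)
    rw [h.two_pow_eq.1]; ring

/-- Under a large automiser of `WG` the two non-central classes of involutions are fused. -/
theorem isConj_e_z
    (hW6 : (WG S h ⊔ Subgroup.centralizer (WG S h : Set G)).relIndex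
      (Subgroup.normalizer (WG S h : Set G)) = 6) :
    IsConj (eg S h (2 ^ (n - 1)) 0) ((el x y 0 0 * z : (S : Subgroup G)) : G) := by
  obtain ⟨t, h0, h1, -, -⟩ := exists_threeW S h
  obtain ⟨⟨g, hg⟩, hgp⟩ := t.perm_surjective hW6 (Equiv.swap 0 1)
  have him := (t.img_eq_iff ⟨g, hg⟩ 0 1).1 (by
    rw [← Three.perm_apply, hgp, Equiv.swap_apply_left])
  have he : eg S h (2 ^ (n - 1)) 0 = t.c 0 * eg S h (2 ^ (n - 2)) (2 ^ (n - 2)) := by
    rw [h0, eg, eg, ← Subgroup.coe_mul, WRGen.qi, h.el_mul, h.quarter_eq]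
    congr 2 <;> ring
  obtain ⟨w, hw, hwv⟩ : ∃ w : (S : Subgroup G),
      g * eg S h (2 ^ (n - 1)) 0 * g⁻¹ = (w : G) ∧ w ∉ h.base := by
    have e : g * eg S h (2 ^ (n - 1)) 0 * g⁻¹ =
        g * t.c 0 * g⁻¹ * eg S h (2 ^ (n - 2)) (2 ^ (n - 2)) := by
      rw [he, ← conj_mul, centralizes_diag S h hg]
    have hn : ∀ k : ℤ, ∀ c : (S : Subgroup G), c ∉ h.base → c * el x y k k ∉ h.base := fun k c hc hm =>
      hc ((Subgroup.mul_mem_cancel_right _ (h.el_mem_base k k)).1 hm)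
    have hj : h.qj ∉ h.base := h.z_mem_base_false _ _
    rcases him with e' | e' <;> rw [e', h1] at e
    · exact ⟨_, e, hn _ _ hj⟩
    · exact ⟨_, e, hn _ _ fun hm => hj (inv_mem_iff.1 hm)⟩
  refine (isConj_iff.2 ⟨g, hw⟩).trans ?_
  have ho : orderOf w = 2 := by
    rw [← Subgroup.orderOf_coe, ← hw, orderOf_conj_eq, eg, Subgroup.orderOf_coe]
    exact orderOf_eq_two_of_mul_self (by
      rw [h.el_mul, h.el_eq_one_iff]
      exact ⟨⟨1, by rw [h.two_pow_eq.1]; ring⟩, by simp⟩) (h.el_half_ne_one 0)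
  obtain ⟨i, j, rfl | rfl⟩ := h.normal_form w
  · exact absurd (h.el_mem_base i j) hwv
  · exact (isConj_coe (h.isConj_z (h.orderOf_el_z_iff.1 ho))).symm

/-- Every involution is conjugate to one of three. -/
theorem invol_reps {t : G} (ht : orderOf t = 2) :
    IsConj (eg S h (2 ^ (n - 1)) (2 ^ (n - 1))) t ∨ IsConj (eg S h (2 ^ (n - 1)) 0) t ∨
      IsConj ((el x y 0 0 * z : (S : Subgroup G)) : G) t := by
  have : Fact (Nat.Prime 2) := ⟨Nat.prime_two⟩
  obtain ⟨c, hc⟩ := conj_le_sylow S (Y := Subgroup.zpowers t)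
    (IsPGroup.of_card (n := 1) (by rw [Nat.card_zpowers, ht, pow_one]))
  have hmem : c * t * c⁻¹ ∈ (S : Subgroup G) := hc ⟨t, Subgroup.mem_zpowers t, rfl⟩
  have hu : IsConj (c * t * c⁻¹) t := (isConj_iff.2 ⟨c, rfl⟩).symm
  have ho : orderOf (⟨_, hmem⟩ : (S : Subgroup G)) = 2 := by
    rw [← Subgroup.orderOf_coe]
    show orderOf (c * t * c⁻¹) = 2
    rw [orderOf_conj_eq, ht]
  rcases h.invol_classes ho with e | e | e
  · exact Or.inl (by rw [eg, ← e]; exact hu)
  · exact Or.inr (Or.inl ((isConj_coe e).trans hu))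
  · exact Or.inr (Or.inr ((isConj_coe e).trans hu))

theorem reps_orders : orderOf (eg S h (2 ^ (n - 1)) (2 ^ (n - 1))) = 2 ∧
    orderOf (eg S h (2 ^ (n - 1)) 0) = 2 ∧
    orderOf ((el x y 0 0 * z : (S : Subgroup G)) : G) = 2 := by
  have hqq : (2 : ℤ) ^ n ∣ 2 ^ (n - 1) + 2 ^ (n - 1) := ⟨1, by rw [h.two_pow_eq.1]; ring⟩
  rw [eg, eg, Subgroup.orderOf_coe, Subgroup.orderOf_coe, Subgroup.orderOf_coe]
  refine ⟨orderOf_eq_two_of_mul_self ?_ h.el_half_ne, orderOf_eq_two_of_mul_self ?_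
    (h.el_half_ne_one 0), h.orderOf_el_z (by simp)⟩
  · rw [h.el_mul, h.el_eq_one_iff]; exact ⟨hqq, hqq⟩
  · rw [h.el_mul, h.el_eq_one_iff]; exact ⟨hqq, by simp⟩

/-- Membership in subgroups of index two coming from a large automiser of `WG`. -/
theorem W_mem_of_six
    (hW6 : (WG S h ⊔ Subgroup.centralizer (WG S h : Set G)).relIndex
      (Subgroup.normalizer (WG S h : Set G)) = 6)
    {K : Subgroup G} [K.Normal] (hK : ∀ w : G, Odd (orderOf w) → w ∈ K)
    (hqi : ((h.qi : (S : Subgroup G)) : G) ∈ K) (hqj : ((h.qj : (S : Subgroup G)) : G) ∈ K)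
    {H : Subgroup K} (hH : H.index = 2) {i j : ℤ} (hij : (2 : ℤ) ^ n ∣ i + j - 2 ^ (n - 1))
    (hm : ((el x y i j * z : (S : Subgroup G)) : G) ∈ K) :
    (⟨_, hm⟩ : K) ∈ H := by
  obtain ⟨t, h0, h1, -, -⟩ := exists_threeW S h
  have hmem : ∀ m, t.c m ∈ K := by
    intro m
    match m with
    | 0 => rw [h0]; exact hqi
    | 1 => rw [h1]; exact hqj
    | 2 => rw [t.prod, h0, h1]; exact mul_mem hqi hqj
  set a : ℤ := i - 2 ^ (n - 1) with ha
  set g : G := eg S h a 0 with hg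
  set H' : Subgroup K := H.comap (MulAut.conjNormal g : MulAut K).toMonoidHom with hH'
  have hidx : H'.index = 2 := by
    exact (Subgroup.index_comap_of_surjective H
      (f := (MulAut.conjNormal g : MulAut K).toMonoidHom)
      (MulAut.conjNormal g : MulAut K).surjective).trans hH
  have h1' := t.mem_of_six_of_odd hW6 hK hmem hidx 1
  rw [hH', Subgroup.mem_comap] at h1'
  convert h1' using 1
  apply Subtype.ext
  show _ = ((MulAut.conjNormal g ⟨t.c 1, hmem 1⟩ : K) : G)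
  rw [MulAut.conjNormal_apply]
  show _ = g * t.c 1 * g⁻¹
  rw [h1, hg, eg, ← Subgroup.coe_inv, ← Subgroup.coe_mul, ← Subgroup.coe_mul]
  refine congrArg Subtype.val (?_ : el x y i j * z = _)
  rw [WRGen.qj, h.el_inv, h.mul_ez, h.mul_ze, mul_left_inj, h.el_eq_iff]
  obtain ⟨c, hc⟩ := hij
  exact ⟨⟨0, by rw [ha]; ring⟩, ⟨c, by rw [ha]; linear_combination hc⟩⟩

/-- Membership of the base in subgroups of index two, from a large automiser of `U`. -/
theorem U_mem_of_six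
    (hU6 : (UG S h ⊔ Subgroup.centralizer (UG S h : Set G)).relIndex
      (Subgroup.normalizer (UG S h : Set G)) = 6)
    {K : Subgroup G} (hK : ∀ w : G, Odd (orderOf w) → w ∈ K)
    (hin : ∀ i j : ℤ, eg S h i j ∈ K) {H : Subgroup K} (hH : H.index = 2) (i j : ℤ) :
    (⟨_, hin i j⟩ : K) ∈ H := by
  obtain ⟨t, h0, h1, h2, -, -, -⟩ := exists_threeU S h
  have hmul : ∀ a b c d, (⟨_, hin a b⟩ : K) * ⟨_, hin c d⟩ = ⟨_, hin (a + c) (b + d)⟩ :=
    fun a b c d => Subtype.ext (show eg S h a b * eg S h c d = eg S h (a + c) (b + d) from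
      congrArg Subtype.val (h.el_mul a b c d))
  have hev : ∀ a b, (⟨_, hin (2 * a) (2 * b)⟩ : K) ∈ H := fun a b => by
    rw [show (⟨_, hin (2 * a) (2 * b)⟩ : K) = ⟨_, hin a b⟩ * ⟨_, hin a b⟩ from Subtype.ext (by
      rw [hmul]; show eg S h (2 * a) (2 * b) = eg S h (a + a) (b + b)
      rw [two_mul, two_mul])]
    exact (Subgroup.mul_mem_iff_of_index_two hH).2 Iff.rfl
  -- exponents attached to the three involutions
  let d : Fin 3 → ℤ × ℤ := ![(1, 0), (0, 1), (1, 1)]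
  let v : Fin 3 → K := fun m => ⟨_, hin (d m).1 (d m).2⟩
  have hc : ∀ m, t.c m = eg S h (2 ^ (n - 1) * (d m).1) (2 ^ (n - 1) * (d m).2) := by
    intro m
    match m with
    | 0 => simp [h0, d]
    | 1 => simp [h1, d]
    | 2 => simp [h2, d]
  have hpar : ∀ a : ℤ, (2 : ℤ) ^ n ∣ 2 ^ (n - 1) * a → ∃ b, a = 2 * b := fun a ha => by
    rw [h.two_pow_eq.1, mul_comm (2 : ℤ)] at ha
    exact (mul_dvd_mul_iff_left (by positivity)).1 ha
  have hmove : ∀ (w : Subgroup.normalizer (UG S h : Set G)) (hw : (w : G) ∈ K) (m : Fin 3),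
      ((⟨(w : G), hw⟩ : K) * v m * (⟨(w : G), hw⟩ : K)⁻¹ ∈ H ↔ v (t.perm w m) ∈ H) := by
    intro w hw m
    have hu : eg S h (d m).1 (d m).2 ∈ UG S h := (mem_UG S h).2 ⟨_, _, rfl⟩
    obtain ⟨a, b, hab⟩ := (mem_UG S h).1 ((Subgroup.mem_set_normalizer_iff.1 w.2 _).1 hu)
    rw [show (⟨(w : G), hw⟩ : K) * v m * (⟨(w : G), hw⟩ : K)⁻¹ = ⟨_, hin a b⟩ from Subtype.ext hab]
    have hzp : ∀ p r k : ℤ, eg S h p r ^ k = eg S h (p * k) (r * k) := fun p r k => by
      rw [eg, eg, ← Subgroup.coe_zpow, h.el_zpow]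
    have e1 : eg S h (a * 2 ^ (n - 1)) (b * 2 ^ (n - 1)) = t.c (t.perm w m) := by
      rw [← hzp, ← hab, conj_zpow, hzp, mul_comm (d m).1, mul_comm (d m).2, ← hc]
      rcases t.img_spec w m with e | e <;> rw [e, Three.perm_apply]
      rw [hc, eg, ← Subgroup.coe_inv, h.el_inv]
      refine congrArg Subtype.val (h.el_eq_iff.2 ⟨⟨-(d (t.img w m)).1, ?_⟩,
        ⟨-(d (t.img w m)).2, ?_⟩⟩) <;>
        · rw [h.two_pow_eq.1]; ring
    rw [hc] at e1
    have e2 := h.el_eq_iff.1 (Subtype.ext e1)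
    obtain ⟨p, hp⟩ := hpar (a - (d (t.perm w m)).1) (by
      rw [mul_sub, mul_comm _ a]; exact e2.1)
    obtain ⟨r, hr⟩ := hpar (b - (d (t.perm w m)).2) (by
      rw [mul_sub, mul_comm _ b]; exact e2.2)
    rw [show (⟨_, hin a b⟩ : K) = v (t.perm w m) * ⟨_, hin (2 * p) (2 * r)⟩ from Subtype.ext (by
      rw [hmul]
      show eg S h a b = eg S h ((d (t.perm w m)).1 + 2 * p) ((d (t.perm w m)).2 + 2 * r)
      congr 1 <;> omega)]
    exact Subgroup.mul_mem_cancel_right _ (hev p r)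
  have hall := t.mem_of_six_gen hU6 hK hH v (by
    apply Subtype.ext
    show eg S h 1 1 = ((v 0 * v 1 : K) : G)
    rw [show v 0 * v 1 = (⟨_, hin (1 + 0) (0 + 1)⟩ : K) from hmul 1 0 0 1]
    simp) hmove
  rcases Int.even_or_odd' i with ⟨p, rfl | rfl⟩ <;> rcases Int.even_or_odd' j with ⟨r, rfl | rfl⟩
  · exact hev p r
  · have := mul_mem (hev p r) (hall 1)
    simpa [v, d, hmul] using this
  · have := mul_mem (hev p r) (hall 0)
    simpa [v, d, hmul] using this
  · have := mul_mem (hev p r) (hall 2)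
    simpa [v, d, hmul] using this

/-- The fusion-invariant homomorphism onto a cyclic group of order `2 ^ n`. -/
theorem exists_invariant_hom :
    ∃ φ : (S : Subgroup G) →* Multiplicative (ZMod (2 ^ n)),
      (∀ i j : ℤ, φ (el x y i j) = Multiplicative.ofAdd ((i + j : ℤ) : ZMod (2 ^ n))) ∧
      (∀ i j : ℤ, φ (el x y i j * z) =
        Multiplicative.ofAdd ((i + j + 2 ^ (n - 1) : ℤ) : ZMod (2 ^ n))) ∧
      ((UG S h ⊔ Subgroup.centralizer (UG S h : Set G)).relIndex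
          (Subgroup.normalizer (UG S h : Set G)) = 2 →
        ∀ u v : (S : Subgroup G), IsConj (u : G) (v : G) → φ u = φ v) := by
  classical
  obtain ⟨ψ, hψ⟩ := h.exists_sumHom
  let c : Multiplicative (ZMod (2 ^ n)) :=
    Multiplicative.ofAdd (((2 : ℤ) ^ (n - 1) : ℤ) : ZMod (2 ^ n))
  have h2n : (((2 : ℤ) ^ n : ℤ) : ZMod (2 ^ n)) = 0 :=
    (ZMod.intCast_zmod_eq_zero_iff_dvd _ _).2 (by push_cast; exact dvd_rfl)
  have hcc : c * c = 1 := by
    show Multiplicative.ofAdd _ * Multiplicative.ofAdd _ = 1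
    rw [← ofAdd_add, ← Int.cast_add, ← two_mul, ← h.two_pow_eq.1, h2n, ofAdd_zero]
  let ε : (S : Subgroup G) →* Multiplicative (ZMod (2 ^ n)) :=
    MonoidHom.mk' (fun u => if u ∈ h.base then 1 else c) fun u v => by
      have := Subgroup.mul_mem_iff_of_index_two h.index_base (a := u) (b := v)
      by_cases hu : u ∈ h.base <;> by_cases hv : v ∈ h.base <;> simp [this, hu, hv, hcc]
  set φ := ψ * ε with hφ
  have hel : ∀ i j : ℤ, φ (el x y i j) = Multiplicative.ofAdd ((i + j : ℤ) : ZMod (2 ^ n)) := by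
    intro i j
    show ψ _ * (if el x y i j ∈ h.base then 1 else c) = _
    rw [if_pos (h.el_mem_base i j), mul_one, (hψ i j).1]
  have helz : ∀ i j : ℤ, φ (el x y i j * z) =
      Multiplicative.ofAdd ((i + j + 2 ^ (n - 1) : ℤ) : ZMod (2 ^ n)) := by
    intro i j
    show ψ _ * (if el x y i j * z ∈ h.base then 1 else c) = _
    rw [if_neg (h.z_mem_base_false i j), (hψ i j).2, ← ofAdd_add, ← Int.cast_add]
  refine ⟨φ, hel, helz, fun hU2 u v huv => ?_⟩
  have hw0 : φ h.qi = 1 ∧ φ h.qj = 1 := by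
    refine ⟨?_, ?_⟩
    · rw [WRGen.qi, hel, add_neg_cancel, Int.cast_zero, ofAdd_zero]
    · rw [WRGen.qj, helz, add_zero, ← two_mul, ← h.two_pow_eq.1, h2n, ofAdd_zero]
  obtain ⟨g, hg⟩ := isConj_iff.1 huv
  let P : G → Prop := fun w => ∃ d : (S : Subgroup G), (d : G) = w ∧ φ d = φ u
  have hS : ∀ s ∈ (S : Subgroup G), ∀ b ∈ (S : Subgroup G), P b → P (s * b * s⁻¹) := by
    rintro s hs _ - ⟨d, rfl, hd⟩
    exact ⟨⟨s, hs⟩ * d * (⟨s, hs⟩ : (S : Subgroup G))⁻¹, rfl, by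
      rw [map_mul, map_mul, map_inv, mul_inv_cancel_comm, hd]⟩
  obtain ⟨t, h0, h1, -, -⟩ := exists_threeW S h
  have hW : ∀ w ∈ Subgroup.normalizer (WG S h : Set G), ∀ b ∈ WG S h, P b → P (w * b * w⁻¹) := by
    intro w hw b hb hPb
    obtain ⟨d, hd, rfl⟩ := hb
    obtain ⟨d', hd', hd''⟩ := hPb
    obtain rfl : d' = d := Subtype.ext hd'
    obtain ⟨k, hk⟩ := h.vsub_decomp hd
    have hkd : w * eg S h k k * w⁻¹ = eg S h k k := centralizes_diag S h hw k
    -- the image of each of the three generators has trivial value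
    have hgen : ∀ m, ∃ e : (S : Subgroup G), (e : G) = w * t.c m * w⁻¹ ∧ φ e = 1 := by
      intro m
      have hval : ∀ m', ∃ e : (S : Subgroup G), (e : G) = t.c m' ∧ φ e = 1 := by
        intro m'
        match m' with
        | 0 => exact ⟨h.qi, h0.symm, hw0.1⟩
        | 1 => exact ⟨h.qj, h1.symm, hw0.2⟩
        | 2 => exact ⟨h.qi * h.qj, by rw [t.prod, h0, h1, Subgroup.coe_mul], by
            rw [map_mul, hw0.1, hw0.2, one_mul]⟩
      obtain ⟨m', hm'⟩ := t.cases w hw m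
      obtain ⟨e, he, he'⟩ := hval m'
      rcases hm' with e1 | e1
      · exact ⟨e, by rw [e1, he], he'⟩
      · exact ⟨e⁻¹, by rw [e1, Subgroup.coe_inv, he], by rw [map_inv, he', inv_one]⟩
    obtain ⟨e0, he0, he0'⟩ := hgen 0
    obtain ⟨e1, he1, he1'⟩ := hgen 1
    show ∃ e : (S : Subgroup G), _ ∧ φ e = φ u
    rw [← hd'']
    rcases hk with rfl | rfl | rfl | rfl
    · exact ⟨_, hkd.symm, rfl⟩
    · refine ⟨e0 * el x y k k, ?_, by rw [map_mul, map_mul, he0', hw0.1]⟩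
      rw [Subgroup.coe_mul, he0, h0, Subgroup.coe_subtype, Subgroup.coe_mul, ← conj_mul]
      exact congrArg _ hkd.symm
    · refine ⟨e1 * el x y k k, ?_, by rw [map_mul, map_mul, he1', hw0.2]⟩
      rw [Subgroup.coe_mul, he1, h1, Subgroup.coe_subtype, Subgroup.coe_mul, ← conj_mul]
      exact congrArg _ hkd.symm
    · refine ⟨e0 * e1 * el x y k k, ?_,
        by rw [map_mul, map_mul, map_mul, map_mul, he0', he1', hw0.1, hw0.2]⟩
      rw [Subgroup.coe_mul, Subgroup.coe_mul, he0, he1, h0, h1, Subgroup.coe_subtype,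
        Subgroup.coe_mul, Subgroup.coe_mul, ← conj_mul, ← conj_mul]
      exact congrArg _ hkd.symm
  have hU : ∀ w ∈ Subgroup.normalizer (UG S h : Set G), ∀ b ∈ UG S h, P b → P (w * b * w⁻¹) := by
    intro w hw b hb hPb
    obtain ⟨s, hs, e⟩ := U_slike S h hU2 hw
    rw [e _ hb]
    exact hS s hs b (UG_le S h hb) hPb
  obtain ⟨d, hd, hd'⟩ := invariant S h P hS hU hW u.2 (hg.symm ▸ v.2) ⟨u, rfl, rfl⟩
  rw [← hd', show d = v from Subtype.ext (hd.trans hg)]

end WRFusion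

end Cfsg.Agent.Lib.Involutions
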