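import Mathlib
import Cfsg.Agent.Lib.Involutions.WreathedFusion
import Cfsg.Agent.Lib.Involutions.QDFusion

/-!
# No subgroup of index two: one class of involutions (quasi-dihedral and wreathed Sylow)
-/

set_option autoImplicit false

namespace Cfsg.Agent.Lib.Involutions

variable {G : Type*} [Group G] [Finite G]

/-- A nontrivial homomorphism into a finite `2`-group gives a subgroup of index two. -/
theorem exists_index_two_of_hom {A : Type*} [Group A] [Finite A] (hA : IsPGroup 2 A) (f : G →* A)
    {g : G} (hg : f g ≠ 1) : ∃ H : Subgroup G, H.index = 2 := by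
  have : Fact (Nat.Prime 2) := ⟨Nat.prime_two⟩
  have hnt : Nontrivial f.range :=
    (Subgroup.nontrivial_iff_ne_bot _).2 fun h => hg (Subgroup.mem_bot.1 (h.le (f.mem_range.2 ⟨g, rfl⟩)))
  obtain ⟨k, hk⟩ := IsPGroup.iff_card.1 (hA.to_subgroup f.range)
  have hkpos : 0 < k := Nat.pos_of_ne_zero fun h0 => by
    rw [h0, pow_zero, Nat.card_eq_one_iff_unique] at hk
    exact not_subsingleton _ hk.1
  obtain ⟨M, hM⟩ := Sylow.exists_subgroup_card_pow_prime (G := f.range) 2
    (n := k - 1) (hk ▸ pow_dvd_pow 2 (Nat.sub_le k 1))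
  have hMi : M.index = 2 := by
    have h1 := M.card_mul_index
    rw [hM, hk] at h1
    exact Nat.eq_of_mul_eq_mul_left (pow_pos two_pos (k - 1))
      (h1.trans (by rw [← pow_succ, Nat.sub_add_cancel hkpos]))
  exact ⟨M.comap f.rangeRestrict, by
    rw [Subgroup.index_comap_of_surjective _ f.rangeRestrict_surjective, hMi]⟩

omit [Finite G] in
theorem isConj_of_card_classes_eq_one {n : ℕ}
    (h : Nat.card {C : ConjClasses G // ∃ t : G, orderOf t = n ∧ ConjClasses.mk t = C} = 1)
    {a b : G} (ha : orderOf a = n) (hb : orderOf b = n) : IsConj a b := by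
  obtain ⟨hsub, -⟩ := Nat.card_eq_one_iff_unique.1 h
  exact ConjClasses.mk_eq_mk_iff_isConj.1 (congrArg Subtype.val
    (hsub.elim (⟨_, a, ha, rfl⟩ : {C : ConjClasses G // ∃ t : G, orderOf t = n ∧ ConjClasses.mk t = C})
      ⟨_, b, hb, rfl⟩))

/-- With a quasi-dihedral or wreathed Sylow `2`-subgroup and no subgroup of index two all
involutions are conjugate. -/
theorem invol_isConj (S : Sylow 2 G)
    (hS : Cfsg.IsQuasiDihedral (S : Subgroup G) ∨ Cfsg.IsWreathed (S : Subgroup G))
    (hG : ∀ H : Subgroup G, H.index ≠ 2) {a b : G} (ha : orderOf a = 2) (hb : orderOf b = 2) :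
    IsConj a b := by
  have : Fact (Nat.Prime 2) := ⟨Nat.prime_two⟩
  rcases hS with hQ | hW
  · obtain ⟨x, y, n, h⟩ := exists_qdGen hQ
    have hI : QDFusion.InvolFused S h := by
      by_contra hf
      obtain ⟨K, -, hK, -⟩ := QDFusion.exists_index_two_one S h hf
      exact hG K hK
    exact isConj_of_card_classes_eq_one ((QDFusion.classes_invol S h).1 hI) ha hb
  · obtain ⟨x, y, z, n, h⟩ := exists_wrGen hW
    obtain ⟨tU, -, -, -, -, -, hU26⟩ := WRFusion.exists_threeU S h
    obtain ⟨tW, -, -, -, hW26⟩ := WRFusion.exists_threeW S h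
    have hU6 := hU26.resolve_left fun h₁ => by
      obtain ⟨φ, hel, -, hinv'⟩ := WRFusion.exists_invariant_hom S h
      have hT := transfer_eq_pow_of_invariant S φ (hinv' h₁) (el x y 1 0)
      obtain ⟨H, hH⟩ := exists_index_two_of_hom (IsPGroup.of_card (n := n)
        (by rw [Nat.card_congr Multiplicative.toAdd, Nat.card_zmod])) (MonoidHom.transfer φ)
        (g := ((el x y 1 0 : (S : Subgroup G)) : G)) (by
          rw [hT, hel]
          intro he
          have h1 : orderOf (Multiplicative.ofAdd (((1 : ℤ) + 0 : ℤ) : ZMod (2 ^ n))) = 1 := by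
            refine Nat.eq_one_of_dvd_coprimes
              ((Nat.coprime_two_right.2 (Nat.odd_iff.2 (Nat.two_dvd_ne_zero.1 S.not_dvd_index))).pow_right n)
              (orderOf_dvd_of_pow_eq_one he) ?_
            have hd := orderOf_dvd_natCard (Multiplicative.ofAdd (((1 : ℤ) + 0 : ℤ) : ZMod (2 ^ n)))
            rwa [Nat.card_congr Multiplicative.toAdd, Nat.card_zmod] at hd
          rw [orderOf_eq_one_iff, ofAdd_eq_one, add_zero, Int.cast_one,
            ← Nat.cast_one, ZMod.natCast_eq_zero_iff] at h1
          have := h.hn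
          have h4 : 2 ^ 2 ≤ 2 ^ n := Nat.pow_le_pow_right two_pos this
          have := Nat.le_of_dvd one_pos h1
          omega)
      exact hG H hH
    have hW6 := hW26.resolve_left fun h₂ => by
      obtain ⟨K, -, hK, -⟩ := QDFusion.exists_index_two_of_invariant S h.index_base
        (WRFusion.base_invariant S h h₂)
      exact hG K hK
    have h12 := WRFusion.isConj_zc_e S h hU6
    have h23 := WRFusion.isConj_e_z S h hW6
    have key : ∀ t : G, orderOf t = 2 →
        IsConj (WRFusion.eg S h (2 ^ (n - 1)) (2 ^ (n - 1))) t := fun t ht => by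
      rcases WRFusion.invol_reps S h ht with e | e | e
      exacts [e, h12.trans e, (h12.trans h23).trans e]
    exact (key a ha).symm.trans (key b hb)

end Cfsg.Agent.Lib.Involutions
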