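import Mathlib
import Cfsg.Prelude.Def_CaseTheorems
import Cfsg.Agent.Lib.Classical.GLTwo
import Cfsg.Agent.Lib.Involutions.Basic

/-!
# Recognising quasi-dihedral and wreathed Sylow 2-subgroups from generators
-/

set_option autoImplicit false

namespace Cfsg.Agent.Lib.Involutions

variable {G : Type*} [Group G] [Finite G]

omit [Finite G] in
theorem mem_normalizer_zpowers_of_conj [Finite G] {a g : G} {k : ℤ} (h : g * a * g⁻¹ = a ^ k) :
    g ∈ Subgroup.normalizer ((Subgroup.zpowers a : Subgroup G) : Set G) := by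
  rw [Subgroup.mem_normalizer_iff]
  have hle : (Subgroup.zpowers a).map (MulAut.conj g).toMonoidHom ≤ Subgroup.zpowers a := by
    rw [MonoidHom.map_zpowers, Subgroup.zpowers_le]
    show g * a * g⁻¹ ∈ _
    rw [h]; exact Subgroup.zpow_mem_zpowers a k
  have heq := Subgroup.eq_of_le_of_card_ge hle
    (Subgroup.card_map_of_injective (MulAut.conj g).injective).ge
  intro w
  constructor
  · intro hw; exact hle ⟨w, hw, rfl⟩
  · intro hw
    rw [← heq] at hw
    obtain ⟨w', hw', he⟩ := hw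
    have : w' = w := mul_left_cancel (mul_right_cancel (he : g * w' * g⁻¹ = g * w * g⁻¹))
    exact this ▸ hw'

/-- Generators of quasi-dihedral type of the right size give quasi-dihedral Sylow subgroups. -/
theorem quasiDihedral_of_gens {n m : ℕ} (hn : 3 ≤ n) {x y : G} (hx : orderOf x = 2 ^ n)
    (hy : orderOf y = 2) (hxy : y * x * y⁻¹ = x ^ (2 ^ (n - 1) - 1))
    (hcard : Nat.card G = 2 ^ (n + 1) * m) (hm : Odd m) (P : Sylow 2 G) :
    Cfsg.IsQuasiDihedral (P : Subgroup G) := by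
  have : Fact (Nat.Prime 2) := ⟨Nat.prime_two⟩
  have hp : IsPGroup 2 ↥(Subgroup.zpowers x ⊔ Subgroup.zpowers y) := by
    refine IsPGroup.to_sup_of_normal_left' (IsPGroup.of_card (n := n) (by rw [Nat.card_zpowers, hx]))
      (IsPGroup.of_card (n := 1) (by rw [Nat.card_zpowers, hy, pow_one])) (Subgroup.zpowers_le.2 ?_)
    exact mem_normalizer_zpowers_of_conj (k := ((2 ^ (n - 1) - 1 : ℕ) : ℤ)) (by rw [zpow_natCast, hxy])
  obtain ⟨Q, hQ⟩ := hp.exists_le_sylow
  have hxQ : x ∈ (Q : Subgroup G) := hQ (Subgroup.mem_sup_left (Subgroup.mem_zpowers x))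
  have hyQ : y ∈ (Q : Subgroup G) := hQ (Subgroup.mem_sup_right (Subgroup.mem_zpowers y))
  let e := Sylow.equiv Q P
  refine ⟨n, hn, ?_, e ⟨x, hxQ⟩, e ⟨y, hyQ⟩, ?_, ?_, ?_⟩
  · exact Classical.sylow_card_of_card_eq hcard (by rw [← even_iff_two_dvd, Nat.not_even_iff_odd]; exact hm) P
  · rw [e.orderOf_eq, Subgroup.orderOf_mk, hx]
  · rw [e.orderOf_eq, Subgroup.orderOf_mk, hy]
  · rw [← map_inv, ← map_mul, ← map_mul, ← map_pow]
    exact congrArg e (Subtype.ext (by simpa using hxy))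

/-- Generators of wreathed type of the right size give wreathed Sylow subgroups. -/
theorem wreathed_of_gens {n m : ℕ} (hn : 2 ≤ n) {x y z : G} (hx : orderOf x = 2 ^ n)
    (hxy : x * y = y * x) (hd : Subgroup.zpowers x ⊓ Subgroup.zpowers y = ⊥) (hz : orderOf z = 2)
    (hzx : z * x * z⁻¹ = y) (hcard : Nat.card G = 2 ^ (2 * n + 1) * m) (hm : Odd m)
    (P : Sylow 2 G) : Cfsg.IsWreathed (P : Subgroup G) := by
  have : Fact (Nat.Prime 2) := ⟨Nat.prime_two⟩
  have hy : orderOf y = 2 ^ n := by rw [← hzx, orderOf_conj_eq, hx]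
  have hzy : z * y * z⁻¹ = x := by
    rw [← hzx, invol_inv hz]
    simp only [mul_assoc]
    rw [invol_mul_self hz, mul_one, ← mul_assoc, invol_mul_self hz, one_mul]
  set B := Subgroup.zpowers x ⊔ Subgroup.zpowers y with hB
  have hBp : IsPGroup 2 B := IsPGroup.to_sup_of_normal_left'
    (IsPGroup.of_card (n := n) (by rw [Nat.card_zpowers, hx]))
    (IsPGroup.of_card (n := n) (by rw [Nat.card_zpowers, hy]))
    (Subgroup.zpowers_le.2 (mem_normalizer_zpowers_of_conj (k := 1) (by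
      rw [zpow_one, ← hxy, mul_inv_cancel_right])))
  have hzB : z ∈ Subgroup.normalizer (B : Set G) := by
    rw [Subgroup.mem_normalizer_iff]
    have hle : B.map (MulAut.conj z).toMonoidHom ≤ B := by
      rw [hB, Subgroup.map_sup, MonoidHom.map_zpowers, MonoidHom.map_zpowers]
      refine sup_le ?_ ?_ <;> rw [Subgroup.zpowers_le]
      · show z * x * z⁻¹ ∈ _
        rw [hzx]; exact Subgroup.mem_sup_right (Subgroup.mem_zpowers y)
      · show z * y * z⁻¹ ∈ _
        rw [hzy]; exact Subgroup.mem_sup_left (Subgroup.mem_zpowers x)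
    intro w
    refine ⟨fun hw => hle ⟨w, hw, rfl⟩, fun hw => ?_⟩
    have h2 := hle ⟨_, hw, rfl⟩
    have e : z * (z * w * z⁻¹) * z⁻¹ = w := by
      rw [invol_inv hz]
      simp only [mul_assoc]
      rw [invol_mul_self hz, mul_one, ← mul_assoc, invol_mul_self hz, one_mul]
    rw [← e]
    exact h2
  have hp : IsPGroup 2 ↥(B ⊔ Subgroup.zpowers z) := IsPGroup.to_sup_of_normal_left' hBp
    (IsPGroup.of_card (n := 1) (by rw [Nat.card_zpowers, hz, pow_one])) (Subgroup.zpowers_le.2 hzB)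
  obtain ⟨Q, hQ⟩ := hp.exists_le_sylow
  have hxQ : x ∈ (Q : Subgroup G) :=
    hQ (Subgroup.mem_sup_left (Subgroup.mem_sup_left (Subgroup.mem_zpowers x)))
  have hyQ : y ∈ (Q : Subgroup G) :=
    hQ (Subgroup.mem_sup_left (Subgroup.mem_sup_right (Subgroup.mem_zpowers y)))
  have hzQ : z ∈ (Q : Subgroup G) := hQ (Subgroup.mem_sup_right (Subgroup.mem_zpowers z))
  let e := Sylow.equiv Q P
  refine ⟨n, hn, ?_, e ⟨x, hxQ⟩, e ⟨y, hyQ⟩, e ⟨z, hzQ⟩, ?_, ?_, ?_, ?_, ?_⟩
  · exact Classical.sylow_card_of_card_eq hcard (by rw [← even_iff_two_dvd, Nat.not_even_iff_odd]; exact hm) P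
  · rw [e.orderOf_eq, Subgroup.orderOf_mk, hx]
  · rw [← map_mul, ← map_mul]
    exact congrArg e (Subtype.ext hxy)
  · rw [eq_bot_iff]
    intro w hw
    obtain ⟨i, hi⟩ := Subgroup.mem_zpowers_iff.1 hw.1
    obtain ⟨j, hj⟩ := Subgroup.mem_zpowers_iff.1 hw.2
    have hij : (⟨x, hxQ⟩ : (Q : Subgroup G)) ^ i = ⟨y, hyQ⟩ ^ j :=
      e.injective (by rw [map_zpow, map_zpow, hi, hj])
    have h1 : x ^ i ∈ Subgroup.zpowers x ⊓ Subgroup.zpowers y :=
      ⟨Subgroup.zpow_mem_zpowers x i, Subgroup.mem_zpowers_iff.2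
        ⟨j, (congrArg Subtype.val hij :).symm⟩⟩
    rw [hd, Subgroup.mem_bot] at h1
    rw [Subgroup.mem_bot, ← hi, ← map_zpow,
      show (⟨x, hxQ⟩ : (Q : Subgroup G)) ^ i = 1 from Subtype.ext h1, map_one]
  · rw [e.orderOf_eq, Subgroup.orderOf_mk, hz]
  · rw [← map_inv, ← map_mul, ← map_mul]
    exact congrArg e (Subtype.ext (by simpa using hzx))

/-- Elements of prescribed order in the units of a finite field. -/
theorem exists_unit_orderOf {F : Type*} [Field F] [Fintype F] {d : ℕ}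
    (hd : d ∣ Fintype.card F - 1) : ∃ u : Fˣ, orderOf u = d := by
  obtain ⟨g, hg⟩ := IsCyclic.exists_generator (α := Fˣ)
  have ho : orderOf g = Fintype.card F - 1 := by
    rw [orderOf_eq_card_of_forall_mem_zpowers hg, Classical.natCard_units]
  exact ⟨g ^ (orderOf g / d), orderOf_pow_orderOf_div (orderOf_pos g).ne' (ho ▸ hd)⟩

/-- An element of order `2 ^ (k + 1)` of a field has `2 ^ k`-th power `-1`. -/
theorem pow_half_eq_neg_one {F : Type*} [Field F] {u : Fˣ} {k : ℕ} (hu : orderOf u = 2 ^ (k + 1)) :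
    ((u : F)) ^ 2 ^ k = -1 := by
  have h1 : ((u : F) ^ 2 ^ k) * ((u : F) ^ 2 ^ k) = 1 := by
    rw [← pow_add, ← two_mul, ← pow_succ', ← Units.val_pow_eq_pow_val, ← hu, pow_orderOf_eq_one,
      Units.val_one]
  refine (mul_self_eq_one_iff.1 h1).resolve_left fun h => ?_
  have h2 : orderOf u ∣ 2 ^ k := orderOf_dvd_of_pow_eq_one (Units.ext (by
    rw [Units.val_pow_eq_pow_val, h, Units.val_one]))
  rw [hu] at h2
  have := Nat.le_of_dvd (by positivity) h2
  rw [pow_succ] at this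
  have := Nat.two_pow_pos k
  omega

end Cfsg.Agent.Lib.Involutions
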