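import Mathlib
import Cfsg.Agent.Lib.OddLocal.Coprime
import Cfsg.Agent.Lib.LocalEven2.OmegaFix
import Cfsg.Agent.Lib.Cores.Frattini
import Cfsg.Agent.Lib.Coprime

/-!
# Coprime elements acting on the elements of order `p` (or `4`)

A `p'`-element `g` normalizing a `p`-group `Q` centralizes it as soon as, for a series `U` of
subgroups, the elements of order dividing `p` (dividing `4` when `p = 2`) are pushed down one step
by `a ↦ g a g⁻¹ a⁻¹`.
-/

set_option autoImplicit false

namespace Cfsg.Agent.Lib.Involutions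

open scoped commutatorElement
open Cfsg.Agent.Lib.Coprime

/-- The order of an element is small: it divides `p`, or `4` when `p = 2`. -/
def SmallOrder {G : Type*} [Group G] (p : ℕ) (a : G) : Prop := a ^ p = 1 ∨ (p = 2 ∧ a ^ 4 = 1)

theorem smallOrder_iff {G : Type*} [Group G] (p : ℕ) (a : G) :
    SmallOrder p a ↔ a ^ (if p = 2 then 4 else p) = 1 := by
  unfold SmallOrder
  split_ifs with h
  · subst h
    exact ⟨fun h' => h'.elim (fun h2 => by rw [show 4 = 2 * 2 by rfl, pow_mul, h2, one_pow]) And.right,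
      fun h' => Or.inr ⟨rfl, h'⟩⟩
  · exact ⟨fun h' => h'.resolve_right fun h2 => h h2.1, Or.inl⟩

theorem mul_pow_of_central {G : Type*} [Group G] {x y c : G} (hxy : y * x = c * x * y)
    (hcx : Commute c x) (hcy : Commute c y) : ∀ n : ℕ, (x * y) ^ n = c ^ n.choose 2 * x ^ n * y ^ n := by
  have hpow : ∀ k : ℕ, y ^ k * x = c ^ k * x * y ^ k := by
    intro k
    induction k with
    | zero => simp
    | succ k ih =>
      calc y ^ (k + 1) * x = y * (y ^ k * x) := by rw [pow_succ', mul_assoc]
        _ = (y * c ^ k) * x * y ^ k := by rw [ih]; simp only [mul_assoc]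
        _ = c ^ k * (y * x) * y ^ k := by rw [← (hcy.pow_left k).eq]; simp only [mul_assoc]
        _ = _ := by rw [hxy, pow_succ c, pow_succ' y]; simp only [mul_assoc]
  intro n
  induction n with
  | zero => simp
  | succ n ih =>
    calc (x * y) ^ (n + 1) = c ^ n.choose 2 * x ^ n * (y ^ n * x) * y := by
          rw [pow_succ, ih]; simp only [mul_assoc]
      _ = c ^ n.choose 2 * (x ^ n * c ^ n) * x * (y ^ n * y) := by
          rw [hpow]; simp only [mul_assoc]
      _ = _ := by
          rw [← ((hcx.pow_left n).pow_right n).eq, Nat.choose_succ_succ', Nat.choose_one_right,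
            add_comm n (n.choose 2), pow_add, pow_succ x, pow_succ y]
          simp only [mul_assoc]

/-- If the `p`-th powers of a group are central and so are its commutators, the elements of small
order form a closed set. -/
theorem smallOrder_mul {G : Type*} [Group G] {p : ℕ} [hp : Fact p.Prime] {x y : G}
    (hc : ∀ z : G, Commute ⁅y, x⁆ z) (hyp : Commute (y ^ p) x)
    (hx : SmallOrder p x) (hy : SmallOrder p y) : SmallOrder p (x * y) := by
  set c := ⁅y, x⁆ with hcdef
  have hxy : y * x = c * x * y := by rw [hcdef, commutatorElement_def]; group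
  have hpow : ∀ k : ℕ, y ^ k * x = c ^ k * x * y ^ k := by
    intro k
    induction k with
    | zero => simp
    | succ k ih =>
      calc y ^ (k + 1) * x = y * (y ^ k * x) := by rw [pow_succ', mul_assoc]
        _ = (y * c ^ k) * x * y ^ k := by rw [ih]; simp only [mul_assoc]
        _ = c ^ k * (y * x) * y ^ k := by rw [← ((hc y).pow_left k).eq]; simp only [mul_assoc]
        _ = _ := by rw [hxy, pow_succ c, pow_succ' y]; simp only [mul_assoc]
  have hcp : c ^ p = 1 := by
    have := hpow p
    rw [hyp.eq, mul_assoc (c ^ p)] at this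
    exact mul_eq_right.1 this.symm
  rw [smallOrder_iff] at hx hy ⊢
  rw [mul_pow_of_central hxy (hc x) (hc y), hx, hy, mul_one, mul_one]
  split_ifs with h
  · subst h
    rw [show Nat.choose 4 2 = 2 * 3 by rfl, pow_mul, hcp, one_pow]
  · obtain ⟨k, hk⟩ := hp.out.dvd_choose_self (k := 2) two_ne_zero
      (lt_of_le_of_ne hp.out.two_le (Ne.symm h))
    rw [hk, pow_mul, hcp, one_pow]

theorem smallOrder_conj {G : Type*} [Group G] {p : ℕ} {a : G} (g : G) (h : SmallOrder p a) :
    SmallOrder p (g * a * g⁻¹) := by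
  rw [smallOrder_iff] at h ⊢
  rw [conj_pow, h, mul_one, mul_inv_cancel]

/-- The main lemma. -/
theorem mem_centralizer_of_smallOrder_series {G : Type*} [Group G] [Finite G] {p : ℕ}
    [hp : Fact p.Prime] {g : G} (hgo : (orderOf g).Coprime p) (U : ℕ → Subgroup G) (hU0 : U 0 = ⊥)
    (n : ℕ) (Q : Subgroup G) (hQ : IsPGroup p Q) (hgQ : g ∈ Subgroup.normalizer (Q : Set G))
    (htop : ∀ a ∈ Q, SmallOrder p a → a ∈ U n)
    (hstep : ∀ a ∈ Q, SmallOrder p a → ∀ i, a ∈ U (i + 1) → g * a * g⁻¹ * a⁻¹ ∈ U i) :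
    g ∈ Subgroup.centralizer (Q : Set G) := by
  induction hn : Nat.card Q using Nat.strong_induction_on generalizing Q with
  | _ N ih =>
  subst hn
  have hA : Subgroup.zpowers g ≤ Subgroup.normalizer (Q : Set G) := Subgroup.zpowers_le.2 hgQ
  have hAcard : (Nat.card (Subgroup.zpowers g)).Coprime p := by rw [Nat.card_zpowers]; exact hgo
  have hAQ : (Nat.card (Subgroup.zpowers g)).Coprime (Nat.card Q) := by
    obtain ⟨k, hk⟩ := hQ.exists_card_eq
    rw [hk]; exact hAcard.pow_right k
  have hsub : ∀ R : Subgroup G, R ≤ Q → R ≠ Q → g ∈ Subgroup.normalizer (R : Set G) →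
      g ∈ Subgroup.centralizer (R : Set G) := fun R hR hne hgR =>
    ih _ ((Subgroup.card_le_of_le hR).lt_of_ne fun he => hne (Subgroup.eq_of_le_of_card_ge hR he.ge))
      R (hQ.to_le hR) hgR (fun a ha => htop a (hR ha)) (fun a ha => hstep a (hR ha)) rfl
  by_cases hsmall : ∀ a ∈ Q, SmallOrder p a
  · have hind : ∀ i, ∀ a ∈ Q, a ∈ U i → g * a * g⁻¹ = a := by
      intro i
      induction i with
      | zero =>
        intro a _ ha
        rw [hU0, Subgroup.mem_bot] at ha
        simp [ha]
      | succ i ihi =>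
        intro a haQ ha
        set e := g * a * g⁻¹ * a⁻¹ with he
        have heQ : e ∈ Q := mul_mem ((Subgroup.mem_normalizer_iff.1 hgQ a).1 haQ) (inv_mem haQ)
        have hge := ihi e heQ (hstep a haQ (hsmall a haQ) i ha)
        have hiter : ∀ m : ℕ, g ^ m * a * (g ^ m)⁻¹ = e ^ m * a := by
          intro m
          induction m with
          | zero => simp
          | succ m ihm =>
            calc g ^ (m + 1) * a * (g ^ (m + 1))⁻¹ = g * (g ^ m * a * (g ^ m)⁻¹) * g⁻¹ := by
                  rw [pow_succ', mul_inv_rev]; simp only [mul_assoc]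
              _ = g * (e ^ m * a) * g⁻¹ := by rw [ihm]
              _ = (g * e * g⁻¹) ^ m * (g * a * g⁻¹) := by rw [conj_pow]; group
              _ = e ^ m * (e * a) := by
                  rw [hge]; congr 1
                  rw [he, inv_mul_cancel_right]
              _ = e ^ (m + 1) * a := by rw [← mul_assoc (e ^ m) e a, ← pow_succ]
        have h1 := hiter (orderOf g)
        rw [pow_orderOf_eq_one, one_mul, inv_one, mul_one, right_eq_mul] at h1
        obtain ⟨k, hk⟩ := IsPGroup.iff_orderOf.1 hQ ⟨e, heQ⟩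
        rw [Subgroup.orderOf_mk] at hk
        have he1 : orderOf e = 1 := Nat.eq_one_of_dvd_coprimes ((hgo.symm.pow_left k))
          (hk ▸ dvd_rfl) (orderOf_dvd_of_pow_eq_one h1)
        rw [orderOf_eq_one_iff, he, mul_inv_eq_one] at he1
        exact he1
    rw [Subgroup.mem_centralizer_iff]
    intro a ha
    exact (mul_inv_eq_iff_eq_mul.1 (hind n a ha (htop a ha (hsmall a ha)))).symm
  -- otherwise every small element is centralized
  suffices hfix : ∀ a ∈ Q, SmallOrder p a → g ∈ Subgroup.centralizer ({a} : Set G) by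
    rcases eq_or_ne p 2 with rfl | hp2
    · exact LocalEven2.le_centralizer_of_fixes_pow_sq hAcard Q hQ hA
        (fun a ha h => Subgroup.zpowers_le.2 (hfix a ha (Or.inr ⟨rfl, h⟩))) (Subgroup.mem_zpowers g)
    · exact OddLocal.le_centralizer_of_fixes_pow_eq_one hp2 hAcard Q hQ hA
        (fun a ha h => Subgroup.zpowers_le.2 (hfix a ha (Or.inl h))) (Subgroup.mem_zpowers g)
  set Ω := Subgroup.closure {a : G | a ∈ Q ∧ SmallOrder p a} with hΩ
  have hΩQ : Ω ≤ Q := (Subgroup.closure_le Q).2 fun a ha => ha.1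
  by_cases hΩ' : Ω = Q
  swap
  · have hgΩ : g ∈ Subgroup.normalizer (Ω : Set G) := by
      refine mem_normalizer_of_conj_smul_eq (Subgroup.eq_of_le_of_card_ge ?_ (card_conj_smul g Ω).ge)
      rw [hΩ, Subgroup.smul_closure]
      refine Subgroup.closure_mono ?_
      rintro _ ⟨a, ⟨ha, has⟩, rfl⟩
      exact ⟨(Subgroup.mem_normalizer_iff.1 hgQ a).1 ha, smallOrder_conj g has⟩
    have hc := hsub Ω hΩQ hΩ' hgΩ
    intro a ha has
    exact Subgroup.centralizer_le (Set.singleton_subset_iff.2
      (Subgroup.subset_closure ⟨ha, has⟩ : a ∈ Ω)) hc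
  rcases subsingleton_or_nontrivial Q with hs | hnt
  · exfalso
    refine hsmall fun a ha => ?_
    rw [show a = 1 from congrArg Subtype.val (Subsingleton.elim (⟨a, ha⟩ : Q) 1)]
    exact Or.inl (one_pow p)
  haveI := hQ.isNilpotent
  set F := (frattini Q).map Q.subtype with hF
  have hFQ : F ≤ Q := Subgroup.map_subtype_le _
  have hFne : F ≠ Q := fun h => Cores.frattini_ne_top (G := Q) (by
    refine eq_top_iff.2 fun x _ => ?_
    have hx : (x : G) ∈ F := by rw [h]; exact x.2
    obtain ⟨y, hy, hyx⟩ := hx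
    rwa [← Subtype.ext hyx])
  have hgF : g ∈ Subgroup.normalizer (F : Set G) := Cores.normalizer_le_normalizer_map_subtype Q _ hgQ
  have hgcF := hsub F hFQ hFne hgF
  have hcomF : ∀ a ∈ Q, ∀ b ∈ Q, ⁅a, b⁆ ∈ F := fun a ha b hb =>
    ⟨⁅(⟨a, ha⟩ : Q), ⟨b, hb⟩⁆, Cores.commutator_le_frattini
      (Subgroup.commutator_mem_commutator (Subgroup.mem_top _) (Subgroup.mem_top _)), rfl⟩
  -- the centralizer of `g` in `Q` is proper unless all small elements are fixed
  set W := ⁅Q, Subgroup.zpowers g⁆ with hW
  have hWQ : W ≤ Q := commutator_le_of_le_normalizer hA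
  by_cases hW' : W = Q
  · -- the Frattini subgroup is central
    have hFc : ∀ f ∈ F, ∀ a ∈ Q, Commute f a := by
      have h1 : ⁅⁅Subgroup.zpowers g, F⁆, Q⁆ = ⊥ := by
        rw [Subgroup.commutator_eq_bot_iff_le_centralizer.2
          (Subgroup.zpowers_le.2 hgcF), Subgroup.commutator_bot_left]
      have h2 : ⁅⁅F, Q⁆, Subgroup.zpowers g⁆ = ⊥ := by
        rw [Subgroup.commutator_comm _ (Subgroup.zpowers g),
          Subgroup.commutator_eq_bot_iff_le_centralizer]
        refine Subgroup.zpowers_le.2 (Subgroup.centralizer_le ?_ hgcF)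
        exact SetLike.coe_subset_coe.2 (Subgroup.commutator_le.2 fun f hf a ha =>
          hcomF f (hFQ hf) a ha)
      have h3 := Subgroup.commutator_commutator_eq_bot_of_rotate h1 h2
      rw [Subgroup.commutator_comm, ← hW, hW'] at h3
      intro f hf a ha
      exact (Subgroup.mem_centralizer_iff.1
        ((Subgroup.commutator_eq_bot_iff_le_centralizer.1 h3) hf) a ha).symm
    exfalso
    refine hsmall ?_
    suffices h : ∀ a ∈ Ω, SmallOrder p a from fun a ha => h a (hΩ'.ge ha)
    intro a ha
    induction ha using Subgroup.closure_induction with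
    | mem x hx => exact hx.2
    | one => exact Or.inl (one_pow p)
    | inv x _ hx =>
      rw [smallOrder_iff] at hx ⊢
      rw [inv_pow, hx, inv_one]
    | mul x y hx hy h1 h2 =>
      have hxQ : x ∈ Q := hΩQ hx
      have hyQ : y ∈ Q := hΩQ hy
      have h3 := smallOrder_mul (x := (⟨x, hxQ⟩ : Q)) (y := ⟨y, hyQ⟩)
        (fun z => Subtype.ext (hFc _ (hcomF y hyQ x hxQ) z z.2).eq)
        (Subtype.ext (hFc _ (⟨(⟨y, hyQ⟩ : Q) ^ p, Cores.pow_mem_frattini hQ _, rfl⟩) x hxQ).eq)
        ((smallOrder_iff p _).2 (Subtype.ext ((smallOrder_iff p x).1 h1)))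
        ((smallOrder_iff p _).2 (Subtype.ext ((smallOrder_iff p y).1 h2)))
      exact (smallOrder_iff p _).2 (congrArg Subtype.val ((smallOrder_iff p _).1 h3))
  · -- `g` acts trivially on `Q`: the small elements are fixed
    have hgW := hsub W hWQ hW' (Subgroup.normalizer_commutator_ge_right Q _ (Subgroup.mem_zpowers g))
    have hbot : ⁅⁅Q, Subgroup.zpowers g⁆, Subgroup.zpowers g⁆ = ⊥ := by
      rw [Subgroup.commutator_comm _ (Subgroup.zpowers g),
        Subgroup.commutator_eq_bot_iff_le_centralizer]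
      exact Subgroup.zpowers_le.2 hgW
    have hgc := le_centralizer_of_commutator_commutator_eq_bot hA hAQ hbot (Subgroup.mem_zpowers g)
    intro a ha _
    exact Subgroup.centralizer_le (Set.singleton_subset_iff.2 ha) hgc

end Cfsg.Agent.Lib.Involutions
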