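import Mathlib
import Cfsg.Agent.Lib.InvChar.ZStarTheorem
import Cfsg.Agent.Lib.Involutions.Isolated
import Cfsg.Agent.Lib.Cores

/-!
# Consequences of the `Z*`-theorem
-/

set_option autoImplicit false

namespace Cfsg.Agent.Lib.Involutions

open Cfsg

variable {G : Type*} [Group G] [Finite G]

/-- An isolated involution commutes with everything modulo `O(G)`. -/
theorem commutator_mem_oddCore {z : G} (hz : IsIsolatedInvolution z) (g : G) :
    g * z * g⁻¹ * z⁻¹ ∈ Cfsg.oddCore G :=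
  Cfsg.Agent.Lib.InvChar.inZStar_of_isIsolated hz.1 hz.2 g

/-- An isolated involution normalizes some Sylow `p`-subgroup, for every prime `p`. -/
theorem exists_invariant_sylow {z : G} (hz : IsIsolatedInvolution z) (p : ℕ) [Fact p.Prime] :
    ∃ P : Sylow p G, z ∈ Subgroup.normalizer ((P : Subgroup G) : Set G) := by
  classical
  have : Fact (Nat.Prime 2) := ⟨Nat.prime_two⟩
  set O := Cfsg.oddCore G with hO
  obtain ⟨P⟩ : Nonempty (Sylow p G) := inferInstance
  have hP : (P : Subgroup G) ≤ (P : Subgroup G) ⊔ O := le_sup_left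
  have hQ : ((z • P : Sylow p G) : Subgroup G) ≤ (P : Subgroup G) ⊔ O := by
    rintro _ ⟨x, hx, rfl⟩
    show z * x * z⁻¹ ∈ _
    have h1 : z * x * z⁻¹ = (x * z * x⁻¹ * z⁻¹)⁻¹ * x := by group
    rw [h1]
    exact mul_mem (Subgroup.mem_sup_right (inv_mem (commutator_mem_oddCore hz x)))
      (Subgroup.mem_sup_left hx)
  obtain ⟨k, hk⟩ := MulAction.exists_smul_eq ↥((P : Subgroup G) ⊔ O) (P.subtype hP)
    ((z • P).subtype hQ)
  have hk' : (k : G) • P = z • P := Sylow.subtype_injective (P := _) (Q := _) (by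
    rw [← hk]; exact Sylow.smul_subtype (P := P) (h := k) hP |>.symm)
  have hkG : (k : G) ∈ O ⊔ (P : Subgroup G) := by rw [sup_comm]; exact k.2
  obtain ⟨o, ho, x, hx, hox⟩ := Subgroup.mem_sup_of_normal_left.1 hkG
  have hxP : x • P = P :=
    Sylow.smul_eq_iff_mem_normalizer.2 (Subgroup.le_normalizer hx)
  have hzP : z • P = o • P := by rw [← hk', ← hox, mul_smul, hxP]
  -- the orbit of `P` under `O` has odd size and is permuted by `z`
  let Ω := MulAction.orbit O P
  have hmaps : ∀ Q ∈ Ω, z • Q ∈ Ω := by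
    rintro _ ⟨u, rfl⟩
    refine ⟨⟨z * u * z⁻¹ * o, mul_mem ((inferInstance : O.Normal).conj_mem _ u.2 z) ho⟩, ?_⟩
    show (z * u * z⁻¹ * o) • P = z • (u : G) • P
    rw [mul_smul, ← hzP, ← mul_smul, ← mul_smul, inv_mul_cancel_right]
  let f : Ω → Ω := fun Q => ⟨z • (Q : Sylow p G), hmaps _ Q.2⟩
  have hf : Function.Involutive f := fun Q => Subtype.ext (by
    show z • z • (Q : Sylow p G) = Q
    rw [← mul_smul, invol_mul_self hz.1, one_smul])
  have : Fintype Ω := Fintype.ofFinite _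
  have hodd : ¬ 2 ∣ Fintype.card Ω := by
    intro h
    have h1 : Fintype.card Ω ∣ Nat.card O := by
      rw [← Nat.card_eq_fintype_card, Nat.card_congr (MulAction.orbitEquivQuotientStabilizer O P)]
      exact Subgroup.card_quotient_dvd_card _
    exact (Nat.not_even_iff_odd.2 (Cfsg.Agent.Lib.Cores.odd_card_oddCore G))
      (even_iff_two_dvd.2 (h.trans h1))
  obtain ⟨Q, hQ'⟩ := Equiv.Perm.exists_fixed_point_of_prime (p := 2) (n := 1) hodd
    (σ := hf.toPerm f) (Equiv.ext fun Q => by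
      rw [pow_one, sq, Equiv.Perm.mul_apply]; exact hf Q)
  exact ⟨Q, Sylow.smul_eq_iff_mem_normalizer.1 (congrArg Subtype.val hQ')⟩

/-- Two Sylow `p`-subgroups normalized by an isolated involution are conjugate in its
centralizer. -/
theorem exists_centralizer_conj {z : G} (hz : IsIsolatedInvolution z) {p : ℕ} [Fact p.Prime]
    (P Q : Sylow p G) (hP : z ∈ Subgroup.normalizer ((P : Subgroup G) : Set G))
    (hQ : z ∈ Subgroup.normalizer ((Q : Subgroup G) : Set G)) :
    ∃ c ∈ Subgroup.centralizer ({z} : Set G), c • P = Q := by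
  obtain ⟨g, hg⟩ := MulAction.exists_smul_eq G P Q
  have hgz : g⁻¹ * z * (g⁻¹)⁻¹ ∈ Subgroup.normalizer ((P : Subgroup G) : Set G) := by
    refine Sylow.smul_eq_iff_mem_normalizer.1 ?_
    rw [mul_smul, inv_inv, mul_smul, hg,
      Sylow.smul_eq_iff_mem_normalizer.2 hQ, ← hg, inv_smul_smul]
  obtain ⟨h, hh, he⟩ := exists_conj_mem hz hP hgz
  refine ⟨g * h, Subgroup.mem_centralizer_singleton_iff.2 ?_, ?_⟩
  · have e1 : (g * h) * z * (g * h)⁻¹ = z := by
      rw [← conj_conj, he]; group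
    exact mul_inv_eq_iff_eq_mul.1 e1
  · rw [mul_smul, Sylow.smul_eq_iff_mem_normalizer.2 hh, hg]

omit [Finite G] in
/-- A finite `2`-element lying in `S ⊔ O` is moved into `S` by an element of `O`. -/
theorem exists_conj_into_sylow [Finite G] (S : Sylow 2 G) {O : Subgroup G} [O.Normal] {x : G}
    (hx : x ∈ (S : Subgroup G) ⊔ O) {k : ℕ} (hk : x ^ 2 ^ k = 1) :
    ∃ o ∈ O, o * x * o⁻¹ ∈ (S : Subgroup G) := by
  have : Fact (Nat.Prime 2) := ⟨Nat.prime_two⟩
  set K := (S : Subgroup G) ⊔ O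
  have hle : (S : Subgroup G) ≤ K := le_sup_left
  have hp : IsPGroup 2 (Subgroup.zpowers (⟨x, hx⟩ : K)) := by
    rintro ⟨y, hy⟩
    obtain ⟨i, rfl⟩ := Subgroup.mem_zpowers_iff.1 hy
    refine ⟨k, Subtype.ext (Subtype.ext ?_)⟩
    show (((⟨x, hx⟩ : K) ^ i : K) : G) ^ 2 ^ k = 1
    rw [Subgroup.coe_zpow, ← zpow_natCast, ← zpow_mul, mul_comm, zpow_mul, zpow_natCast, hk,
      one_zpow]
  obtain ⟨R, hR⟩ := hp.exists_le_sylow
  obtain ⟨c, hc⟩ := MulAction.exists_smul_eq K R (S.subtype hle)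
  have hmem : c * ⟨x, hx⟩ * c⁻¹ ∈ ((S.subtype hle : Sylow 2 K) : Subgroup K) := by
    rw [← hc, sylow_map_conj]
    exact ⟨_, hR (Subgroup.mem_zpowers _), rfl⟩
  have hmem' : (c : G) * x * (c : G)⁻¹ ∈ (S : Subgroup G) := hmem
  obtain ⟨s, hs, o, ho, hso⟩ := Subgroup.mem_sup_of_normal_right.1 c.2
  refine ⟨o, ho, ?_⟩
  have h1 := mul_mem (mul_mem (inv_mem hs) hmem') hs
  rwa [← hso, show s⁻¹ * ((s * o) * x * (s * o)⁻¹) * s = o * x * o⁻¹ by group] at h1

omit [Finite G] in
/-- A normal subgroup which is an odd order extension of a central `2`-group lies in that group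
when `O(G) = 1`. -/
theorem le_of_odd_over_central [Finite G] (hO : Cfsg.oddCore G = ⊥) {N M : Subgroup G} [M.Normal]
    (hNM : N ≤ M) (hN : IsPGroup 2 N) (hc : N ≤ Subgroup.center G) (hodd : Odd (N.relIndex M)) :
    M ≤ N := by
  have : Fact (Nat.Prime 2) := ⟨Nat.prime_two⟩
  set N' := N.subgroupOf M
  have hN'c : ∀ a ∈ N', ∀ b : M, a * b = b * a := fun a ha b =>
    Subtype.ext ((Subgroup.mem_center_iff.1 (hc ha) (b : G)).symm)
  haveI : N'.Normal := ⟨fun a ha b => by rw [← hN'c a ha b, mul_inv_cancel_right]; exact ha⟩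
  obtain ⟨a, ha⟩ : ∃ a, Nat.card N' = 2 ^ a :=
    (hN.comap_subtype (H := N) (K := M)).exists_card_eq
  have hcop : (Nat.card N').Coprime N'.index := by
    have hi : N'.index = N.relIndex M := rfl
    rw [ha, hi]
    exact Nat.Coprime.pow_left _ (Nat.coprime_two_left.2 hodd)
  obtain ⟨K, hK⟩ := Subgroup.exists_right_complement'_of_coprime hcop
  have hKc : Nat.card K = N'.index := hK.symm.index_eq_card.symm
  have hKodd : Odd (Nat.card K) := hKc ▸ hodd
  have hchar : ∀ m : M, m ^ Nat.card K = 1 → m ∈ K := by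
    intro m hm
    obtain ⟨⟨u, v⟩, huv⟩ := hK.2 m
    have huv' : (u : M) * v = m := huv
    have hcomm : Commute (u : M) v := hN'c u u.2 v
    rw [← huv', hcomm.mul_pow, ← Subgroup.coe_pow K, pow_card_eq_one', Subgroup.coe_one,
      mul_one] at hm
    have h1 : orderOf (u : M) ∣ 2 ^ a :=
      ha ▸ (Subgroup.orderOf_coe u).symm ▸ orderOf_dvd_natCard u
    have h2 : orderOf (u : M) = 1 := Nat.eq_one_of_dvd_coprimes
      (Nat.Coprime.pow_left _ (Nat.coprime_two_left.2 hKodd)) h1 (orderOf_dvd_of_pow_eq_one hm)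
    rw [← huv', orderOf_eq_one_iff.1 h2, one_mul]
    exact v.2
  have hKn : (K.map M.subtype).Normal := ⟨by
    rintro _ ⟨m, hm, rfl⟩ g
    refine ⟨⟨g * m * g⁻¹, (inferInstance : M.Normal).conj_mem _ m.2 g⟩, hchar _ (Subtype.ext ?_), rfl⟩
    show (g * (m : G) * g⁻¹) ^ Nat.card K = 1
    rw [conj_pow, ← Subgroup.coe_pow, show m ^ Nat.card K = 1 from
      congrArg Subtype.val (pow_card_eq_one' (x := (⟨m, hm⟩ : K))), Subgroup.coe_one, mul_one,
      mul_inv_cancel]⟩
  have hKbot : K.map M.subtype = ⊥ := le_bot_iff.1 (hO ▸ Cfsg.Agent.Lib.Cores.le_oddCore hKn (by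
    rw [Subgroup.card_map_of_injective M.subtype_injective]; exact hKodd))
  rw [Subgroup.map_eq_bot_iff_of_injective _ M.subtype_injective] at hKbot
  intro m hm
  have htop : (⟨m, hm⟩ : M) ∈ N' := by
    have := hK.sup_eq_top
    rw [hKbot, sup_bot_eq] at this
    exact this ▸ Subgroup.mem_top _
  exact htop

theorem central_of_alone_aux : ∀ (k : ℕ) {G : Type*} [Group G] [Finite G]
    (_ : Cfsg.oddCore G = ⊥) (S : Sylow 2 G) (u : G), u ∈ (S : Subgroup G) → u ^ 2 ^ k = 1 →
    (∀ (m : ℕ) (g : G), g * u ^ m * g⁻¹ ∈ (S : Subgroup G) → g * u ^ m * g⁻¹ = u ^ m) →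
    u ∈ Subgroup.center G := by
  intro k
  induction k with
  | zero =>
    intro G _ _ _ S u _ h1 _
    rw [pow_zero, pow_one] at h1
    rw [h1]; exact one_mem _
  | succ k ih =>
    intro G _ _ hO S u huS hk halone
    have : Fact (Nat.Prime 2) := ⟨Nat.prime_two⟩
    have h2 : u ^ 2 ∈ Subgroup.center G := ih hO S _ (pow_mem huS 2)
      (by rw [← pow_mul, ← pow_succ']; exact hk)
      (fun m g => by rw [← pow_mul]; exact halone _ g)
    set N := Subgroup.zpowers (u ^ 2) with hN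
    have hNc : N ≤ Subgroup.center G := Subgroup.zpowers_le.2 h2
    haveI : N.Normal := ⟨fun a ha g => by
      rw [Subgroup.mem_center_iff.1 (hNc ha) g, mul_inv_cancel_right]; exact ha⟩
    have hNS : N ≤ (S : Subgroup G) := Subgroup.zpowers_le.2 (pow_mem huS 2)
    have hNp : IsPGroup 2 N := S.2.to_le hNS
    have key : ∀ g : G, g * u * g⁻¹ * u⁻¹ ∈ N → g * u * g⁻¹ = u := by
      intro g hg
      have h1 : g * u * g⁻¹ ∈ (S : Subgroup G) := by
        have := mul_mem (hNS hg) huS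
        rwa [inv_mul_cancel_right] at this
      have := halone 1 g (by rwa [pow_one])
      rwa [pow_one] at this
    rw [Subgroup.mem_center_iff]
    suffices ∀ g : G, g * u * g⁻¹ = u from fun g => mul_inv_eq_iff_eq_mul.1 (this g)
    by_cases huN : u ∈ N
    · intro g
      rw [Subgroup.mem_center_iff.1 (hNc huN) g, mul_inv_cancel_right]
    let π := QuotientGroup.mk' N
    let S' : Sylow 2 (G ⧸ N) := S.mapSurjective (QuotientGroup.mk'_surjective N)
    have hu2 : orderOf (π u) = 2 := orderOf_eq_two_of_mul_self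
      (by rw [← map_mul, ← sq]; exact (QuotientGroup.eq_one_iff _).2 (Subgroup.mem_zpowers _))
      (fun h => huN ((QuotientGroup.eq_one_iff _).1 h))
    have huS' : π u ∈ (S' : Subgroup (G ⧸ N)) := ⟨u, huS, rfl⟩
    have hiso : IsIsolatedInvolution (π u) := by
      refine isIsolated_of_unique_in_sylow S' hu2 huS' fun x hx => ?_
      obtain ⟨g, rfl⟩ := QuotientGroup.mk_surjective x
      obtain ⟨s, hs, hsg⟩ := hx
      have hsg' : π s = π (g * u * g⁻¹) := by rw [map_mul, map_mul, map_inv]; exact hsg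
      have h1 : g * u * g⁻¹ ∈ (S : Subgroup G) := by
        have hm : s⁻¹ * (g * u * g⁻¹) ∈ N := QuotientGroup.eq.1 hsg'
        have := mul_mem hs (hNS hm)
        rwa [mul_inv_cancel_left] at this
      have h2' := halone 1 g (by rwa [pow_one])
      rw [pow_one] at h2'
      show (π g) * π u * (π g)⁻¹ = π u
      rw [← map_inv, ← map_mul, ← map_mul, h2']
    set M := (Cfsg.oddCore (G ⧸ N)).comap π with hM
    have hMN : M ≤ N := by
      refine le_of_odd_over_central hO (fun a ha => ?_) hNp hNc ?_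
      · rw [hM, Subgroup.mem_comap, show π a = 1 from (QuotientGroup.eq_one_iff a).2 ha]; exact one_mem _
      · have h1 : N.relIndex M = Nat.card (Cfsg.oddCore (G ⧸ N)) := by
          conv_lhs => rw [show N = (⊥ : Subgroup (G ⧸ N)).comap π by
            rw [MonoidHom.comap_bot, QuotientGroup.ker_mk']]
          rw [hM, Subgroup.relIndex_comap, Subgroup.map_comap_eq_self_of_surjective
            (QuotientGroup.mk'_surjective N), Subgroup.relIndex_bot_left]
        exact h1 ▸ Cfsg.Agent.Lib.Cores.odd_card_oddCore _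
    intro g
    refine key g (hMN ?_)
    show π (g * u * g⁻¹ * u⁻¹) ∈ Cfsg.oddCore (G ⧸ N)
    rw [map_mul, map_mul, map_mul, map_inv, map_inv]
    exact commutator_mem_oddCore hiso (π g)

omit [Finite G] in
/-- An element of a Sylow `2`-subgroup `S` all of whose powers are alone in their fusion classes
in `S` is central modulo `O(G)`. -/
theorem central_mod_core_of_alone [Finite G] (S : Sylow 2 G) {u : G} (hu : u ∈ (S : Subgroup G))
    (halone : ∀ (m : ℕ) (g : G), g * u ^ m * g⁻¹ ∈ (S : Subgroup G) → g * u ^ m * g⁻¹ = u ^ m)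
    (g : G) : g * u * g⁻¹ * u⁻¹ ∈ Cfsg.oddCore G := by
  have : Fact (Nat.Prime 2) := ⟨Nat.prime_two⟩
  set O := Cfsg.oddCore G
  let π := QuotientGroup.mk' O
  obtain ⟨k, hk⟩ := S.2 ⟨u, hu⟩
  have hk' : u ^ 2 ^ k = 1 := congrArg Subtype.val hk
  have hc : π u ∈ Subgroup.center (G ⧸ O) := by
    refine central_of_alone_aux k (Cfsg.Agent.Lib.Cores.pPrimeCore_quotient_pPrimeCore 2 G)
      (S.mapSurjective (QuotientGroup.mk'_surjective O)) (π u) ⟨u, hu, rfl⟩
      (by rw [← map_pow, hk', map_one]) fun m x hx => ?_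
    obtain ⟨g, rfl⟩ := QuotientGroup.mk_surjective x
    obtain ⟨s, hs, hsg⟩ := hx
    have hsg' : π s = π (g * u ^ m * g⁻¹) := by rw [map_mul, map_mul, map_inv, map_pow]; exact hsg
    have hmem : g * u ^ m * g⁻¹ ∈ (S : Subgroup G) ⊔ O := by
      have hm : s⁻¹ * (g * u ^ m * g⁻¹) ∈ O := QuotientGroup.eq.1 hsg'
      have := mul_mem (Subgroup.mem_sup_left (T := O) hs) (Subgroup.mem_sup_right hm)
      rwa [mul_inv_cancel_left] at this
    obtain ⟨o, ho, ho'⟩ := exists_conj_into_sylow S hmem (k := k)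
      (by rw [conj_pow, ← pow_mul, mul_comm, pow_mul, hk', one_pow, mul_one, mul_inv_cancel])
    rw [conj_conj] at ho'
    have h1 := congrArg π (halone m (o * g) ho')
    have ho1 : π o = 1 := (QuotientGroup.eq_one_iff o).2 ho
    rw [map_mul, map_mul, map_inv, map_mul, ho1, one_mul, map_pow] at h1
    exact h1
  refine (QuotientGroup.eq_one_iff _).1 ?_
  show π (g * u * g⁻¹ * u⁻¹) = 1
  rw [map_mul, map_mul, map_mul, map_inv, map_inv, Subgroup.mem_center_iff.1 hc (π g),
    mul_inv_cancel_right, mul_inv_cancel]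

end Cfsg.Agent.Lib.Involutions
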