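import Mathlib
import Cfsg.Agent.Lib.Involutions.Basic
import Cfsg.Agent.Lib.Involutions.Dihedral
import Cfsg.Agent.Lib.OddLocal.Coprime
import Cfsg.Agent.Lib.Solvable.Nilpotent

/-!
# Normal four-subgroups of 2-groups of 2-rank at least three
-/

namespace Cfsg.Agent.Lib.Involutions

variable {S : Type*} [Group S]

/-- The four-group generated by two distinct commuting involutions. -/
theorem exists_klein_mem_iff {z v : S} (hz : z * z = 1) (hv : v * v = 1) (hz1 : z ≠ 1)
    (hv1 : v ≠ 1) (hne : v ≠ z) (hc : Commute z v) :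
    ∃ U : Subgroup S, IsKleinFour U ∧ ∀ g, g ∈ U ↔ g = 1 ∨ g = z ∨ g = v ∨ g = z * v := by
  have hzi : z⁻¹ = z := inv_eq_of_mul_eq_one_right hz
  have hvi : v⁻¹ = v := inv_eq_of_mul_eq_one_right hv
  let U : Subgroup S :=
    { carrier := {g | g = 1 ∨ g = z ∨ g = v ∨ g = z * v}
      one_mem' := Or.inl rfl
      mul_mem' := by
        have e1 : z * (z * v) = v := by rw [← mul_assoc, hz, one_mul]
        have e2 : v * z = z * v := hc.eq.symm
        have e3 : v * (z * v) = z := by rw [← mul_assoc, e2, mul_assoc, hv, mul_one]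
        have e4 : z * v * z = v := by rw [mul_assoc, e2, e1]
        have e5 : z * v * v = z := by rw [mul_assoc, hv, mul_one]
        have e6 : z * v * (z * v) = 1 := by rw [mul_assoc, e3, hz]
        rintro a b (rfl | rfl | rfl | rfl) (rfl | rfl | rfl | rfl) <;>
          simp [hz, hv, e1, e2, e3, e4, e5, e6]
      inv_mem' := by
        rintro a (rfl | rfl | rfl | rfl) <;> simp [hzi, hvi, hc.eq] }
  have hmem : ∀ g, g ∈ U ↔ g = 1 ∨ g = z ∨ g = v ∨ g = z * v := fun g => Iff.rfl
  refine ⟨U, isKleinFour_of_sq ?_ ?_, hmem⟩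
  · have hzv : z * v ≠ 1 := fun h => hne (mul_left_cancel (h.trans hz.symm))
    have hzv' : z * v ≠ z := fun h => hv1 (by simpa using h)
    have hzv'' : z * v ≠ v := fun h => hz1 (by simpa using h)
    have : (U : Set S) = {1, z, v, z * v} := by
      ext g
      simp [hmem]
    rw [← SetLike.coe_sort_coe, Nat.card_coe_set_eq, this,
      Set.ncard_insert_of_notMem (by simp [hz1.symm, hv1.symm, hzv.symm]),
      Set.ncard_insert_of_notMem (by simp [hne.symm, hzv'.symm]), Set.ncard_pair hzv''.symm]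
  · intro g hg
    rcases (hmem g).1 hg with rfl | rfl | rfl | rfl
    · rw [one_mul]
    · exact hz
    · exact hv
    · rw [mul_assoc, ← mul_assoc v z v, ← hc.eq, mul_assoc z v v, hv, mul_one, hz]

/-- A subgroup generated by a central involution and an element whose conjugates lie in its coset
is normal. -/
theorem exists_normal_klein_of_conj {z v : S} (hz : z * z = 1) (hv : v * v = 1) (hz1 : z ≠ 1)
    (hv1 : v ≠ 1) (hne : v ≠ z) (hzc : z ∈ Subgroup.center S)
    (hconj : ∀ x : S, x * v * x⁻¹ = v ∨ x * v * x⁻¹ = z * v) :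
    ∃ U : Subgroup S, U.Normal ∧ IsKleinFour U := by
  obtain ⟨U, hU, hmem⟩ := exists_klein_mem_iff hz hv hz1 hv1 hne (Subgroup.mem_center_iff.1 hzc v).symm
  have hzfix : ∀ x : S, x * z * x⁻¹ = z := fun x => by
    rw [Subgroup.mem_center_iff.1 hzc x, mul_inv_cancel_right]
  refine ⟨U, ⟨fun g hg x => ?_⟩, hU⟩
  rcases (hmem g).1 hg with rfl | rfl | rfl | rfl
  · simp
  · exact (hmem _).2 (Or.inr (Or.inl (hzfix x)))
  · rcases hconj x with h | h
    · exact (hmem _).2 (Or.inr (Or.inr (Or.inl h)))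
    · exact (hmem _).2 (Or.inr (Or.inr (Or.inr h)))
  · have e : x * (z * v) * x⁻¹ = z * (x * v * x⁻¹) := by
      rw [show x * (z * v) * x⁻¹ = x * z * x⁻¹ * (x * v * x⁻¹) by group, hzfix]
    rw [e]
    rcases hconj x with h | h <;> rw [h]
    · exact (hmem _).2 (Or.inr (Or.inr (Or.inr rfl)))
    · exact (hmem _).2 (Or.inr (Or.inr (Or.inl (by rw [← mul_assoc, hz, one_mul]))))

/-- A 2-group with an elementary abelian subgroup of order eight has a normal four-subgroup. -/
theorem exists_normal_klein [Finite S] (hS : IsPGroup 2 S) (E : Subgroup S) (hE8 : Nat.card E = 8)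
    (hE : ∀ e ∈ E, e * e = 1) : ∃ U : Subgroup S, U.Normal ∧ IsKleinFour U := by
  classical
  have : Fact (Nat.Prime 2) := ⟨Nat.prime_two⟩
  have hnil : Group.IsNilpotent S := hS.isNilpotent
  obtain ⟨A, hAn, hAc, hCA⟩ := Cfsg.Agent.Lib.OddLocal.exists_normal_abelian_centralizer_le S
  have hAcomm : ∀ a ∈ A, ∀ b ∈ A, a * b = b * a := fun a ha b hb =>
    congrArg Subtype.val (hAc.is_comm.comm (⟨a, ha⟩ : A) ⟨b, hb⟩)
  by_cases hbig : ∃ v w : S, v ∈ A ∧ w ∈ A ∧ v * v = 1 ∧ w * w = 1 ∧ v ≠ 1 ∧ w ≠ 1 ∧ v ≠ w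
  · -- `Ω₁(A)` is a noncyclic normal elementary abelian subgroup
    obtain ⟨v, w, hv, hw, hvv, hww, hv1, hw1, hvw⟩ := hbig
    let W : Subgroup S :=
      { carrier := {a | a ∈ A ∧ a * a = 1}
        one_mem' := ⟨one_mem A, one_mul 1⟩
        mul_mem' := fun {a b} ha hb => ⟨mul_mem ha.1 hb.1, by
          rw [mul_assoc, ← mul_assoc b a b, hAcomm b hb.1 a ha.1, mul_assoc a b b, hb.2, mul_one,
            ha.2]⟩
        inv_mem' := fun {a} ha => ⟨inv_mem ha.1, by rw [← mul_inv_rev, ha.2, inv_one]⟩ }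
    have hWn : W.Normal := ⟨fun a ha x => ⟨hAn.conj_mem a ha.1 x, by
      rw [show x * a * x⁻¹ * (x * a * x⁻¹) = x * (a * a) * x⁻¹ by group, ha.2]; group⟩⟩
    have hWne : W ≠ ⊥ := fun h => hv1 (by
      rw [← Subgroup.mem_bot, ← h]; exact ⟨hv, hvv⟩)
    obtain ⟨z, hz, hz1⟩ := (W ⊓ Subgroup.center S).bot_or_exists_ne_one.resolve_left
      (Cfsg.Agent.Lib.Solvable.inf_center_ne_bot hWne)
    have hzc : z ∈ Subgroup.center S := hz.2
    set Z := Subgroup.zpowers z with hZ
    have hZn : Z.Normal := ⟨fun a ha x => by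
      have hac : a ∈ Subgroup.center S := Subgroup.zpowers_le.2 hzc ha
      rw [Subgroup.mem_center_iff.1 hac x, mul_inv_cancel_right]; exact ha⟩
    have hZmem : ∀ a ∈ Z, a = 1 ∨ a = z := by
      intro a ha
      obtain ⟨i, rfl⟩ := Subgroup.mem_zpowers_iff.1 ha
      rcases Int.even_or_odd' i with ⟨j, rfl | rfl⟩
      · left; rw [zpow_mul, zpow_two, hz.1.2, one_zpow]
      · right; rw [zpow_add, zpow_mul, zpow_two, hz.1.2, one_zpow, one_mul, zpow_one]
    have hnil' : Group.IsNilpotent (S ⧸ Z) := (hS.to_quotient Z).isNilpotent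
    have hmap : (W.map (QuotientGroup.mk' Z)).Normal := hWn.map _ (QuotientGroup.mk'_surjective Z)
    have hmne : W.map (QuotientGroup.mk' Z) ≠ ⊥ := by
      intro h
      rw [Subgroup.map_eq_bot_iff, QuotientGroup.ker_mk'] at h
      rcases hZmem v (h ⟨hv, hvv⟩) with e | e
      · exact hv1 e
      rcases hZmem w (h ⟨hw, hww⟩) with e' | e'
      · exact hw1 e'
      exact hvw (e.trans e'.symm)
    obtain ⟨q, hq, hq1⟩ := (W.map (QuotientGroup.mk' Z) ⊓ Subgroup.center (S ⧸ Z)).bot_or_exists_ne_one.resolve_left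
      (Cfsg.Agent.Lib.Solvable.inf_center_ne_bot hmne)
    obtain ⟨⟨t, ht, rfl⟩, hqc⟩ := hq
    have htZ : t ∉ Z := fun h => hq1 ((QuotientGroup.eq_one_iff t).2 h)
    refine exists_normal_klein_of_conj hz.1.2 ht.2 hz1 (fun h => htZ (h ▸ one_mem Z))
      (fun h => htZ (h ▸ Subgroup.mem_zpowers z)) hzc fun x => ?_
    have h := Subgroup.mem_center_iff.1 hqc (QuotientGroup.mk' Z x)
    rw [← map_mul, ← map_mul, QuotientGroup.mk'_apply, QuotientGroup.mk'_apply,
      QuotientGroup.eq] at h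
    rcases hZmem _ h with e | e
    · left
      rw [inv_mul_eq_one] at e
      rw [e, mul_inv_cancel_right]
    · right
      rw [inv_mul_eq_iff_eq_mul] at e
      have hzt : x * t * z = z * (x * t) := Subgroup.mem_center_iff.1 hzc (x * t)
      calc x * t * x⁻¹ = x * t * z * z * x⁻¹ := by
            rw [mul_assoc (x * t) z z, hz.1.2, mul_one]
        _ = t * x * z * x⁻¹ := by rw [← e]
        _ = z * t := by
            rw [mul_assoc (t * x) z, ← Subgroup.mem_center_iff.1 hzc x⁻¹, ← mul_assoc,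
              mul_inv_cancel_right, Subgroup.mem_center_iff.1 hzc t]
  · -- `A` has at most one involution, so it is cyclic
    push Not at hbig
    have h2 : ∀ a : A, a * a = 1 → a ≠ 1 → ∀ b : A, b * b = 1 → b ≠ 1 → a = b := by
      intro a ha ha1 b hb hb1
      exact Subtype.ext (hbig a b a.2 b.2 (congrArg Subtype.val ha) (congrArg Subtype.val hb)
        (fun h => ha1 (Subtype.ext h)) (fun h => hb1 (Subtype.ext h)))
    obtain ⟨n, hn⟩ := IsPGroup.iff_card.1 (hS.to_subgroup A)
    -- the number of solutions of `a ^ 2^k = 1` in `A` is at most `2^k`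
    have hcount : ∀ k, ∀ T : Finset S, (∀ a ∈ T, a ∈ A ∧ a ^ 2 ^ k = 1) → T.card ≤ 2 ^ k := by
      intro k
      induction k with
      | zero =>
        intro T hT
        refine Finset.card_le_one.2 fun a ha b hb => ?_
        have h1 := (hT a ha).2
        have h2 := (hT b hb).2
        simp only [pow_zero, pow_one] at h1 h2
        rw [h1, h2]
      | succ k ih =>
        intro T hT
        have h1 : (T.image fun a => a ^ 2).card ≤ 2 ^ k := by
          refine ih _ fun b hb => ?_
          obtain ⟨a, ha, rfl⟩ := Finset.mem_image.1 hb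
          refine ⟨pow_mem (hT a ha).1 2, ?_⟩
          rw [← pow_mul, ← pow_succ', (hT a ha).2]
        refine (Finset.card_le_mul_card_image (f := fun a => a ^ 2) T 2 fun b _ => ?_).trans ?_
        · by_contra hgt
          rw [not_le, Finset.two_lt_card_iff] at hgt
          obtain ⟨a, c, d, ha, hc, hd, hac, had, hcd⟩ := hgt
          rw [Finset.mem_filter] at ha hc hd
          have key : ∀ c' ∈ T, c' ^ 2 = b → c' ≠ a →
              a⁻¹ * c' ∈ A ∧ a⁻¹ * c' * (a⁻¹ * c') = 1 ∧ a⁻¹ * c' ≠ 1 := by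
            intro c' hc' hcb hca
            refine ⟨mul_mem (inv_mem (hT a ha.1).1) (hT c' hc').1, ?_,
              fun h => hca (inv_mul_eq_one.1 h).symm⟩
            have hcm : Commute a⁻¹ c' :=
              hAcomm _ (inv_mem (hT a ha.1).1) _ (hT c' hc').1
            rw [← sq, hcm.mul_pow, hcb, inv_pow, ha.2, inv_mul_cancel]
          obtain ⟨k1, k2, k3⟩ := key c hc.1 hc.2 hac.symm
          obtain ⟨l1, l2, l3⟩ := key d hd.1 hd.2 had.symm
          exact hcd (mul_left_cancel (hbig _ _ k1 l1 k2 l2 k3 l3))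
        · rw [pow_succ']
          exact Nat.mul_le_mul_left 2 h1
    obtain ⟨e₀, he₀, he₀1⟩ : ∃ e ∈ E, e ≠ 1 := by
      by_contra hcon
      push Not at hcon
      rw [(Subgroup.eq_bot_iff_forall E).2 hcon, Subgroup.card_bot] at hE8
      omega
    rcases n with _ | n
    · -- `A` trivial
      have hA : A = ⊥ := Subgroup.card_eq_one.1 (by rw [hn, pow_zero])
      refine absurd (Subgroup.mem_bot.1 (hA ▸ hCA ?_)) he₀1
      intro a ha
      rw [hA, SetLike.mem_coe, Subgroup.mem_bot] at ha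
      rw [ha, one_mul, mul_one]
    obtain ⟨a, haA, hagen⟩ : ∃ a ∈ A, Subgroup.zpowers a = A := by
      by_contra hcon
      push Not at hcon
      have := Fintype.ofFinite A
      have hle := hcount n
        (Finset.map ⟨Subtype.val, Subtype.val_injective⟩ (Finset.univ : Finset {x // x ∈ A})) ?_
      · rw [Finset.card_map, Finset.card_univ, ← Nat.card_eq_fintype_card, hn] at hle
        exact absurd hle (by rw [pow_succ]; have := Nat.two_pow_pos n; omega)
      intro x hx
      obtain ⟨⟨b, hb⟩, -, rfl⟩ := Finset.mem_map.1 hx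
      refine ⟨hb, orderOf_dvd_iff_pow_eq_one.1 ?_⟩
      obtain ⟨j, hj, hjb⟩ := (Nat.dvd_prime_pow Nat.prime_two).1
        (hn ▸ Subgroup.orderOf_dvd_natCard _ hb)
      show orderOf b ∣ 2 ^ n
      rw [hjb]
      refine pow_dvd_pow 2 ?_
      by_contra hjn
      refine hcon b hb (Subgroup.eq_of_le_of_card_ge (Subgroup.zpowers_le.2 hb) ?_)
      rw [Nat.card_zpowers, hjb, hn]
      exact Nat.pow_le_pow_right two_pos (by omega)
    have hord : orderOf a = 2 ^ (n + 1) := by rw [← Nat.card_zpowers, hagen, hn]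
    set h : ℤ := 2 ^ n with hh
    have hhh : (2 : ℤ) ^ (n + 1) = 2 * h := by rw [hh, pow_succ']
    have hpow : ∀ i j : ℤ, a ^ i = a ^ j ↔ 2 * h ∣ i - j := by
      intro i j
      rw [← hhh, zpow_eq_zpow_iff_modEq, hord, Int.modEq_iff_dvd, ← dvd_neg, neg_sub]
      norm_num
    set z := a ^ h with hzdef
    have hzz : z * z = 1 := by
      rw [hzdef, ← zpow_add, ← zpow_zero a, hpow]; exact ⟨1, by ring⟩
    have hz1 : z ≠ 1 := by
      rw [hzdef, Ne, ← zpow_zero a, hpow]
      rintro ⟨c, hc⟩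
      have hpos : 0 < h := by positivity
      have : c * 2 = 1 := mul_left_cancel₀ hpos.ne' (by linarith)
      omega
    -- the exponents
    have hexp : ∀ x : S, ∃ r : ℤ, x * a * x⁻¹ = a ^ r := fun x => by
      obtain ⟨r, hr⟩ := Subgroup.mem_zpowers_iff.1 (hagen.symm ▸ hAn.conj_mem a haA x)
      exact ⟨r, hr.symm⟩
    have hinA : ∀ x : S, x * a * x⁻¹ = a → x ∈ A := by
      intro x hx
      refine hCA fun b hb => ?_
      rw [SetLike.mem_coe, ← hagen] at hb
      obtain ⟨i, rfl⟩ := Subgroup.mem_zpowers_iff.1 hb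
      exact ((Commute.zpow_left (Commute.symm (mul_inv_eq_iff_eq_mul.1 hx : Commute x a)) i).eq)
    have hEA : ∀ e ∈ E, e ∈ A → e = 1 ∨ e = z := by
      intro e he heA
      by_cases h1 : e = 1
      · exact Or.inl h1
      · exact Or.inr (hbig e z heA (hzdef ▸ zpow_mem haA h) (hE e he) hzz h1 hz1)
    have hr2 : ∀ e ∈ E, ∀ r : ℤ, e * a * e⁻¹ = a ^ r → 2 * h ∣ r * r - 1 := by
      intro e he r hr
      rw [← hpow, zpow_one, zpow_mul, ← hr, conj_zpow, ← hr]
      calc e * (e * a * e⁻¹) * e⁻¹ = (e * e) * a * (e * e)⁻¹ := by group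
        _ = a := by rw [hE e he]; group
    -- a map from `E` with fibres of size at most two
    have hfib : ∀ T : Finset S, (∀ e ∈ T, e ∈ E) → ∀ s : Finset S,
        (∀ e ∈ T, e * a * e⁻¹ ∈ s) → T.card ≤ 2 * s.card := by
      intro T hT s hs
      refine Finset.card_le_mul_card_image_of_maps_to hs 2 fun b _ => ?_
      by_contra hgt
      rw [not_le, Finset.two_lt_card_iff] at hgt
      obtain ⟨p, c, d, hp, hc, hd, hpc, hpd, hcd⟩ := hgt
      rw [Finset.mem_filter] at hp hc hd
      have key : ∀ c' ∈ T, c' * a * c'⁻¹ = b → c' ≠ p → p⁻¹ * c' = z := by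
        intro c' hc' hcb hcp
        have hE' : p⁻¹ * c' ∈ E := mul_mem (inv_mem (hT p hp.1)) (hT c' hc')
        refine (hEA _ hE' (hinA _ ?_)).resolve_left fun h => hcp (inv_mul_eq_one.1 h).symm
        calc p⁻¹ * c' * a * (p⁻¹ * c')⁻¹ = p⁻¹ * (c' * a * c'⁻¹) * p := by group
          _ = p⁻¹ * (p * a * p⁻¹) * p := by rw [hcb, hp.2]
          _ = a := by group
      exact hcd (mul_left_cancel
        ((key c hc.1 hc.2 hpc.symm).trans (key d hd.1 hd.2 hpd.symm).symm))
    have := Fintype.ofFinite S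
    set EF : Finset S := Finset.univ.filter fun e => e ∈ E with hEF
    have hEF8 : EF.card = 8 := by
      rw [hEF, ← Fintype.card_subtype, ← Nat.card_eq_fintype_card, hE8]
    -- `n ≥ 2`, that is `|A| ≥ 8`
    have hn2 : 2 ≤ n := by
      by_contra hlt
      have h12 : h = 1 ∨ h = 2 := by
        rcases (by omega : n = 0 ∨ n = 1) with rfl | rfl <;> simp [hh]
      have := hfib EF (fun e he => (Finset.mem_filter.1 he).2) {a, a⁻¹} ?_
      · have hc2 : ({a, a⁻¹} : Finset S).card ≤ 2 := Finset.card_le_two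
        omega
      intro e he
      obtain ⟨r, hr⟩ := hexp e
      have hdvd := hr2 e (Finset.mem_filter.1 he).2 r hr
      rw [Finset.mem_insert, Finset.mem_singleton, hr]
      rcases Int.even_or_odd' r with ⟨c, rfl | rfl⟩
      · exfalso
        have h2d : (2 : ℤ) ∣ 2 * c * (2 * c) - 1 := dvd_trans (Dvd.intro h rfl) hdvd
        obtain ⟨w, hw⟩ := h2d
        have : (1 : ℤ) = 2 * (2 * c * c - w) := by linarith
        omega
      · rcases Int.even_or_odd' c with ⟨c', rfl | rfl⟩
        · left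
          nth_rewrite 2 [← zpow_one a]
          rw [hpow]
          rcases h12 with h1 | h1 <;> rw [h1]
          · exact ⟨2 * c', by ring⟩
          · exact ⟨c', by ring⟩
        · right
          rw [← zpow_neg_one, hpow]
          rcases h12 with h1 | h1 <;> rw [h1]
          · exact ⟨2 * c' + 2, by ring⟩
          · exact ⟨c' + 1, by ring⟩
    have h4 : (4 : ℤ) ∣ h := by
      rw [hh, show (4 : ℤ) = 2 ^ 2 by norm_num]; exact pow_dvd_pow 2 hn2
    -- every element of `E` is congruent to `±1`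
    have hpm : ∀ e ∈ E, (∃ r : ℤ, e * a * e⁻¹ = a ^ r ∧ h ∣ r - 1) ∨
        ∃ r : ℤ, e * a * e⁻¹ = a ^ r ∧ h ∣ r + 1 := by
      intro e he
      obtain ⟨r, hr⟩ := hexp e
      have hdvd := hr2 e he r hr
      have hodd : Odd r := by
        rw [← Int.not_even_iff_odd]
        rintro ⟨c, rfl⟩
        obtain ⟨w, hw⟩ := dvd_trans (Dvd.intro h rfl) hdvd
        have : (1 : ℤ) = 2 * ((c + c) * c - w) := by linarith
        omega
      obtain ⟨c, rfl⟩ := hodd
      -- `h ∣ 2 c (c + 1)` with `h` a power of two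
      have hcc : h ∣ 2 * (c * (c + 1)) := by
        obtain ⟨w, hw⟩ := hdvd
        exact ⟨w, by linarith⟩
      have hcop : ∀ c' : ℤ, Odd c' → IsCoprime h c' := by
        rintro c' ⟨d, rfl⟩
        rw [hh]
        exact IsCoprime.pow_left ⟨-d, 1, by ring⟩
      rcases Int.even_or_odd c with hc | hc
      · refine Or.inl ⟨_, hr, ?_⟩
        rw [add_sub_cancel_right]
        exact (hcop _ (hc.add_one)).dvd_of_dvd_mul_right (by rwa [mul_assoc])
      · refine Or.inr ⟨_, hr, ?_⟩
        rw [show 2 * c + 1 + 1 = 2 * (c + 1) by ring]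
        refine (hcop _ hc).dvd_of_dvd_mul_right ?_
        rwa [show 2 * (c + 1) * c = 2 * (c * (c + 1)) by ring]
    set P : S → Prop := fun e => e * a * e⁻¹ = a ∨ e * a * e⁻¹ = a * z with hP
    -- some element of `E` maps `a` to `a z`
    obtain ⟨e, heE, hea⟩ : ∃ e ∈ E, e * a * e⁻¹ = a * z := by
      by_contra hcon
      push Not at hcon
      have hpos : ∀ e ∈ E, ∀ r : ℤ, e * a * e⁻¹ = a ^ r → h ∣ r - 1 → e * a * e⁻¹ = a := by
        intro e he r hr hd
        obtain ⟨w, hw⟩ := hd
        rcases Int.even_or_odd' w with ⟨v, rfl | rfl⟩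
        · rw [hr]
          nth_rewrite 2 [← zpow_one a]
          rw [hpow]
          exact ⟨v, by linarith⟩
        · refine absurd ?_ (hcon e he)
          rw [hr, hzdef, ← zpow_one_add, hpow]
          exact ⟨v, by linarith⟩
      set EP := EF.filter fun e => e * a * e⁻¹ = a with hEP
      set EN := EF.filter fun e => e * a * e⁻¹ ≠ a with hEN
      have hp : EP.card ≤ 2 := by
        simpa using hfib EP (fun e he => (Finset.mem_filter.1 (Finset.mem_filter.1 he).1).2) {a}
          (fun e he => Finset.mem_singleton.2 (Finset.mem_filter.1 he).2)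
      have hsum : EP.card + EN.card = 8 := by
        rw [hEP, hEN, Finset.card_filter_add_card_filter_not, hEF8]
      obtain ⟨e₁, he₁⟩ := Finset.card_pos.1 (by omega : 0 < EN.card)
      have hle : EN.card ≤ EP.card := by
        refine Finset.card_le_card_of_injOn (fun e => e₁ * e) (fun e he => ?_)
          (fun x _ y _ hxy => mul_left_cancel hxy)
        simp only [Finset.coe_filter, Set.mem_setOf_eq, hEN, Finset.mem_filter] at he he₁ ⊢
        have heE : e ∈ E := (Finset.mem_filter.1 he.1).2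
        have he₁E : e₁ ∈ E := (Finset.mem_filter.1 he₁.1).2
        obtain ⟨r, hr, hrd⟩ := (hpm e heE).resolve_left fun ⟨r, hr, hd⟩ => he.2 (hpos e heE r hr hd)
        obtain ⟨s, hs, hsd⟩ :=
          (hpm e₁ he₁E).resolve_left fun ⟨r, hr, hd⟩ => he₁.2 (hpos e₁ he₁E r hr hd)
        have hmem : e₁ * e ∈ E := mul_mem he₁E heE
        refine Finset.mem_filter.2 ⟨Finset.mem_filter.2 ⟨Finset.mem_univ _, hmem⟩, ?_⟩
        have hconj : e₁ * e * a * (e₁ * e)⁻¹ = a ^ (s * r) := by
          rw [zpow_mul, ← hs, conj_zpow, ← hr]; group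
        refine hpos _ hmem _ hconj ?_
        obtain ⟨u, hu⟩ := hrd
        obtain ⟨w, hw⟩ := hsd
        exact ⟨s * u - w, by linear_combination s * hu - hw⟩
      omega
    -- the involutions of `A ⟨e⟩` form a normal four-group
    have hcz : Commute e z := by
      have hfix : e * z * e⁻¹ = z := by
        rw [hzdef, ← conj_zpow, hea, hzdef, ← zpow_one_add, ← zpow_mul, hpow]
        obtain ⟨q, hq⟩ := h4
        exact ⟨2 * q, by rw [hq]; ring⟩
      exact mul_inv_eq_iff_eq_mul.1 hfix
    have hzcen : z ∈ Subgroup.center S := Subgroup.mem_center_iff.2 fun x => by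
      rw [← mul_inv_eq_iff_eq_mul]
      exact hbig _ z (hAn.conj_mem z (zpow_mem haA h) x) (zpow_mem haA h)
        (by rw [show x * z * x⁻¹ * (x * z * x⁻¹) = x * (z * z) * x⁻¹ by group, hzz]; group)
        hzz (fun hh => hz1 (conj_eq_one_iff.1 hh)) hz1
    have he1 : e ≠ 1 := by
      rintro rfl
      rw [one_mul, inv_one, mul_one] at hea
      exact hz1 (left_eq_mul.1 hea)
    have hez : e ≠ z := by
      rintro rfl
      rw [← Subgroup.mem_center_iff.1 hzcen a, mul_inv_cancel_right] at hea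
      exact hz1 (left_eq_mul.1 hea)
    refine exists_normal_klein_of_conj hzz (hE e heE) hz1 he1 hez hzcen fun x => ?_
    -- `[x, e] ∈ C(a) ≤ A`
    have hcomm : x * e * x⁻¹ * e⁻¹ ∈ A := by
      apply hinA
      obtain ⟨r, hr⟩ := hexp x
      obtain ⟨r', hr'⟩ := hexp x⁻¹
      obtain ⟨s, hs⟩ := hexp e
      obtain ⟨s', hs'⟩ := hexp e⁻¹
      have hrr : a ^ (r * r') = a := by
        rw [zpow_mul, ← hr, conj_zpow, ← hr']; group
      have hss : a ^ (s * s') = a := by
        rw [zpow_mul, ← hs, conj_zpow, ← hs']; group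
      calc x * e * x⁻¹ * e⁻¹ * a * (x * e * x⁻¹ * e⁻¹)⁻¹
          = x * (e * (x⁻¹ * (e⁻¹ * a * e⁻¹⁻¹) * x⁻¹⁻¹) * e⁻¹) * x⁻¹ := by group
        _ = a ^ (r * (s * (r' * s'))) := by
            rw [hs', ← conj_zpow, hr', ← zpow_mul, ← conj_zpow, hs, ← zpow_mul, ← conj_zpow, hr,
              ← zpow_mul]
        _ = a := by
            rw [show r * (s * (r' * s')) = r * r' * (s * s') by ring, zpow_mul, hrr, hss]
    rw [← hagen] at hcomm
    obtain ⟨i, hi⟩ := Subgroup.mem_zpowers_iff.1 hcomm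
    have hxe : x * e * x⁻¹ = a ^ i * e := by rw [hi]; group
    have hsq : a ^ i * e * (a ^ i * e) = 1 := by
      rw [← hxe, show x * e * x⁻¹ * (x * e * x⁻¹) = x * (e * e) * x⁻¹ by group, hE e heE]; group
    have hei : e * a ^ i * e⁻¹ = a ^ i * z ^ i := by
      rw [← conj_zpow, hea]
      exact (Commute.mul_zpow (hzdef ▸ Commute.self_zpow a h) i)
    have h0 : a ^ (2 * i + h * i) = 1 := by
      have : a ^ i * e * (a ^ i * e) = a ^ i * (e * a ^ i * e⁻¹) * (e * e) := by group
      rw [this, hE e heE, mul_one, hei, hzdef, ← zpow_mul, ← zpow_add, ← zpow_add] at hsq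
      rw [show 2 * i + h * i = i + (i + h * i) by ring]
      exact hsq
    rw [← zpow_zero a, hpow, sub_zero] at h0
    obtain ⟨q, hq⟩ := h4
    have hcop : IsCoprime h (2 * q + 1) := by
      rw [hh]; exact IsCoprime.pow_left ⟨-q, 1, by ring⟩
    have hdi : h ∣ i := by
      refine hcop.dvd_of_dvd_mul_right ?_
      obtain ⟨w, hw⟩ := h0
      exact ⟨w, by
        have : i * (2 + h) = 2 * h * w := by linarith
        rw [hq] at this ⊢
        linarith⟩
    obtain ⟨w, rfl⟩ := hdi
    rcases Int.even_or_odd' w with ⟨v, rfl | rfl⟩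
    · left
      rw [hxe, show a ^ (h * (2 * v)) = 1 by rw [← zpow_zero a, hpow]; exact ⟨v, by ring⟩, one_mul]
    · right
      rw [hxe, hzdef, show a ^ (h * (2 * v + 1)) = a ^ h by rw [hpow]; exact ⟨v, by ring⟩]

end Cfsg.Agent.Lib.Involutions
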